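import Cfsg.Agent.ExtraSymThree.Subgroups

/-!
The models of kind 0 and 2 as generated by four codes.
-/

set_option autoImplicit false

namespace CfsgLib.ExtraSymThree

/-- The generating codes. -/
def genC : List ℕ := [24, 6, 2, 1]

/-- Each element after `0` as an earlier one times a generator, kind 0. -/
def parList0 : List (ℕ × ℕ) :=
  [(0, 24), (0, 6), (0, 2), (0, 1), (24, 24), (24, 6), (24, 2), (24, 1), (6, 2), (6, 1), (2, 24),
   (2, 6), (2, 2), (2, 1), (1, 24), (1, 6), (1, 2), (96, 24), (96, 6), (96, 2), (96, 1), (30, 2),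
   (30, 1), (26, 24), (26, 6), (26, 2), (26, 1), (25, 6), (25, 2), (8, 24), (8, 6), (8, 2), (8,
   1), (7, 2), (50, 6), (50, 2), (50, 1), (14, 2), (14, 1), (4, 24), (4, 6), (3, 24), (3, 6),
   (121, 2), (103, 2), (5, 24), (5, 6), (120, 6), (120, 2), (102, 2), (98, 24), (98, 6), (98, 2),
   (98, 1), (97, 2), (32, 24), (32, 6), (32, 2), (32, 1), (31, 2), (74, 6), (74, 1), (38, 2), (38,
   1), (28, 24), (28, 6), (27, 24), (27, 6), (127, 2), (29, 24), (29, 6), (56, 6), (56, 2), (56,
   1), (20, 1), (10, 24), (10, 6), (9, 24), (9, 6), (11, 24), (11, 6), (62, 2), (62, 1), (52, 6),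
   (52, 2), (51, 6), (51, 2), (16, 24), (16, 2), (15, 2), (76, 6), (76, 2), (76, 1), (22, 2), (22,
   1), (147, 2), (111, 2), (125, 24), (125, 6), (125, 2), (125, 1), (107, 24), (107, 6), (107, 2),
   (107, 1), (173, 6), (173, 1), (119, 1), (126, 2), (122, 24), (122, 6), (104, 24), (104, 6),
   (146, 6), (80, 6), (80, 1), (44, 1), (34, 24), (34, 6), (33, 24), (33, 6), (35, 24), (35, 6),
   (86, 1), (75, 6), (75, 2), (40, 24), (40, 2), (39, 2), (148, 6), (148, 2), (46, 2), (171, 2),
   (135, 2), (131, 24), (131, 6), (131, 2), (131, 1), (53, 6), (143, 1), (68, 1), (58, 2), (57,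
   6), (57, 2), (21, 2), (82, 6), (82, 2), (112, 2), (153, 2), (117, 2), (179, 6), (179, 1), (64,
   2), (64, 1), (63, 2), (70, 2), (70, 1), (48, 24), (159, 2), (88, 2), (88, 1), (12, 6), (94, 2),
   (77, 6), (95, 2), (172, 6), (128, 24), (128, 6), (170, 6), (152, 6), (81, 6), (81, 2), (45, 2),
   (154, 2), (136, 2), (177, 2), (141, 2), (87, 2), (183, 2), (160, 2), (160, 1), (36, 6), (166,
   2), (69, 2), (54, 24), (165, 2), (184, 2), (66, 24), (90, 1), (176, 6), (189, 2)]

/-- Each element after `0` as an earlier one times a generator, kind 2. -/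
def parList2 : List (ℕ × ℕ) :=
  [(0, 24), (0, 6), (0, 2), (0, 1), (24, 24), (24, 6), (24, 2), (24, 1), (6, 2), (6, 1), (2, 24),
   (2, 6), (2, 2), (2, 1), (1, 24), (1, 6), (1, 2), (96, 24), (96, 6), (96, 2), (96, 1), (30, 2),
   (30, 1), (26, 24), (26, 6), (26, 2), (26, 1), (25, 24), (25, 2), (8, 24), (8, 6), (8, 2), (8,
   1), (7, 2), (50, 6), (50, 2), (50, 1), (14, 2), (14, 1), (4, 24), (4, 6), (3, 24), (3, 6),
   (103, 2), (121, 2), (5, 24), (5, 6), (120, 6), (120, 2), (102, 2), (98, 24), (98, 6), (98, 2),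
   (98, 1), (97, 2), (32, 24), (32, 6), (32, 2), (32, 1), (31, 2), (74, 6), (74, 1), (38, 2), (38,
   1), (28, 24), (28, 6), (27, 24), (27, 6), (127, 2), (29, 24), (29, 6), (56, 6), (56, 2), (56,
   1), (20, 1), (10, 24), (10, 6), (9, 24), (9, 6), (11, 24), (11, 6), (62, 2), (62, 1), (52, 6),
   (52, 2), (51, 24), (51, 2), (16, 24), (16, 2), (15, 2), (76, 6), (76, 2), (76, 1), (22, 2),
   (22, 1), (111, 2), (147, 2), (107, 24), (107, 6), (107, 2), (107, 1), (125, 24), (125, 6),
   (125, 2), (125, 1), (119, 6), (119, 1), (173, 1), (126, 2), (122, 24), (122, 6), (104, 24),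
   (104, 6), (146, 6), (80, 6), (80, 1), (44, 1), (34, 24), (34, 6), (33, 24), (33, 6), (35, 24),
   (35, 6), (86, 1), (75, 24), (75, 2), (40, 24), (40, 2), (39, 2), (148, 6), (148, 2), (46, 2),
   (135, 2), (171, 2), (131, 24), (131, 6), (131, 2), (131, 1), (143, 6), (143, 1), (68, 1), (58,
   2), (57, 24), (57, 2), (21, 2), (82, 6), (82, 2), (112, 2), (117, 2), (153, 2), (17, 6), (179,
   1), (64, 2), (64, 1), (63, 2), (70, 2), (70, 1), (48, 24), (159, 2), (88, 2), (88, 1), (12, 6),
   (94, 2), (77, 24), (95, 2), (118, 24), (128, 24), (128, 6), (170, 6), (152, 6), (81, 24), (81,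
   2), (45, 2), (154, 2), (136, 2), (141, 2), (177, 2), (87, 2), (183, 2), (160, 2), (160, 1),
   (36, 6), (166, 2), (69, 2), (54, 24), (165, 2), (184, 2), (66, 24), (90, 1), (176, 6), (189,
   2)]

/-- The products along a parent list starting from the known ones. -/
def parOK (k : ℕ) : List (ℕ × ℕ) → List ℕ → Bool
  | [], acc => codes.all fun a => acc.contains a
  | (a, g) :: rest, acc => acc.contains a && genC.contains g && parOK k rest (mulC k a g :: acc)

theorem parOK_induction {k : ℕ} {P : ℕ → Prop} (hstep : ∀ a g, a < 192 → g ∈ genC → P a → P (mulC k a g)) :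
    ∀ (l : List (ℕ × ℕ)) (acc : List ℕ), (∀ a ∈ acc, a < 192 ∧ P a) → parOK k l acc = true →
      ∀ a, a < 192 → P a := by
  intro l
  induction l with
  | nil =>
    intro acc hacc h a ha
    simp only [parOK, List.all_eq_true, List.contains_iff_mem] at h
    exact (hacc a (h a (mem_codes.2 ha))).2
  | cons x rest ih =>
    obtain ⟨b, g⟩ := x
    intro acc hacc h
    simp only [parOK, Bool.and_eq_true, List.contains_iff_mem] at h
    refine ih _ (fun c hc => ?_) h.2
    rcases List.mem_cons.1 hc with rfl | hc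
    · exact ⟨mulC_lt _ _ _, hstep b g (hacc b h.1.1).1 h.1.2 (hacc b h.1.1).2⟩
    · exact hacc c hc

theorem parList0_ok : parOK 0 parList0 [0] = true := by decide +kernel

theorem parList2_ok : parOK 2 parList2 [0] = true := by decide +kernel

/-- Induction along the generators. -/
theorem gen_induction {k : ℕ} (hk : k = 0 ∨ k = 2) {P : ℕ → Prop} (h0 : P 0)
    (hstep : ∀ a g, a < 192 → g ∈ genC → P a → P (mulC k a g)) : ∀ a, a < 192 → P a := by
  have h : ∀ a ∈ [0], a < 192 ∧ P a := fun a ha => by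
    rw [List.mem_singleton.1 ha]; exact ⟨by norm_num, h0⟩
  rcases hk with rfl | rfl
  · exact parOK_induction hstep _ _ h parList0_ok
  · exact parOK_induction hstep _ _ h parList2_ok

end CfsgLib.ExtraSymThree
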