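import Cfsg.Agent.ExtraSymThree.Cube
import Cfsg.Agent.ExtraSymThree.Generation
import Cfsg.Agent.ExtraSymThree.EightData
import Cfsg.Agent.CosetEnum.Index
import Cfsg.Agent.CharactersDeep.AltPresentation

/-!
Two commuting movers and the centraliser generate an alternating group of degree eight.
-/

set_option autoImplicit false

namespace CfsgLib.ExtraSymThree

open CfsgLib.CosetEnum CfsgLib.CharactersDeep.AltPresentation

/-- The inverse letter. -/
def ivE (x : ℕ) : ℕ := [1, 0, 3, 2, 4, 5, 6, 7, 8, 9, 10].getD x 0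

/-- The codes of the letters after the fourth. -/
def letterC : List ℕ := [96, 30, 66, 1, 36, 90, 3]

/-- The tables of the enumeration. -/
def cosetTb (x : ℕ) : ℕ :=
  [cosetTab0, cosetTab1, cosetTab2, cosetTab3, cosetTab4, cosetTab5, cosetTab6, cosetTab7, cosetTab8,
    cosetTab9, cosetTab10].getD x 0

/-- The words of the enumeration. -/
def cosetWd (r : ℕ) : List ℕ := cosetWords.getD r []

/-- The point function of a packed permutation. -/
def permFn (c : ℕ) (i : Fin 8) : Fin 8 := ⟨(c / 8 ^ (i : ℕ)) % 8, Nat.mod_lt _ (by norm_num)⟩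

/-- The permutation of a packed code. -/
noncomputable def permOf (c : ℕ) : Equiv.Perm (Fin 8) := by
  classical
  exact if h : Function.Bijective (permFn c) then Equiv.ofBijective _ h else 1

/-- The permutation of a code of the centraliser. -/
noncomputable def eightPerm (a : ℕ) : Equiv.Perm (Fin 8) := permOf (eightTab.getD a 0)

/-- The permutation of a letter. -/
noncomputable def letPerm (x : ℕ) : Equiv.Perm (Fin 8) := permOf (letterPerm.getD x 0)

theorem perm_inj : ((List.range 192).all fun a => decide (∀ i j : Fin 8,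
      permFn (eightTab.getD a 0) i = permFn (eightTab.getD a 0) j → i = j)) = true ∧
    ((List.range 11).all fun a => decide (∀ i j : Fin 8,
      permFn (letterPerm.getD a 0) i = permFn (letterPerm.getD a 0) j → i = j)) = true := by
  decide +kernel

theorem permOf_apply {c : ℕ} (h : ∀ i j, permFn c i = permFn c j → i = j) (i : Fin 8) :
    permOf c i = permFn c i := by
  classical
  have hb : Function.Bijective (permFn c) := Finite.injective_iff_bijective.1 fun i j => h i j
  rw [permOf, dif_pos hb, Equiv.ofBijective_apply]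

theorem eightPerm_apply {a : ℕ} (ha : a < 192) (i : Fin 8) :
    eightPerm a i = permFn (eightTab.getD a 0) i :=
  permOf_apply (of_decide_eq_true (List.all_eq_true.1 perm_inj.1 a (List.mem_range.2 ha))) i

theorem letPerm_apply {x : ℕ} (hx : x < 11) (i : Fin 8) :
    letPerm x i = permFn (letterPerm.getD x 0) i :=
  permOf_apply (of_decide_eq_true (List.all_eq_true.1 perm_inj.2 x (List.mem_range.2 hx))) i

theorem eight_step : (genC.all fun g => codes.all fun a => decide (∀ i : Fin 8,
    permFn (eightTab.getD (mulC 2 a g) 0) i =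
      permFn (eightTab.getD a 0) (permFn (eightTab.getD g 0) i))) = true := by decide +kernel

theorem eight_base : (∀ i : Fin 8, permFn (eightTab.getD 0 0) i = i) ∧
    ((List.range 7).all fun j => decide (∀ i : Fin 8,
      permFn (eightTab.getD (letterC.getD j 0) 0) i = permFn (letterPerm.getD (4 + j) 0) i)) = true := by
  decide +kernel

theorem let_inv : ((List.range 11).all fun x => decide (ivE x < 11 ∧ ∀ i : Fin 8,
    permFn (letterPerm.getD (ivE x) 0) (permFn (letterPerm.getD x 0) i) = i)) = true := by decide +kernel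

theorem words_ok : ((List.range 14).all fun r => (cosetWd r).all (fun x => decide (x < 11)) &&
    decide (∀ i : Fin 8,
      (cosetWd r).foldr (fun x j => permFn (letterPerm.getD x 0) j) i = i)) = true ∧
    (List.range 7).all (fun j => cosetWd (14 + j) == [4 + j]) = true ∧
    cosetWords.take 14 = [[2, 2, 2], [0, 2, 1, 3], [0, 6, 1, 7], [0, 7, 1, 7, 6], [8, 0, 8, 0],
      [0, 10, 0, 10, 0, 10], [2, 4, 3, 6], [2, 5, 3, 7], [2, 7, 3, 7, 5], [2, 8, 3, 8], [9, 2, 9, 2],
      [2, 10, 2, 10, 2, 10], [10, 5, 10, 9, 5], [10, 6, 10, 8, 6]] := by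
  decide +kernel

theorem enum_valid : allR (validEntry 105 11 cosetTb ivE) 7 0 = true := by decide +kernel

theorem enum_full : runDed 11 cosetTb ivE cosetWd 14 21 10 cosetSteps
    (runTree 11 cosetTb ivE cosetParN cosetParX 7) = 2 ^ (105 * 11) - 1 := by
  decide +kernel

theorem gen_letters : ∀ c ∈ genC, ∃ w : List ℕ, (∀ j ∈ w, j < 7) ∧
    w.foldr (fun j z => mulC 2 (letterC.getD j 0) z) 0 = c := by
  intro c hc
  fin_cases hc
  · exact ⟨[5, 2], by decide, by decide +kernel⟩
  · exact ⟨[1, 2, 5], by decide, by decide +kernel⟩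
  · exact ⟨[6, 3], by decide, by decide +kernel⟩
  · exact ⟨[3], by decide, by decide +kernel⟩

/-- Words for the even generators. -/
def erWords : List (List ℕ) :=
  [[0, 2, 4, 7], [4, 5, 6], [4, 5, 6, 10, 0, 2, 10], [4, 8, 9], [1, 2, 5, 8, 9, 6], [5, 8, 9, 6]]

theorem erWords_ok : ∀ j : Fin 6, (erWords.getD j []).all (fun x => decide (x < 11)) = true ∧ ∀ i : Fin 8,
    (erWords.getD j []).foldr (fun x z => permFn (letterPerm.getD x 0) z) i =
      Equiv.swap (0 : Fin 8) 1 (Equiv.swap (⟨j + 1, by omega⟩ : Fin 8) ⟨j + 2, by omega⟩ i) := by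
  decide +kernel

theorem prodw_letPerm : ∀ (w : List ℕ), (∀ x ∈ w, x < 11) → ∀ i,
    prodw letPerm w i = w.foldr (fun x z => permFn (letterPerm.getD x 0) z) i
  | [], _, i => by simp [prodw]
  | x :: w, h, i => by
    rw [prodw_cons, Equiv.Perm.mul_apply, letPerm_apply (h x List.mem_cons_self),
      prodw_letPerm w fun y hy => h y (List.mem_cons_of_mem x hy)]
    rfl

theorem prodw_pair {A B : Type*} [Group A] [Group B] (f : ℕ → A) (g : ℕ → B) (w : List ℕ) :
    prodw (fun x => (f x, g x)) w = (prodw f w, prodw g w) := by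
  induction w with
  | nil => rfl
  | cons x w ih => rw [prodw_cons, prodw_cons, prodw_cons, ih]; rfl

/-- The bound from a complete table. -/
theorem finite_and_card_le_table {X : Type*} [Group X] {iv : ℕ → ℕ} {g : ℕ → X} {H : Subgroup X} {k n : ℕ} {tb : ℕ → ℕ} {cr : ℕ → X}
    [Finite H] {B d : ℕ} (hk : k ≤ 16) (hd : n ≤ 2 ^ d) (hn : 0 < n)
    (hiv : ∀ x, x < k → iv x < k ∧ g (iv x) = (g x)⁻¹) (h0 : cr 0 = 1)
    (hv : allR (validEntry n k tb iv) d 0 = true) (hfull : B = 2 ^ (n * k) - 1)
    (hInv : Inv g H k tb cr B) :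
    Finite (Subgroup.closure (g '' {x | x < k})) ∧
      Nat.card (Subgroup.closure (g '' {x | x < k})) ≤ n * Nat.card H := by
  have hedge : ∀ i x, i < n → x < k → ∃ j, j < n ∧ cr i * g x * (cr j)⁻¹ ∈ H := by
    intro i x hi hx
    refine ⟨T tb x i, ?_, hInv i x hx ?_⟩
    · have h1 := allR_spec d 0 hv i (Nat.zero_le _) (by omega)
      unfold validEntry at h1
      rw [show Nat.blt i n = true by simpa using hi] at h1
      simp only [cond_true] at h1
      have h2 := allR_spec 4 0 h1 x (Nat.zero_le _) (by show x < 0 + 2 ^ 4; omega)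
      rw [show Nat.blt x k = true by simpa using hx] at h2
      simp only [cond_true, Bool.and_eq_true, Nat.blt_eq] at h2
      exact h2.1
    · rw [known, bit_eq, hfull, Nat.testBit_two_pow_sub_one]
      simp only [decide_eq_true_eq]
      show i * k + x < n * k
      calc i * k + x < (i + 1) * k := by rw [add_mul, one_mul]; omega
        _ ≤ n * k := Nat.mul_le_mul_right k hi
  have claim : ∀ y ∈ Subgroup.closure (g '' {x | x < k}), ∀ i, i < n →
      ∃ j, j < n ∧ cr i * y * (cr j)⁻¹ ∈ H := by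
    intro y hy
    induction hy using Subgroup.closure_induction'' with
    | mem y hy =>
      obtain ⟨x, hx, rfl⟩ := hy
      exact fun i hi => hedge i x hi hx
    | inv_mem y hy =>
      obtain ⟨x, hx, rfl⟩ := hy
      rw [← (hiv x hx).2]
      exact fun i hi => hedge i _ hi (hiv x hx).1
    | one => exact fun i hi => ⟨i, hi, by simp [H.one_mem]⟩
    | mul y z _ _ h1 h2 =>
      intro i hi
      obtain ⟨j, hj, hyj⟩ := h1 i hi
      obtain ⟨l, hl, hzl⟩ := h2 j hj
      refine ⟨l, hl, ?_⟩
      have := H.mul_mem hyj hzl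
      simpa [mul_assoc] using this
  let f : Fin n × H  → X := fun p => (p.2 : X) * cr p.1
  have hsub : ((Subgroup.closure (g '' {x | x < k})) : Set X) ⊆ Set.range f := by
    intro y hy
    obtain ⟨j, hj, hyj⟩ := claim y hy 0 hn
    rw [h0, one_mul] at hyj
    exact ⟨(⟨j, hj⟩, ⟨_, hyj⟩), inv_mul_cancel_right y (cr j)⟩
  refine ⟨((Set.finite_range f).subset hsub).to_subtype, ?_⟩
  calc Nat.card (Subgroup.closure (g '' {x | x < k}))
      ≤ Nat.card (Set.range f) := Nat.card_mono (Set.finite_range f) hsub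
    _ ≤ Nat.card (Fin n × H) := Finite.card_range_le f
    _ = n * Nat.card H := by rw [Nat.card_prod, Nat.card_fin]

variable {G : Type*} [Group G] {s : G}

namespace Frame

variable (F : Frame 2 s)

include F in
theorem eight_mul : ∀ b, b < 192 → ∀ a, a < 192 → ∀ i : Fin 8,
    permFn (eightTab.getD (mulC 2 a b) 0) i =
      permFn (eightTab.getD a 0) (permFn (eightTab.getD b 0) i) := by
  refine gen_induction (Or.inr rfl) ?_ ?_
  · intro a ha i
    have : mulC 2 a 0 = a := F.inj _ (mulC_lt _ _ _) a ha (by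
      rw [F.mul a ha 0 (by norm_num), F.el_zero, mul_one])
    rw [this, eight_base.1 i]
  · intro b g hb hg ih a ha i
    have hg' : g < 192 := by fin_cases hg <;> norm_num
    have hassoc : mulC 2 a (mulC 2 b g) = mulC 2 (mulC 2 a b) g := by
      refine F.inj _ (mulC_lt _ _ _) _ (mulC_lt _ _ _) ?_
      rw [F.mul a ha _ (mulC_lt _ _ _), F.mul b hb g hg', F.mul _ (mulC_lt _ _ _) g hg', F.mul a ha b hb,
        mul_assoc]
    have hst := fun c (hc : c < 192) => of_decide_eq_true
      (List.all_eq_true.1 (List.all_eq_true.1 eight_step g hg) c (mem_codes.2 hc))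
    rw [hassoc, hst _ (mulC_lt _ _ _) i, ih a ha, hst b hb i]


/-- The values of the letters. -/
def letVal (g h : G) (x : ℕ) : G :=
  if x = 0 then g else if x = 1 then g⁻¹ else if x = 2 then h else if x = 3 then h⁻¹
  else F.el (letterC.getD (x - 4) 0)

variable {F}

theorem Pair.letVal_rels {g h : G} (P : F.Pair g h) :
    ∀ r < 14, prodw (F.letVal g h) (cosetWd r) = 1 := by
  have hsix : ∀ z ∈ sixW, ∀ w, w < 192 → mulC 2 (app beta0 z) w = 0 →
      g * F.el z * g⁻¹ * F.el w = 1 := fun z hz w hw h0 => by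
    rw [(P.act0 z hz).2, ← F.mul _ (sixW_lt _ (P.act0 z hz).1) w hw, h0, F.el_zero]
  have hsix' : ∀ z ∈ sixW, ∀ w, w < 192 → mulC 2 (app beta1 z) w = 0 →
      h * F.el z * h⁻¹ * F.el w = 1 := fun z hz w hw h0 => by
    rw [(P.act1 z hz).2, ← F.mul _ (sixW_lt _ (P.act1 z hz).1) w hw, h0, F.el_zero]
  have i36 : (F.el 36)⁻¹ = F.el 36 :=
    inv_eq_of_mul_eq_one_right ((F.mul_self_iff (by norm_num)).2 (by decide +kernel))
  have i90 : (F.el 90)⁻¹ = F.el 90 :=
    inv_eq_of_mul_eq_one_right ((F.mul_self_iff (by norm_num)).2 (by decide +kernel))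
  have m2 : ∀ a b, a < 192 → b < 192 → F.el a * F.el b = F.el (mulC 2 a b) := fun a b ha hb =>
    (F.mul a ha b hb).symm
  obtain ⟨hc0, hc1⟩ := P.cubes
  have hw : ∀ r, r < 14 → cosetWd r = (cosetWords.take 14).getD r [] := fun r hr => by
    simp [cosetWd, List.getD_eq_getElem?_getD, List.getElem?_take, hr]
  intro r hr
  rw [hw r hr, words_ok.2.2]
  interval_cases r <;> simp only [List.getD_cons_succ, List.getD_cons_zero, prodw, List.map_cons,
    List.map_nil, List.prod_cons, List.prod_nil, mul_one, letVal, letterC, Nat.reduceEqDiff,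
    Nat.succ_ne_zero, if_true, if_false, Nat.reduceSub, one_ne_zero, OfNat.ofNat_ne_zero,
    OfNat.ofNat_ne_one]
  · rw [← mul_assoc]; exact P.cube1
  · calc g * (h * (g⁻¹ * h⁻¹)) = g * h * g⁻¹ * h⁻¹ := by group
      _ = 1 := by rw [P.comm]; group
  · simpa [mul_assoc] using hsix 66 (by decide) 1 (by norm_num) (by decide +kernel)
  · rw [m2 1 66 (by norm_num) (by norm_num)]
    simpa [mul_assoc] using hsix 1 (by decide) _ (mulC_lt _ _ _) (by decide +kernel)
  · calc F.el 36 * (g * (F.el 36 * g)) = F.el 36 * g * (F.el 36)⁻¹ * g := by rw [i36]; group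
      _ = 1 := by rw [P.inv0, inv_mul_cancel]
  · simpa [mul_assoc] using hc0
  · simpa [mul_assoc] using hsix' 96 (by decide) 66 (by norm_num) (by decide +kernel)
  · simpa [mul_assoc] using hsix' 30 (by decide) 1 (by norm_num) (by decide +kernel)
  · rw [m2 1 30 (by norm_num) (by norm_num)]
    simpa [mul_assoc] using hsix' 1 (by decide) _ (mulC_lt _ _ _) (by decide +kernel)
  · calc h * (F.el 36 * (h⁻¹ * F.el 36)) = h * (F.el 36 * h⁻¹ * (F.el 36)⁻¹) := by
          rw [i36]; simp only [mul_assoc]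
      _ = h * (F.el 36 * h * (F.el 36)⁻¹)⁻¹ := by rw [conj_inv]
      _ = 1 := by rw [P.fix0, mul_inv_cancel]
  · calc F.el 90 * (h * (F.el 90 * h)) = F.el 90 * h * (F.el 90)⁻¹ * h := by rw [i90]; group
      _ = 1 := by rw [P.inv1, inv_mul_cancel]
  · simpa [mul_assoc] using hc1
  · simp only [m2 _ _, mulC_lt, Nat.reduceLT]
    rw [← F.el_zero]
    exact congrArg F.el (by decide +kernel)
  · simp only [m2 _ _, mulC_lt, Nat.reduceLT]
    rw [← F.el_zero]
    exact congrArg F.el (by decide +kernel)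

/-- The graph of the permutation action of the centraliser. -/
noncomputable def graphSub (F : Frame 2 s) : Subgroup (G × Equiv.Perm (Fin 8)) where
  carrier := {p | ∃ a < 192, (F.el a, eightPerm a) = p}
  one_mem' := ⟨0, by norm_num, by
    rw [F.el_zero]
    exact Prod.ext rfl (Equiv.ext fun i => by rw [eightPerm_apply (by norm_num)]; exact eight_base.1 i)⟩
  mul_mem' := by
    rintro _ _ ⟨a, ha, rfl⟩ ⟨b, hb, rfl⟩
    refine ⟨mulC 2 a b, mulC_lt _ _ _, Prod.ext (F.mul a ha b hb) (Equiv.ext fun i => ?_)⟩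
    simp only [Prod.mk_mul_mk, Equiv.Perm.mul_apply]
    rw [eightPerm_apply (mulC_lt _ _ _), eightPerm_apply ha, eightPerm_apply hb]
    exact F.eight_mul b hb a ha i
  inv_mem' := by
    rintro _ ⟨a, ha, rfl⟩
    refine ⟨invC 2 a, F.invC_lt ha, Prod.ext (F.el_inv ha) (eq_inv_of_mul_eq_one_left (Equiv.ext fun i => ?_))⟩
    have hz : mulC 2 (invC 2 a) a = 0 := F.inj _ (mulC_lt _ _ _) 0 (by norm_num) (by
      rw [F.mul _ (F.invC_lt ha) a ha, F.el_inv ha, inv_mul_cancel, F.el_zero])
    rw [Equiv.Perm.mul_apply, eightPerm_apply ha, eightPerm_apply (F.invC_lt ha), Equiv.Perm.one_apply]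
    rw [← F.eight_mul a ha _ (F.invC_lt ha) i, hz, eight_base.1 i]

theorem finite_graphSub (F : Frame 2 s) : Finite F.graphSub ∧ Nat.card F.graphSub ≤ 192 := by
  let f : Fin 192 → F.graphSub := fun i => ⟨(F.el i, eightPerm i), i, i.2, rfl⟩
  have hf : Function.Surjective f := by
    rintro ⟨_, a, ha, rfl⟩
    exact ⟨⟨a, ha⟩, rfl⟩
  haveI := Finite.of_surjective f hf
  exact ⟨inferInstance, (Nat.card_le_card_of_surjective f hf).trans (le_of_eq (Nat.card_fin 192))⟩

/-- A pair of movers gives a copy of the alternating group of degree eight. -/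
theorem Pair.exists_hom {g h : G} (P : F.Pair g h) :
    ∃ φ : alternatingGroup (Fin 8) →* G, Function.Injective φ ∧
      ∀ a < 192, ∃ σ : alternatingGroup (Fin 8), (σ : Equiv.Perm (Fin 8)) = eightPerm a ∧ φ σ = F.el a := by
  classical
  obtain ⟨lv, hlv⟩ : ∃ lv, lv = fun x => (F.letVal g h x, letPerm x) := ⟨_, rfl⟩
  have letEq : ∀ j < 7, lv (4 + j) = (F.el (letterC.getD j 0), eightPerm (letterC.getD j 0)) := by
    intro j hj
    have hlt : letterC.getD j 0 < 192 := by interval_cases j <;> decide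
    rw [hlv]
    refine Prod.ext ?_ (Equiv.ext fun i => ?_)
    · simp [letVal, show 4 + j ≠ 0 by omega, show 4 + j ≠ 1 by omega, show 4 + j ≠ 2 by omega,
        show 4 + j ≠ 3 by omega]
    · show letPerm (4 + j) i = eightPerm _ i
      rw [letPerm_apply (by omega), eightPerm_apply hlt]
      exact (of_decide_eq_true (List.all_eq_true.1 eight_base.2 j (List.mem_range.2 hj)) i).symm
  have hrel : ∀ r, r < 14 → prodw lv (cosetWd r) = 1 := by
    intro r hr
    have := List.all_eq_true.1 words_ok.1 r (List.mem_range.2 hr)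
    simp only [Bool.and_eq_true, List.all_eq_true, decide_eq_true_eq] at this
    rw [hlv, prodw_pair, P.letVal_rels r hr]
    exact Prod.ext rfl (Equiv.ext fun i => by rw [prodw_letPerm _ this.1]; exact this.2 i)
  have hsub : ∀ r, r < 21 → prodw lv (cosetWd r) ∈ F.graphSub := by
    intro r hr
    by_cases h14 : r < 14
    · rw [hrel r h14]; exact one_mem _
    · obtain ⟨j, rfl⟩ : ∃ j, r = 14 + j := ⟨r - 14, by omega⟩
      have hj : j < 7 := by omega
      rw [beq_iff_eq.1 (List.all_eq_true.1 words_ok.2.1 j (List.mem_range.2 hj))]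
      rw [prodw_cons, prodw_nil, mul_one, letEq j hj]
      exact ⟨_, by interval_cases j <;> decide, rfl⟩
  have hperm : ∀ x, x < 11 → letPerm (ivE x) = (letPerm x)⁻¹ := fun x hx => by
    obtain ⟨hlt, hi⟩ := of_decide_eq_true (List.all_eq_true.1 let_inv x (List.mem_range.2 hx))
    refine eq_inv_of_mul_eq_one_left (Equiv.ext fun i => ?_)
    rw [Equiv.Perm.mul_apply, letPerm_apply hx, letPerm_apply hlt]
    exact hi i
  have hiv : ∀ x, x < 11 → ivE x < 11 ∧ lv (ivE x) = (lv x)⁻¹ := by
    intro x hx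
    refine ⟨(of_decide_eq_true (List.all_eq_true.1 let_inv x (List.mem_range.2 hx))).1, ?_⟩
    rw [hlv]
    refine Prod.ext ?_ (hperm x hx)
    show F.letVal g h (ivE x) = (F.letVal g h x)⁻¹
    by_cases h4 : x < 4
    · interval_cases x <;> simp [ivE, letVal]
    · obtain ⟨j, rfl⟩ : ∃ j, x = 4 + j := ⟨x - 4, by omega⟩
      have hj : j < 7 := by omega
      have hfix : ivE (4 + j) = 4 + j := by interval_cases j <;> rfl
      rw [hfix]
      have h2 : F.el (letterC.getD j 0) * F.el (letterC.getD j 0) = 1 := by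
        refine (F.mul_self_iff (by interval_cases j <;> decide)).2 ?_
        interval_cases j <;> decide +kernel
      simp only [letVal, show 4 + j ≠ 0 by omega, show 4 + j ≠ 1 by omega, show 4 + j ≠ 2 by omega,
        show 4 + j ≠ 3 by omega, if_false, Nat.add_sub_cancel_left]
      exact (inv_eq_of_mul_eq_one_right h2).symm
  obtain ⟨cr, hcr⟩ : ∃ cr, cr = crOf lv cosetParN cosetParX := ⟨_, rfl⟩
  have h0 : cr 0 = 1 := hcr ▸ crOf_zero _ _ _
  have hiv' : ∀ x, x < 11 → ivE x < 11 → lv (ivE x) = (lv x)⁻¹ := fun x hx _ => (hiv x hx).2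
  have hB0 : Inv lv F.graphSub 11 cosetTb cr (runTree 11 cosetTb ivE cosetParN cosetParX 7) :=
    runTree_sound hiv' (hcr ▸ crOf_step lv cosetParN cosetParX) 7
  have hB := runDed_sound hiv' h0 hrel hsub (d := 10) (steps := cosetSteps) hB0
  haveI := F.finite_graphSub.1
  obtain ⟨hfin, hcard⟩ := finite_and_card_le_table (B := _) (d := 7) (by norm_num) (by norm_num)
    (by norm_num) hiv h0 enum_valid enum_full hB
  obtain ⟨D, hD⟩ : ∃ D, D = Subgroup.closure (lv '' {x | x < 11}) := ⟨_, rfl⟩
  rw [← hD] at hfin hcard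
  haveI := hfin
  let π : D →* Equiv.Perm (Fin 8) := (MonoidHom.snd G _).comp D.subtype
  have hge : alternatingGroup (Fin 8) ≤ π.range := by
    intro σ hσ
    have h := closure_er 6 (g := σ) (Equiv.Perm.mem_alternatingGroup.1 hσ)
    refine (Subgroup.closure_le _).2 ?_ h
    rintro _ ⟨i, hi, rfl⟩
    obtain ⟨hlt, he⟩ := erWords_ok ⟨i, hi⟩
    simp only [List.all_eq_true, decide_eq_true_eq] at hlt
    refine ⟨⟨prodw lv (erWords.getD i []), ?_⟩, ?_⟩
    · rw [hD]
      refine Subgroup.list_prod_mem _ fun y hy => ?_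
      obtain ⟨x, hx, rfl⟩ := List.mem_map.1 hy
      exact Subgroup.subset_closure ⟨x, hlt x hx, rfl⟩
    · show (prodw lv (erWords.getD i [])).2 = er 6 i
      rw [hlv, prodw_pair]
      refine Equiv.ext fun z => ?_
      rw [prodw_letPerm _ hlt, he z]
      simp [er, sw, show i + 1 < 7 by omega]
  have h20 : Nat.card (alternatingGroup (Fin 8)) = 20160 := by
    rw [nat_card_alternatingGroup, Nat.card_fin]; rfl
  have hDle : Nat.card D ≤ 20160 :=
    hcard.trans ((Nat.mul_le_mul_left 105 F.finite_graphSub.2).trans (by norm_num))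
  have hrange : π.range = alternatingGroup (Fin 8) := (Subgroup.eq_of_le_of_card_ge hge (by
    rw [h20]
    exact le_trans (Nat.card_le_card_of_surjective π.rangeRestrict π.rangeRestrict_surjective) hDle)).symm
  have hbij : Function.Bijective π.rangeRestrict := (Nat.bijective_iff_surjective_and_card _).2
    ⟨π.rangeRestrict_surjective, le_antisymm (by rw [hrange, h20]; exact hDle)
      (Nat.card_le_card_of_surjective _ π.rangeRestrict_surjective)⟩
  let e : D ≃* alternatingGroup (Fin 8) :=
    (MulEquiv.ofBijective _ hbij).trans (MulEquiv.subgroupCongr hrange)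
  let φ : alternatingGroup (Fin 8) →* G := ((MonoidHom.fst G _).comp D.subtype).comp e.symm.toMonoidHom
  have hval : ∀ p : G × Equiv.Perm (Fin 8), p ∈ D → ∃ σ : alternatingGroup (Fin 8),
      (σ : Equiv.Perm (Fin 8)) = p.2 ∧ φ σ = p.1 := fun p hp =>
    ⟨e ⟨p, hp⟩, rfl, by simp [φ]⟩
  have hall : ∀ a, a < 192 → (F.el a, eightPerm a) ∈ D := by
    have h7 : ∀ j < 7, (F.el (letterC.getD j 0), eightPerm (letterC.getD j 0)) ∈ D := fun j hj => by
      rw [hD, ← letEq j hj]
      exact Subgroup.subset_closure ⟨4 + j, show 4 + j < 11 by omega, rfl⟩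
    have hmem : ∀ {a b}, a < 192 → b < 192 → (F.el a, eightPerm a) ∈ D → (F.el b, eightPerm b) ∈ D →
        (F.el (mulC 2 a b), eightPerm (mulC 2 a b)) ∈ D := fun {a b} ha hb h1 h2 => by
      obtain ⟨c, hc, hce⟩ := F.graphSub.mul_mem ⟨a, ha, rfl⟩ ⟨b, hb, rfl⟩
      have : c = mulC 2 a b := F.inj c hc _ (mulC_lt _ _ _) (by
        rw [F.mul a ha b hb]; exact congrArg Prod.fst hce)
      subst this
      rw [hce]
      exact D.mul_mem h1 h2
    have hone : (F.el 0, eightPerm 0) ∈ D := by
      rw [F.el_zero, show eightPerm 0 = 1 from Equiv.ext fun i => by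
        rw [eightPerm_apply (by norm_num)]; exact eight_base.1 i]
      exact D.one_mem
    refine gen_induction (Or.inr rfl) (P := fun a => (F.el a, eightPerm a) ∈ D) hone ?_
    have hwords : ∀ c ∈ genC, ∃ w : List ℕ, (∀ j ∈ w, j < 7) ∧
        w.foldr (fun j z => mulC 2 (letterC.getD j 0) z) 0 = c := gen_letters
    intro a c ha hc haD
    have hc' : c < 192 := by fin_cases hc <;> norm_num
    refine hmem ha hc' haD ?_
    obtain ⟨w, hw, rfl⟩ := hwords c hc
    clear hc hc'
    induction w with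
    | nil => exact hone
    | cons j w ih =>
      simp only [List.mem_cons, forall_eq_or_imp] at hw
      refine hmem (by have := hw.1; interval_cases j <;> decide) ?_ (h7 j hw.1) (ih hw.2)
      cases w with
      | nil => norm_num
      | cons k w => exact mulC_lt _ _ _
  refine ⟨φ, ?_, fun a ha => hval _ (hall a ha)⟩
  haveI : IsSimpleGroup (alternatingGroup (Fin 8)) := alternatingGroup.isSimpleGroup (by simp)
  rw [← φ.ker_eq_bot_iff]
  rcases φ.normal_ker.eq_bot_or_eq_top with h' | h'
  · exact h'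
  · exfalso
    obtain ⟨σ, -, hσ⟩ := hval _ (hall sC (by norm_num))
    have h1 : φ σ = 1 := MonoidHom.mem_ker.1 (h' ▸ Subgroup.mem_top σ)
    rw [hσ] at h1
    replace h1 : F.el sC = 1 := h1
    rw [F.el_sC] at h1
    have := F.orderOf_s
    rw [h1, orderOf_one] at this
    omega

end Frame

end CfsgLib.ExtraSymThree
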