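import Cfsg.Agent.ExtraSymThree.Generation

/-!
A group in which the fused involutions generate the centraliser is simple.
-/

set_option autoImplicit false

namespace CfsgLib.ExtraSymThree

open CfsgLib.LargeExtraspecial

/-- Each generator is a product of two of the listed codes. -/
def spanOK (k : ℕ) (l : List ℕ) : Bool :=
  genC.all fun g => l.any fun a => l.any fun b => mulC k a b == g

variable {G : Type*} [Group G] [Finite G] {k : ℕ} {s : G}

namespace Frame

variable (F : Frame k s)

theorem el_pow {b : ℕ} (hb : b < 192) : ∀ n, ∃ c < 192, F.el c = F.el b ^ n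
  | 0 => ⟨0, by norm_num, by rw [F.el_zero, pow_zero]⟩
  | n + 1 => by
    obtain ⟨c, hc, e⟩ := el_pow hb n
    exact ⟨mulC k c b, mulC_lt _ _ _, by rw [F.mul c hc b hb, e, pow_succ]⟩

/-- A frame whose fused codes generate the centraliser lives in a simple group. -/
theorem isSimpleGroup {Q : Subgroup G} (h : IsZSub Q s) (hk : k = 0 ∨ k = 2) {e : ℕ} {g : G}
    (m : F.Mover e g) {l : List ℕ} (hl : ∀ a ∈ l, a < 192 ∧ (F.Fu a ∨ a = 0))
    (hspan : spanOK k l = true) : IsSimpleGroup G := by
  haveI : Fact (Nat.Prime 2) := ⟨Nat.prime_two⟩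
  haveI : Nontrivial G := ⟨⟨s, 1, h.ne_one⟩⟩
  refine ⟨fun N hN => ?_⟩
  have hconjN : ∀ n ∈ N, ∀ y : G, y * n * y⁻¹ ∈ N := fun n hn y => hN.conj_mem n hn y
  -- the intersection with `Q` decides
  have hcomN : ∀ n ∈ N, ∀ y : G, y * n * y⁻¹ * n⁻¹ ∈ N := fun n hn y =>
    N.mul_mem (hconjN n hn y) (N.inv_mem hn)
  have hsFromQ : ∀ c ∈ N, c ∈ Q → c ≠ 1 → s ∈ N := by
    intro c hcN hcQ hc1
    by_cases hcs : c = s
    · exact hcs ▸ hcN
    obtain ⟨q, hq, hne⟩ := h.exists_not_commute hc1 hcs
    rcases h.comm_eq hq hcQ with e' | e'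
    · exact absurd (mul_inv_eq_iff_eq_mul.1 (mul_inv_eq_one.1 e')) hne
    · exact e' ▸ hcomN c hcN q
  have hsN : N ≠ ⊥ → s ∈ N := by
    intro hne
    rcases Nat.even_or_odd (Nat.card N) with hev | hodd
    · obtain ⟨y, hy⟩ := exists_prime_orderOf_dvd_card' (G := N) 2 (even_iff_two_dvd.1 hev)
      have hy2 : orderOf (y : G) = 2 := by rw [Subgroup.orderOf_coe, hy]
      obtain ⟨a, ha, hconj⟩ := F.exists_conj_code hy2
      obtain ⟨n, hn⟩ := isConj_iff.1 hconj
      have ha192 := mem_codes.1 (List.mem_filter.1 ha).1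
      have haN : F.el a ∈ N := hn ▸ hconjN _ y.2 n
      have ha1 : F.el a ≠ 1 := fun e' => by
        rw [← hn, conj_eq_one_iff] at e'
        rw [e', orderOf_one] at hy2
        omega
      by_cases hcomm : ∀ q ∈ Q, q * F.el a = F.el a * q
      · rcases h.mem_of_commutes hcomm with e' | e'
        · exact absurd e' ha1
        · exact e' ▸ haN
      · push Not at hcomm
        obtain ⟨q, hq, hne'⟩ := hcomm
        refine hsFromQ _ (hcomN _ haN q) ?_ fun e' => hne' (mul_inv_eq_iff_eq_mul.1 (mul_inv_eq_one.1 e'))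
        have h1 := h.conj_mem (F.commute ha192) (Q.inv_mem hq)
        have h2 := Q.mul_mem hq h1
        simpa [mul_assoc] using h2
    · exfalso
      have hfixs : ∀ x ∈ N, x * s = s * x → x = 1 := by
        intro x hx hxs
        have hcomm : ∀ q ∈ Q, q * x = x * q := fun q hq => by
          have hm : q * x * q⁻¹ * x⁻¹ ∈ Q := by
            have := Q.mul_mem hq (h.conj_mem hxs (Q.inv_mem hq))
            simpa [mul_assoc] using this
          exact mul_inv_eq_iff_eq_mul.1 (mul_inv_eq_one.1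
            (eq_one_of_two_of_odd h.extra.1.1 hodd hm (hcomN x hx q)))
        rcases h.mem_of_commutes hcomm with e' | e'
        · exact e'
        · exact absurd (eq_one_of_two_of_odd h.extra.1.1 hodd h.z_mem (e' ▸ hx)) h.ne_one
      have hnorm : ∀ y : G, y ∈ Subgroup.normalizer (N : Set G) := fun y => by
        rw [Subgroup.normalizer_eq_top]; exact Subgroup.mem_top y
      have hfixc : ∀ y : G, ∀ x ∈ N, x * (y * s * y⁻¹) = y * s * y⁻¹ * x → x = 1 := by
        intro y x hx hxy
        have h1 := hfixs (y⁻¹ * x * y) (by simpa using hconjN x hx y⁻¹) (by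
          calc y⁻¹ * x * y * s = y⁻¹ * (x * (y * s * y⁻¹)) * y := by group
            _ = y⁻¹ * (y * s * y⁻¹ * x) * y := by rw [hxy]
            _ = s * (y⁻¹ * x * y) := by group)
        have e2 := congrArg (fun z => y * z * y⁻¹) h1
        simpa [mul_assoc] using e2
      refine hne ((Subgroup.eq_bot_iff_forall N).2 fun x hx => ?_)
      have he2 : orderOf (F.el e) = 2 := by rw [← m.move_s, CfsgLib.Small.orderOf_conj_eq, F.orderOf_s]
      have hse2 : orderOf (s * F.el e) = 2 := by
        rw [← m.move_e, CfsgLib.Small.orderOf_conj_eq, he2]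
      have hse : g * g * s * (g * g)⁻¹ = s * F.el e := by
        rw [← m.move_e, ← m.move_s]; group
      refine hfixc (g * g) x hx ?_
      rw [hse]
      have i1 := conj_eq_inv_of_fixedPointFree he2 (hnorm _) (fun z hz hc => hfixc g z hz (by
        rw [m.move_s]; exact hc)) hx
      have i2 := conj_eq_inv_of_fixedPointFree F.orderOf_s (hnorm _) hfixs (N.inv_mem hx)
      have e3 : s * F.el e * x * (s * F.el e)⁻¹ = x := by
        calc s * F.el e * x * (s * F.el e)⁻¹ = s * (F.el e * x * (F.el e)⁻¹) * s⁻¹ := by group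
          _ = x := by rw [i1, i2, inv_inv]
      exact (mul_inv_eq_iff_eq_mul.1 e3).symm
  by_cases hne : N = ⊥
  · exact Or.inl hne
  right
  have hfuN : ∀ a ∈ l, F.el a ∈ N := fun a ha => by
    rcases (hl a ha).2 with hfu | rfl
    · obtain ⟨y, hy⟩ := isConj_iff.1 hfu
      exact hy ▸ hconjN s (hsN hne) y
    · rw [F.el_zero]; exact N.one_mem
  have hgen : ∀ c ∈ genC, F.el c ∈ N := by
    intro c hc
    simp only [spanOK, List.all_eq_true, List.any_eq_true, beq_iff_eq] at hspan
    obtain ⟨a, ha, b, hb, rfl⟩ := hspan c hc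
    rw [F.mul a (hl a ha).1 b (hl b hb).1]
    exact N.mul_mem (hfuN a ha) (hfuN b hb)
  have hall : ∀ a, a < 192 → F.el a ∈ N := by
    refine gen_induction hk (P := fun a => F.el a ∈ N) (by rw [F.el_zero]; exact N.one_mem) ?_
    intro a c ha hc haN
    have hc' : c < 192 := by fin_cases hc <;> norm_num
    rw [F.mul a ha c hc']
    exact N.mul_mem haN (hgen c hc)
  obtain ⟨S, hS⟩ := F.exists_sylow
  have hSN : (S : Subgroup G) ≤ N := by
    rw [hS]
    rintro _ ⟨a, ha, rfl⟩
    exact hall a ((closedC_spec F.syl_closed.1).2 a ha).1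
  haveI := hN
  have hfr := Sylow.normalizer_sup_eq_top (S.subtype hSN)
  rw [Sylow.coe_subtype, Subgroup.map_subgroupOf_eq_of_le hSN] at hfr
  rw [eq_top_iff, ← hfr]
  refine sup_le (fun n hn => ?_) le_rfl
  have hsS : s ∈ (S : Subgroup G) := hS ▸ ⟨sC, by decide +kernel, F.el_sC⟩
  have hm := (Subgroup.mem_normalizer_iff.1 hn s).1 hsS
  rw [hS] at hm
  obtain ⟨a, ha, hae⟩ := hm
  have ha' := ((closedC_spec F.syl_closed.1).2 a ha).1
  rcases F.syl_closed.2 a ha (fun b hb => by
    have hb' := ((closedC_spec F.syl_closed.1).2 b hb).1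
    refine (F.mul_comm_iff ha' hb').1 ?_
    have hbS : F.el b ∈ (S : Subgroup G) := hS ▸ ⟨b, hb, rfl⟩
    have h1 := (Subgroup.mem_normalizer_iff''.1 hn _).1 hbS
    rw [hS] at h1
    obtain ⟨c, hc, hce⟩ := h1
    have h2 := (Commute.conj_iff n).2 (F.commute ((closedC_spec F.syl_closed.1).2 c hc).1 : Commute (F.el c) s)
    rw [hce, show n * (n⁻¹ * F.el b * n) * n⁻¹ = F.el b by group, ← hae] at h2
    exact h2.symm.eq) with rfl | rfl
  · rw [F.el_zero] at hae
    exact absurd (conj_eq_one_iff.1 hae.symm) h.ne_one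
  · rw [F.el_sC] at hae
    obtain ⟨c, hc, rfl⟩ := F.exists_code (mul_inv_eq_iff_eq_mul.1 hae.symm)
    exact hall c hc

end Frame

end CfsgLib.ExtraSymThree
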