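import Cfsg.Agent.ExtraSymThree.Nine
import Cfsg.Agent.ExtraSymThree.SimpleGroup

/-!
A group in standard position with the embedded alternating group is simple.
-/

set_option autoImplicit false
set_option maxRecDepth 8000

namespace CfsgLib.ExtraSymThree

open CfsgLib.LargeExtraspecial

theorem two_fused : sC ∈ fuseList ∧ 30 ∈ fuseList ∧ mulC 2 sC 30 ∈ fuseList ∧ mulC 2 sC 30 < 192 := by
  decide +kernel

variable {G : Type*} [Group G] [Finite G] {s : G}

namespace Frame

variable {F : Frame 2 s} {Q : Subgroup G} {φ : alternatingGroup (Fin 8) →* G}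

theorem Std.isSimpleGroup (h : F.Std Q φ) : IsSimpleGroup G := by
  haveI : Fact (Nat.Prime 2) := ⟨Nat.prime_two⟩
  haveI : IsSimpleGroup (alternatingGroup (Fin 8)) := alternatingGroup.isSimpleGroup (by simp)
  have hs1 : s ≠ 1 := fun e => by simpa [e] using F.orderOf_s
  haveI : Nontrivial G := ⟨⟨s, 1, hs1⟩⟩
  refine ⟨fun N hN => or_iff_not_imp_left.2 fun hne => ?_⟩
  haveI := hN
  have hconjN : ∀ n ∈ N, ∀ y : G, y * n * y⁻¹ ∈ N := fun n hn y => hN.conj_mem n hn y
  rcases (hN.comap φ).eq_bot_or_eq_top with hb | ht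
  · exfalso
    have hR : ∀ a < 192, F.el a ∈ N → F.el a = 1 := fun a ha haN => by
      obtain ⟨σ, -, hσ⟩ := h.emb a ha
      have : σ ∈ N.comap φ := by rw [Subgroup.mem_comap, hσ]; exact haN
      rw [hb, Subgroup.mem_bot] at this
      rw [← hσ, this, map_one]
    rcases Nat.even_or_odd (Nat.card N) with hev | hodd
    · obtain ⟨y, hy⟩ := exists_prime_orderOf_dvd_card' (G := N) 2 (even_iff_two_dvd.1 hev)
      have hy2 : orderOf (y : G) = 2 := by rw [Subgroup.orderOf_coe, hy]
      obtain ⟨a, ha, hconj⟩ := F.exists_conj_code hy2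
      obtain ⟨n, hn⟩ := isConj_iff.1 hconj
      have := hR a ((closedC_spec F.syl_closed.1).2 a ha).1 (hn ▸ hconjN _ y.2 n)
      rw [← hn, conj_eq_one_iff] at this
      rw [this, orderOf_one] at hy2
      omega
    · have hnorm : ∀ y : G, y ∈ Subgroup.normalizer (N : Set G) := fun y => by
        rw [Subgroup.normalizer_eq_top]; exact Subgroup.mem_top y
      have hfix : ∀ x ∈ N, x * s = s * x → x = 1 := fun x hx hxs => by
        obtain ⟨a, ha, rfl⟩ := F.exists_code hxs
        exact hR a ha hx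
      have hfixc : ∀ a ∈ fuseList, ∀ x ∈ N, x * F.el a = F.el a * x → x = 1 := by
        intro a ha x hx hxa
        obtain ⟨y, hy⟩ := isConj_iff.1 (h.fu_of_mem ha)
        rw [← hy] at hxa
        have h1 := hfix (y⁻¹ * x * y) (by simpa using hconjN x hx y⁻¹) (by
          calc y⁻¹ * x * y * s = y⁻¹ * (x * (y * s * y⁻¹)) * y := by group
            _ = y⁻¹ * (y * s * y⁻¹ * x) * y := by rw [hxa]
            _ = s * (y⁻¹ * x * y) := by group)
        have e2 := congrArg (fun w => y * w * y⁻¹) h1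
        simpa [mul_assoc] using e2
      obtain ⟨-, h30, hse, hlt⟩ := two_fused
      have hord : ∀ a ∈ fuseList, orderOf (F.el a) = 2 := fun a ha => F.orderOf_el_of_fu (h.fu_of_mem ha)
      refine hne ((Subgroup.eq_bot_iff_forall N).2 fun x hx => hfixc _ hse x hx ?_)
      have i1 := conj_eq_inv_of_fixedPointFree (hord 30 h30) (hnorm _) (hfixc 30 h30) hx
      have i2 := conj_eq_inv_of_fixedPointFree F.orderOf_s (hnorm _) hfix (N.inv_mem hx)
      rw [F.mul sC (by norm_num) 30 (by norm_num), F.el_sC]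
      have e3 : s * F.el 30 * x * (s * F.el 30)⁻¹ = x := by
        calc s * F.el 30 * x * (s * F.el 30)⁻¹ = s * (F.el 30 * x * (F.el 30)⁻¹) * s⁻¹ := by group
          _ = x := by rw [i1, i2, inv_inv]
      exact (mul_inv_eq_iff_eq_mul.1 e3).symm
  · have hall : ∀ a, a < 192 → F.el a ∈ N := fun a ha => by
      obtain ⟨σ, -, hσ⟩ := h.emb a ha
      rw [← hσ, ← Subgroup.mem_comap, ht]
      exact Subgroup.mem_top σ
    obtain ⟨S, hS⟩ := F.exists_sylow
    have hSN : (S : Subgroup G) ≤ N := by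
      rw [hS]
      rintro _ ⟨a, ha, rfl⟩
      exact hall a ((closedC_spec F.syl_closed.1).2 a ha).1
    have hfr := Sylow.normalizer_sup_eq_top (S.subtype hSN)
    rw [Sylow.coe_subtype, Subgroup.map_subgroupOf_eq_of_le hSN] at hfr
    rw [eq_top_iff, ← hfr]
    refine sup_le (fun n hn => ?_) le_rfl
    have hsS : s ∈ (S : Subgroup G) := hS ▸ ⟨sC, by decide +kernel, F.el_sC⟩
    have hm := (Subgroup.mem_normalizer_iff.1 hn s).1 hsS
    rw [hS] at hm
    obtain ⟨a, ha, hae⟩ := hm
    have ha' := ((closedC_spec F.syl_closed.1).2 a ha).1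
    rcases F.syl_closed.2 a ha (fun b hb => by
      have hb' := ((closedC_spec F.syl_closed.1).2 b hb).1
      refine (F.mul_comm_iff ha' hb').1 ?_
      have hbS : F.el b ∈ (S : Subgroup G) := hS ▸ ⟨b, hb, rfl⟩
      have h1 := (Subgroup.mem_normalizer_iff''.1 hn _).1 hbS
      rw [hS] at h1
      obtain ⟨c, hc, hce⟩ := h1
      have h2 := (Commute.conj_iff n).2 (F.commute ((closedC_spec F.syl_closed.1).2 c hc).1 : Commute (F.el c) s)
      rw [hce, show n * (n⁻¹ * F.el b * n) * n⁻¹ = F.el b by group, ← hae] at h2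
      exact h2.symm.eq) with rfl | rfl
    · rw [F.el_zero] at hae
      exact absurd (conj_eq_one_iff.1 hae.symm) hs1
    · rw [F.el_sC] at hae
      obtain ⟨c, hc, rfl⟩ := F.exists_code (mul_inv_eq_iff_eq_mul.1 hae.symm)
      exact hall c hc

end Frame

end CfsgLib.ExtraSymThree
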