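import Cfsg.Agent.ExtraSymThree.Lift

/-!
The product of a mover and an outer involution has order three, as seen in the centraliser of a
conjugate of `s`.
-/

set_option autoImplicit false

namespace CfsgLib.ExtraSymThree

/-- The action of a mover on the 32 elements it normalises, the code `c` being fixed. -/
def wideTbl (t : List (ℕ × ℕ)) (c : ℕ) : List (ℕ × ℕ) :=
  t ++ t.map fun p => (mulC 2 p.1 c, mulC 2 p.2 c)

/-- The conditions on the code of the mover seen in the centraliser of the conjugate of `s`. -/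
def seenOK (T : List (ℕ × ℕ)) (l v u : ℕ) : Bool :=
  mulC 2 (mulC 2 u u) u == 0 &&
    (T.all fun p => T.all fun q =>
      !(T.contains (conC 2 l p.2, conC 2 l q.2)) || conC 2 u p.1 == q.1) &&
    T.all fun p => !(conC 2 l p.2 == v) || conC 2 p.1 u == invC 2 u

/-- In every case the product has order three. -/
def cubeOK (T : List (ℕ × ℕ)) (l v : ℕ) : Bool :=
  codes.all fun u => !(seenOK T l v u) || T.any fun p =>
    conC 2 l p.2 == 3 && mulC 2 (mulC 2 (mulC 2 u p.1) (mulC 2 u p.1)) (mulC 2 u p.1) == 0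

theorem cube_checks : cubeOK (wideTbl beta0 90) 4 36 = true ∧ cubeOK (wideTbl beta1 36) 4 90 = true ∧
    conC 2 4 30 = 90 ∧ conC 2 4 66 = 36 ∧ app beta0 sC = 30 ∧ app beta1 sC = 66 ∧
    (beta0 ++ beta1).all (fun p => sixW.contains p.1) = true ∧
    beta0.all (fun p => app beta0 p.1 == p.2) = true ∧
    beta1.all (fun p => app beta1 p.1 == p.2) = true := by
  decide +kernel

variable {G : Type*} [Group G] {s : G}

namespace Frame

variable (F : Frame 2 s)

theorem moves_wide {g : G} {t : List (ℕ × ℕ)} {c : ℕ} (hc : c < 192) (hg : F.Moves g t)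
    (hgc : g * F.el c * g⁻¹ = F.el c) : F.Moves g (wideTbl t c) := by
  intro p hp
  rcases List.mem_append.1 hp with hp | hp
  · exact hg p hp
  · obtain ⟨q, hq, rfl⟩ := List.mem_map.1 hp
    obtain ⟨h1, h2, h3⟩ := hg q hq
    refine ⟨mulC_lt _ _ _, mulC_lt _ _ _, ?_⟩
    rw [F.mul _ h1 _ hc, F.mul _ h2 _ hc, ← h3]
    conv_rhs => rw [← hgc]
    group

/-- The product of a mover and the outer involution `3` has order three. -/
theorem cube_three {g : G} {T : List (ℕ × ℕ)} {l c v e : ℕ} (hl : l < 192) (hv : v < 192)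
    (he : e < 192) (hT : F.Moves g T) (hg3 : g * g * g = 1) (hgs : g * s * g⁻¹ = F.el e)
    (hle : conC 2 l e = c) (hgc : g * F.el c * g⁻¹ = F.el c)
    (hgv : F.el v * g * (F.el v)⁻¹ = g⁻¹) (hok : cubeOK T l v = true) :
    g * F.el 3 * (g * F.el 3) * (g * F.el 3) = 1 := by
  obtain ⟨h, hh⟩ : ∃ h, h = F.el l * g := ⟨_, rfl⟩
  have hpull : ∀ p ∈ T, h * F.el p.1 * h⁻¹ = F.el (conC 2 l p.2) := fun p hp => by
    obtain ⟨-, h2, h3⟩ := hT p hp
    rw [F.el_conC hl h2, ← h3, hh]
    group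
  have hhs : h * s * h⁻¹ = F.el c := by
    rw [← hle, F.el_conC hl he, ← hgs, hh]
    group
  obtain ⟨u, hu, hue⟩ := F.exists_code (g := h⁻¹ * g * h) (by
    have hc : Commute g (F.el c) := mul_inv_eq_iff_eq_mul.1 hgc
    have := (Commute.conj_iff h⁻¹).2 hc
    rw [← hhs] at this
    simpa [mul_assoc] using this.eq)
  have hg' : g = h * F.el u * h⁻¹ := by rw [hue]; group
  have hseen : seenOK T l v u = true := by
    simp only [seenOK, Bool.and_eq_true, List.all_eq_true, Bool.or_eq_true, beq_iff_eq,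
      Bool.not_eq_eq_eq_not, Bool.not_true]
    refine ⟨⟨?_, fun p hp q hq => ?_⟩, fun p hp => ?_⟩
    · refine F.inj _ (mulC_lt _ _ _) 0 (by norm_num) ?_
      rw [F.mul _ (mulC_lt _ _ _) _ hu, F.mul u hu u hu, F.el_zero, hue]
      calc h⁻¹ * g * h * (h⁻¹ * g * h) * (h⁻¹ * g * h) = h⁻¹ * (g * g * g) * h := by group
        _ = 1 := by rw [hg3]; group
    · by_cases hc : T.contains (conC 2 l p.2, conC 2 l q.2) = true
      · right
        obtain ⟨p1, -, -⟩ := hT p hp
        obtain ⟨q1, -, -⟩ := hT q hq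
        refine F.inj _ (conC_lt _ _ _) _ q1 ?_
        have h3 := (hT _ (List.contains_iff_mem.1 hc)).2.2
        simp only at h3
        rw [← hpull p hp, ← hpull q hq] at h3
        rw [F.el_conC hu p1, hue,
          show h⁻¹ * g * h * F.el p.1 * (h⁻¹ * g * h)⁻¹ = h⁻¹ * (g * (h * F.el p.1 * h⁻¹) * g⁻¹) * h by group,
          h3]
        group
      · exact Or.inl (by simpa using hc)
    · by_cases hc : conC 2 l p.2 = v
      · right
        obtain ⟨p1, -, -⟩ := hT p hp
        refine F.inj _ (conC_lt _ _ _) _ (F.invC_lt hu) ?_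
        have h3 := hpull p hp
        rw [hc] at h3
        rw [F.el_conC p1 hu, F.el_inv hu, hue,
          show (h⁻¹ * g * h)⁻¹ = h⁻¹ * g⁻¹ * h by group, ← hgv, ← h3]
        group
      · exact Or.inl (by simpa using hc)
  have hchk := List.all_eq_true.1 hok u (mem_codes.2 hu)
  rw [hseen] at hchk
  simp only [Bool.not_true, Bool.false_or, List.any_eq_true, Bool.and_eq_true, beq_iff_eq] at hchk
  obtain ⟨p, hp, hp3, hcube⟩ := hchk
  obtain ⟨p1, -, -⟩ := hT p hp
  have h3 := hpull p hp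
  rw [hp3] at h3
  have h4 := congrArg F.el hcube
  rw [F.mul _ (mulC_lt _ _ _) _ (mulC_lt _ _ _), F.mul _ (mulC_lt _ _ _) _ (mulC_lt _ _ _),
    F.mul u hu _ p1, F.el_zero] at h4
  rw [hg', ← h3]
  calc _ = h * (F.el u * F.el p.1 * (F.el u * F.el p.1) * (F.el u * F.el p.1)) * h⁻¹ := by group
    _ = 1 := by rw [h4]; group

variable {F}

theorem Pair.cubes {g h : G} (P : F.Pair g h) :
    g * F.el 3 * (g * F.el 3) * (g * F.el 3) = 1 ∧ h * F.el 3 * (h * F.el 3) * (h * F.el 3) = 1 := by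
  obtain ⟨c0, c1, l0, l1, e0, e1, hd, ha0, ha1⟩ := cube_checks
  simp only [List.all_eq_true, List.contains_iff_mem, beq_iff_eq, List.mem_append] at hd ha0 ha1
  have moves : ∀ {x : G} {t : List (ℕ × ℕ)}, F.Acts x (app t) → (∀ p ∈ t, p.1 ∈ sixW) →
      (∀ p ∈ t, app t p.1 = p.2) → F.Moves x t := fun {x} {t} hx hd' ha p hp => by
    obtain ⟨h1, h2⟩ := hx _ (hd' p hp)
    rw [ha p hp] at h1 h2
    exact ⟨sixW_lt _ (hd' p hp), sixW_lt _ h1, h2⟩
  have conj_fix : ∀ {x y : G}, y * x * y⁻¹ = x → x * y * x⁻¹ = y := fun {x y} e =>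
    mul_inv_eq_iff_eq_mul.2 (mul_inv_eq_iff_eq_mul.1 e).symm
  have f0 : g * F.el 90 * g⁻¹ = F.el 90 := conj_fix P.fix1
  have f1 : h * F.el 36 * h⁻¹ = F.el 36 := conj_fix P.fix0
  have s0 := (P.act0 sC sC_mem_sixW).2
  have s1 := (P.act1 sC sC_mem_sixW).2
  rw [F.el_sC, e0] at s0
  rw [F.el_sC, e1] at s1
  exact ⟨F.cube_three (by norm_num) (by norm_num) (by norm_num)
      (F.moves_wide (by norm_num) (moves P.act0 (fun p hp => hd p (Or.inl hp)) ha0) f0) P.cube0 s0 l0 f0
      P.inv0 c0,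
    F.cube_three (by norm_num) (by norm_num) (by norm_num)
      (F.moves_wide (by norm_num) (moves P.act1 (fun p hp => hd p (Or.inr hp)) ha1) f1) P.cube1 s1 l1 f1
      P.inv1 c1⟩

end Frame

end CfsgLib.ExtraSymThree
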