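import Cfsg.Agent.ExtraSymThree.SimpleGroup
import Cfsg.Agent.ExtraSymThree.TwelveData
import Cfsg.Agent.MTwelveCent.Order
import Cfsg.Agent.MTwelveCent.MTwelve
import Cfsg.Agent.MTwelveUnique.Main

/-!
A simple group of kind 0 is the Mathieu group of degree twelve.
-/

set_option autoImplicit false

namespace CfsgLib.ExtraSymThree

open CfsgLib.MTwelveCent CfsgLib.FusionSimple.MathieuTab

/-- The table of a code. -/
def tblC (a : ℕ) : ℕ := twelveTab.getD a 0

theorem tbl_step : (genC.all fun g => codes.all fun a =>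
    tblC (mulC 0 a g) == mulT (tblC a) (tblC g) && mulC 0 a 0 == a) = true := by decide +kernel

theorem tbl_cover : ((codes.all fun a => cList.contains (tblC a)) &&
    (cList.all fun c => twelveTab.contains c) && Nat.beq twelveTab.length 192 &&
    tblC 0 == idT && tblC sC == zT) = true := by decide +kernel

theorem tbl_nodup : twelveTab.Nodup := by decide +kernel

theorem exists_perm_of_mem {c : ℕ} (hc : c ∈ cList) : ∃ σ : Equiv.Perm Cfsg.GolayPt, tab σ = c := by
  have h := List.all_eq_true.1 cList_checks c hc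
  simp only [Bool.and_eq_true] at h
  obtain ⟨σ, hσ⟩ := exists_of_inT h.1
  exact ⟨σ.1, hσ⟩

variable {G : Type*} [Group G] {s : G}

theorem Frame.tbl_mul (F : Frame 0 s) :
    ∀ b, b < 192 → ∀ a, a < 192 → tblC (mulC 0 a b) = mulT (tblC a) (tblC b) := by
  have hcv := tbl_cover
  simp only [Bool.and_eq_true, List.all_eq_true, List.contains_iff_mem, beq_iff_eq] at hcv
  have hstep : ∀ g ∈ genC, ∀ a, a < 192 →
      tblC (mulC 0 a g) = mulT (tblC a) (tblC g) ∧ mulC 0 a 0 = a := fun g hg a ha => by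
    simpa using List.all_eq_true.1 (List.all_eq_true.1 tbl_step g hg) a (mem_codes.2 ha)
  have hperm : ∀ a, a < 192 → ∃ σ : Equiv.Perm Cfsg.GolayPt, tab σ = tblC a := fun a ha =>
    exists_perm_of_mem (hcv.1.1.1.1 a (mem_codes.2 ha))
  refine gen_induction (Or.inl rfl)
    (P := fun b => ∀ a, a < 192 → tblC (mulC 0 a b) = mulT (tblC a) (tblC b)) ?_ ?_
  · intro a ha
    rw [(hstep 1 (by decide) a ha).2, hcv.1.2]
    obtain ⟨σ, hσ⟩ := hperm a ha
    rw [← hσ, ← tab_one, mulT_tab, mul_one]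
  · intro b g hb hg ih a ha
    have hg' : g < 192 := by fin_cases hg <;> norm_num
    have hassoc : mulC 0 a (mulC 0 b g) = mulC 0 (mulC 0 a b) g := by
      refine F.inj _ (mulC_lt _ _ _) _ (mulC_lt _ _ _) ?_
      rw [F.mul a ha _ (mulC_lt _ _ _), F.mul b hb g hg', F.mul _ (mulC_lt _ _ _) g hg',
        F.mul a ha b hb, mul_assoc]
    rw [hassoc, (hstep g hg _ (mulC_lt _ _ _)).1, ih a ha, (hstep g hg b hb).1]
    obtain ⟨σ, hσ⟩ := hperm a ha
    obtain ⟨τ, hτ⟩ := hperm b hb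
    obtain ⟨ρ, hρ⟩ := hperm g hg'
    rw [← hσ, ← hτ, ← hρ, mulT_tab, mulT_tab, mulT_tab, mulT_tab, mul_assoc]

theorem tbl_idx {a : ℕ} (ha : a < 192) : twelveTab.idxOf (tblC a) = a := by
  have hlen : twelveTab.length = 192 := by decide +kernel
  have ha' : a < twelveTab.length := by omega
  rw [tblC, List.getD_eq_getElem _ _ ha', tbl_nodup.idxOf_getElem a ha']

/-- The centraliser is coded by the tables of the Mathieu group. -/
theorem Frame.exists_coded (F : Frame 0 s) : Nonempty (Coded s) := by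
  have hcv := tbl_cover
  simp only [Bool.and_eq_true, List.all_eq_true, List.contains_iff_mem, beq_iff_eq, Nat.beq_eq] at hcv
  obtain ⟨⟨⟨⟨hin, hon⟩, hlen⟩, hid⟩, hz⟩ := hcv
  have hsurj : ∀ c ∈ cList, ∃ a, a < 192 ∧ tblC a = c := by
    intro c hc
    obtain ⟨a, ha, rfl⟩ := List.getElem_of_mem (hon c hc)
    exact ⟨a, by omega, List.getD_eq_getElem _ _ ha⟩
  let el : ℕ → G := fun c => F.el (twelveTab.idxOf c)
  have hel : ∀ a, a < 192 → el (tblC a) = F.el a := fun a ha => congrArg F.el (tbl_idx ha)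
  refine ⟨⟨el, fun g => ⟨fun hg => ?_, ?_⟩, ?_, ?_, ?_, ?_, ?_⟩⟩
  · obtain ⟨a, ha, rfl⟩ := F.exists_code hg
    exact ⟨tblC a, hin a (mem_codes.2 ha), hel a ha⟩
  · rintro ⟨c, hc, rfl⟩
    obtain ⟨a, ha, rfl⟩ := hsurj c hc
    rw [hel a ha]
    exact F.commute ha
  · intro c hc d hd h
    obtain ⟨a, ha, rfl⟩ := hsurj c hc
    obtain ⟨b, hb, rfl⟩ := hsurj d hd
    rw [hel a ha, hel b hb] at h
    rw [F.inj a ha b hb h]
  · intro c hc d hd
    obtain ⟨a, ha, rfl⟩ := hsurj c hc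
    obtain ⟨b, hb, rfl⟩ := hsurj d hd
    rw [← F.tbl_mul b hb a ha, hel _ (mulC_lt _ _ _), hel a ha, hel b hb, F.mul a ha b hb]
  · intro c hc d hd
    obtain ⟨a, ha, rfl⟩ := hsurj c hc
    obtain ⟨b, hb, rfl⟩ := hsurj d hd
    rw [← F.tbl_mul b hb a ha]
    exact hin _ (mem_codes.2 (mulC_lt _ _ _))
  · rw [← hid, hel 0 (by norm_num), F.el_zero]
  · rw [← hz, hel sC (by norm_num), F.el_sC]

/-- A simple group of kind 0 is `M₁₂`. -/
theorem Frame.isoM12 [Finite G] [IsSimpleGroup G] (F : Frame 0 s) : Cfsg.Spor.IsoM12 G := by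
  obtain ⟨K⟩ := F.exists_coded
  exact CfsgLib.MTwelveUnique.nonempty_mulEquiv_SporM12 K.card_eq

end CfsgLib.ExtraSymThree
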