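import Cfsg.Agent.ExtraSymThree.Auto
import Cfsg.Agent.ExtraSymThree.Cube
import Cfsg.Agent.ExtraSymThree.Twelve

/-!
The cases for the fused classes.
-/

set_option autoImplicit false
set_option maxRecDepth 8000

namespace CfsgLib.ExtraSymThree

open CfsgLib.LargeExtraspecial

/-- A normal `2³` with quotient `PSL₃(2)`. -/
def FirstCase (G : Type*) [Group G] : Prop :=
  ∃ (N : Subgroup G) (hN : N.Normal), IsMulCommutative N ∧ (∀ n ∈ N, n ^ 2 = 1) ∧ Nat.card N = 8 ∧
    Nonempty (G ⧸ N ≃* Matrix.ProjectiveSpecialLinearGroup (Fin 3) (ZMod 2))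

/-- The representatives of the five classes of kind 2. -/
def repC : List ℕ := [30, 66, 84, 1, 97]

/-- The five classes of kind 2. -/
def classList : List (List ℕ) := [orbQ0, orbQ1, orbQ2, orbA, orbB]

theorem class_reps : ∀ j < 5, classOK 2 (classList.getD j []) = true ∧
    repC.getD j 0 ∈ classList.getD j [] := by decide +kernel

theorem opts_fixed :
    (∀ p ∈ optW 0, keeps [true, true, false, true, false, true, false] (betaOf 0 p) = true → p = (67, 1)) ∧
    (∀ p ∈ optW 1, keeps [true, true, false, true, false, true, false] (betaOf 1 p) = true → p = (31, 1)) := by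
  decide +kernel

theorem outer_span : spanOK 0 (0 :: (orbQ0 ++ orbOut)) = true := by decide +kernel

theorem two_span : spanOK 2 (0 :: (orbQ0 ++ orbQ1 ++ orbA)) = true := by decide +kernel

theorem orbit_codes : ((orbQ0 ++ orbQ1 ++ orbQ2 ++ orbQ12).all fun a =>
    decide (a < 192) && a % 6 == 0 && !(a == sC)) &&
    (orbOut ++ orbA ++ orbB).all (fun a => decide (a < 192)) = true := by decide +kernel

theorem orbQ12_disjoint : ∀ a ∈ orbQ12, a ∉ orbQ0 := by decide +kernel

variable {G : Type*} [Group G] [Finite G] {s : G}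

namespace Frame

/-- The kind 0 gives the first case or `M₁₂`. -/
theorem zero_cases (F : Frame 0 s) {Q : Subgroup G} (h : IsZSub Q s) (hcard : Nat.card Q = 32)
    (hQ : ∀ a, a < 192 → (F.el a ∈ Q ↔ a % 6 = 0)) {e : ℕ} {g : G} (m : F.Mover e g) (hes : e ≠ sC) :
    FirstCase G ∨ Cfsg.Spor.IsoM12 G := by
  have hc := classes_ok
  simp only [Bool.and_eq_true, decide_eq_true_eq] at hc
  obtain ⟨⟨⟨⟨⟨⟨⟨h0, h12⟩, hout⟩, -⟩, -⟩, -⟩, -⟩, -⟩ := hc
  obtain ⟨horb, horb'⟩ := Bool.and_eq_true _ _ ▸ orbit_codes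
  simp only [List.all_eq_true, Bool.and_eq_true, decide_eq_true_eq, beq_iff_eq, List.mem_append] at horb horb'
  rcases Frame.mover_cases m hes with ⟨-, he⟩ | ⟨hk, -⟩
  swap
  · omega
  have hfe : F.Fu e := isConj_iff.2 ⟨g, m.move_s⟩
  by_cases hout' : ∃ a ∈ orbOut, F.Fu a
  · right
    obtain ⟨a, ha, hfa⟩ := hout'
    haveI : IsSimpleGroup G := F.isSimpleGroup h (Or.inl rfl) m (l := 0 :: (orbQ0 ++ orbOut)) (fun b hb => by
      rcases List.mem_cons.1 hb with rfl | hb
      · exact ⟨by norm_num, Or.inr rfl⟩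
      rcases List.mem_append.1 hb with hb | hb
      · exact ⟨(horb b (Or.inl (Or.inl (Or.inl hb)))).1.1, Or.inl (F.fu_class h0 he hb hfe)⟩
      · exact ⟨horb' b (Or.inl (Or.inl hb)), Or.inl (F.fu_class hout ha hb hfa)⟩) outer_span
    exact F.isoM12
  · left
    refine F.quotient_eight eight_zero basis_zero (List.mem_append_right _ he) hes m fun a ha hfa => ?_
    obtain ⟨hne, hsq⟩ := F.fu_involution ha hfa
    have hcov := List.all_eq_true.1 cover_zero a (mem_codes.2 ha)
    simp only [hsq, beq_self_eq_true, Bool.not_true, Bool.false_or, Bool.or_eq_true, beq_iff_eq,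
      List.contains_iff_mem, hne, false_or] at hcov
    rcases hcov with ((rfl | ha0) | ha12) | hao
    · simp [eightList]
    · exact List.mem_append_right _ ha0
    · obtain ⟨⟨hlt, h6⟩, hs⟩ := horb a (Or.inr ha12)
      obtain ⟨g', m'⟩ := F.exists_mover h hcard hQ hlt h6 (by simpa using hs) hfa
      rcases Frame.mover_cases m' (by simpa using hs) with ⟨-, hm⟩ | ⟨hk, -⟩
      · exact absurd hm (orbQ12_disjoint a ha12)
      · omega
    · exact absurd ⟨a, hao, hfa⟩ hout'

/-- The fused classes are given by the list. -/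
def Pattern (F : Frame 2 s) (Q : Subgroup G) (f : List Bool) : Prop :=
  (∀ a, a < 192 → (F.el a ∈ Q ↔ a % 6 = 0)) ∧ ∀ j < 5, (F.Fu (repC.getD j 0) ↔ f.getD j false = true)

variable {Q : Subgroup G}

theorem Pattern.class_iff {F : Frame 2 s} {f : List Bool} (hp : F.Pattern Q f) {j : ℕ} (hj : j < 5)
    {a : ℕ} (ha : a ∈ classList.getD j []) : F.Fu a ↔ f.getD j false = true := by
  obtain ⟨hok, hr⟩ := class_reps j hj
  exact ⟨fun hfa => (hp.2 j hj).1 (F.fu_class hok ha hr hfa),
    fun hf => F.fu_class hok hr ha ((hp.2 j hj).2 hf)⟩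

theorem Pattern.keeps {F : Frame 2 s} {a b c d e : Bool} (hp : F.Pattern Q [a, b, c, d, e]) {x : G}
    {t : List (ℕ × ℕ)} (hx : F.Acts x (app t)) :
    ExtraSymThree.keeps [a, b, c, d, e, true, false] t = true := by
  have key : ∀ z ∈ sixW, (F.Fu z ↔ ([a, b, c, d, e, true, false].getD (clsC z) false = true)) := by
    intro z hz
    have h := List.all_eq_true.1 six_classes z hz
    simp only [Bool.and_eq_true, Bool.or_eq_true, Nat.beq_eq, decide_eq_true_eq, List.contains_iff_mem] at h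
    rcases h.2 with (⟨rfl, hc⟩ | ⟨rfl, hc⟩) | ⟨hc, hm⟩
    · rw [hc]
      simpa using fun hf => (F.fu_involution (by norm_num) hf).1 rfl
    · rw [hc]
      simpa using F.fu_sC
    · rw [hp.class_iff hc hm]
      generalize clsC z = j at hc
      interval_cases j <;> rfl
  refine List.all_eq_true.2 fun z hz => beq_iff_eq.2 (Bool.eq_iff_iff.2 ?_)
  obtain ⟨h1, h2⟩ := hx z hz
  rw [← key z hz, ← key _ h1]
  have hconj : IsConj (F.el z) (F.el (app t z)) := isConj_iff.2 ⟨x, h2⟩
  exact ⟨fun hf => IsConj.trans hf hconj, fun hf => IsConj.trans hf hconj.symm⟩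

theorem Pattern.mover {F : Frame 2 s} {f : List Bool} (hp : F.Pattern Q f) (h : IsZSub Q s)
    (hcard : Nat.card Q = 32) {i : ℕ} (hi : i < 3) (hf : f.getD i false = true) :
    ∃ g, F.Mover (eW i) g ∧ ∃ p ∈ optW i, F.Moves g (betaOf i p) ∧ F.Acts g (app (betaOf i p)) := by
  have hrep : repC.getD i 0 = eW i := by interval_cases i <;> rfl
  have he : eW i < 192 ∧ eW i % 6 = 0 ∧ eW i ≠ sC := by interval_cases i <;> decide
  obtain ⟨g, m⟩ := F.exists_mover h hcard hp.1 he.1 he.2.1 he.2.2 (hrep ▸ (hp.2 i (by omega)).2 hf)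
  obtain ⟨p, hpo, hmv⟩ := m.exists_beta hi
  refine ⟨g, m, p, hpo, hmv, fun z hz => ?_⟩
  have hp12 : p.1 ∈ sixW ∧ p.2 ∈ sixW :=
    (by decide : ∀ i < 3, ∀ q ∈ optW i, q.1 ∈ sixW ∧ q.2 ∈ sixW) i hi p hpo
  have hdom := List.all_eq_true.1 (List.all_eq_true.1 (List.all_eq_true.1
    (List.all_eq_true.1 beta_domain i (List.mem_range.2 hi)) _ hp12.1) _ hp12.2) z hz
  obtain ⟨-, h2, h3⟩ := hmv _ (mem_lookup _ _ hdom)
  obtain ⟨z', hz', hze⟩ := m.six hi z hz
  have := F.inj _ h2 z' (sixW_lt z' hz') (h3.symm.trans hze)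
  exact ⟨(show app (betaOf i p) z = z' from this).symm ▸ hz', h3⟩

theorem Pattern.swap {F : Frame 2 s} {f : List Bool} (hp : F.Pattern Q f) {σ : List ℕ}
    (hσ : autoOK σ = true) {r : List ℕ} (hr : repC.map (fun a => σ.getD a 0) = r) {f' : List Bool}
    (hf : ∀ j < 5, ∃ i < 5, r.getD j 0 = repC.getD i 0 ∧ f'.getD j false = f.getD i false) :
    ∃ F' : Frame 2 s, F'.Pattern Q f' := by
  obtain ⟨F', hF'⟩ := F.exists_comp hσ
  refine ⟨F', fun a ha => ?_, fun j hj => ?_⟩
  · obtain ⟨h1, h2, h3⟩ := hF' a ha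
    rw [h2, hp.1 _ h1, h3]
  · obtain ⟨i, hi, hi1, hi2⟩ := hf j hj
    have hlt : repC.getD j 0 < 192 := by interval_cases j <;> decide
    have hrj : σ.getD (repC.getD j 0) 0 = r.getD j 0 := by
      rw [← hr]
      interval_cases j <;> rfl
    show IsConj s (F'.el _) ↔ _
    rw [(hF' _ hlt).2.1, hrj, hi1, hi2]
    exact hp.2 i hi

/-- The kind 2 gives the first case or can be put in standard position. -/
theorem two_cases (F : Frame 2 s) (h : IsZSub Q s) (hcard : Nat.card Q = 32)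
    (hQ : ∀ a, a < 192 → (F.el a ∈ Q ↔ a % 6 = 0)) {e : ℕ} {g : G} (m : F.Mover e g) (hes : e ≠ sC) :
    FirstCase G ∨ ∃ F' : Frame 2 s, F'.Pattern Q [true, true, false, true, false] ∧
      ∃ x y, F'.Pair x y := by
  classical
  obtain ⟨a, ha⟩ : ∃ a : Bool, F.Fu 30 ↔ a = true := ⟨decide (F.Fu 30), by simp⟩
  obtain ⟨b, hb⟩ : ∃ b : Bool, F.Fu 66 ↔ b = true := ⟨decide (F.Fu 66), by simp⟩
  obtain ⟨c, hc⟩ : ∃ c : Bool, F.Fu 84 ↔ c = true := ⟨decide (F.Fu 84), by simp⟩
  obtain ⟨d, hd⟩ : ∃ d : Bool, F.Fu 1 ↔ d = true := ⟨decide (F.Fu 1), by simp⟩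
  obtain ⟨d', hd'⟩ : ∃ d : Bool, F.Fu 97 ↔ d = true := ⟨decide (F.Fu 97), by simp⟩
  have hp : F.Pattern Q [a, b, c, d, d'] := ⟨hQ, fun j hj => by interval_cases j <;> assumption⟩
  have hfe : F.Fu e := isConj_iff.2 ⟨g, m.move_s⟩
  have hor : (a || b || c) = true := by
    rcases Frame.mover_cases m hes with ⟨hk, -⟩ | ⟨-, he | he | he⟩
    · omega
    · simp [show a = true from (hp.class_iff (j := 0) (by norm_num) he).1 hfe]
    · simp [show b = true from (hp.class_iff (j := 1) (by norm_num) he).1 hfe]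
    · simp [show c = true from (hp.class_iff (j := 2) (by norm_num) he).1 hfe]
  have hcons : ((List.range 3).all fun i => !([a, b, c].getD i false) ||
      (optW i).any fun p => ExtraSymThree.keeps [a, b, c, d, d', true, false] (betaOf i p)) = true := by
    refine List.all_eq_true.2 fun i hi => ?_
    have hi' := List.mem_range.1 hi
    by_cases hf : [a, b, c].getD i false = true
    · have hf' : [a, b, c, d, d'].getD i false = true := by interval_cases i <;> exact hf
      obtain ⟨x, -, p, hpo, -, hact⟩ := hp.mover h hcard hi' hf'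
      rw [Bool.or_eq_true]
      exact Or.inr (List.any_eq_true.2 ⟨p, hpo, hp.keeps hact⟩)
    · rw [Bool.or_eq_true]
      exact Or.inl (by simpa using hf)
  have hsingle : ∀ i, i < 3 → (∀ j < 5, [a, b, c, d, d'].getD j false = true → j = i) → FirstCase G := by
    intro i hi hall
    have hcc := eight_two
    simp only [Bool.and_eq_true, decide_eq_true_eq] at hcc
    obtain ⟨b0, b1, b2⟩ := basis_two
    have hsub : ∀ z, z < 192 → F.Fu z → z ∈ eightList (classList.getD i []) := by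
      intro z hz hfz
      obtain ⟨hne, hsq⟩ := F.fu_involution hz hfz
      have hcov := List.all_eq_true.1 cover_two z (mem_codes.2 hz)
      simp only [hsq, beq_self_eq_true, Bool.not_true, Bool.false_or, Bool.or_eq_true, beq_iff_eq,
        List.contains_iff_mem, hne, false_or] at hcov
      by_cases hzs : z = sC
      · subst hzs; simp [eightList]
      obtain ⟨j, hj, hzj⟩ : ∃ j < 5, z ∈ classList.getD j [] := by
        rcases hcov with ((((h1 | h1) | h1) | h1) | h1) | h1
        · exact absurd h1 hzs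
        exacts [⟨0, by norm_num, h1⟩, ⟨1, by norm_num, h1⟩, ⟨2, by norm_num, h1⟩, ⟨3, by norm_num, h1⟩,
          ⟨4, by norm_num, h1⟩]
      obtain rfl := hall j hj ((hp.class_iff hj hzj).1 hfz)
      exact List.mem_append_right _ hzj
    have hem : e ∈ eightList (classList.getD i []) := hsub e m.lt hfe
    interval_cases i
    · exact F.quotient_eight hcc.1.1 b0 hem hes m hsub
    · exact F.quotient_eight hcc.1.2 b1 hem hes m hsub
    · exact F.quotient_eight hcc.2 b2 hem hes m hsub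
  have hsw := swaps_ok
  simp only [Bool.and_eq_true, decide_eq_true_eq] at hsw
  obtain ⟨⟨so, sf⟩, sl⟩ := hsw
  obtain ⟨ro, rf', rl⟩ := swaps_reps
  have std : ∀ F' : Frame 2 s, F'.Pattern Q [true, true, false, true, false] →
      FirstCase G ∨ ∃ F' : Frame 2 s, F'.Pattern Q [true, true, false, true, false] ∧
        ∃ x y, F'.Pair x y := by
    intro F' hp'
    obtain ⟨x, mx, p, hpo, hmx, hax⟩ := hp'.mover h hcard (i := 0) (by norm_num) rfl
    obtain ⟨y, my, q, hqo, hmy, hay⟩ := hp'.mover h hcard (i := 1) (by norm_num) rfl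
    obtain rfl := opts_fixed.1 p hpo (hp'.keeps hax)
    obtain rfl := opts_fixed.2 q hqo (hp'.keeps hay)
    exact Or.inr ⟨F', hp', F'.exists_pair mx.cube my.cube hmx hmy⟩
  have outer : ∀ F' : Frame 2 s, F'.Pattern Q [true, true, false, false, true] →
      ∃ F'' : Frame 2 s, F''.Pattern Q [true, true, false, true, false] := fun F' hp' =>
    hp'.swap so ro (by decide)
  have last : ∀ (F' : Frame 2 s) (u v : Bool), F'.Pattern Q [true, false, true, u, v] →
      ∃ F'' : Frame 2 s, F''.Pattern Q [true, true, false, u, v] := fun F' u v hp' =>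
    hp'.swap sl rl (by cases u <;> cases v <;> decide)
  have first : ∀ (F' : Frame 2 s) (u v : Bool), F'.Pattern Q [false, true, true, u, v] →
      ∃ F'' : Frame 2 s, F''.Pattern Q [true, false, true, u, v] := fun F' u v hp' =>
    hp'.swap sf rf' (by cases u <;> cases v <;> decide)
  have hlist := consistency a b c d d' hcons hor
  simp only [List.mem_cons, List.not_mem_nil, or_false, List.cons.injEq, and_true] at hlist
  rcases hlist with ⟨rfl, rfl, rfl, rfl, rfl⟩ | ⟨rfl, rfl, rfl, rfl, rfl⟩ | ⟨rfl, rfl, rfl, rfl, rfl⟩ |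
    ⟨rfl, rfl, rfl, rfl, rfl⟩ | ⟨rfl, rfl, rfl, rfl, rfl⟩ | ⟨rfl, rfl, rfl, rfl, rfl⟩ |
    ⟨rfl, rfl, rfl, rfl, rfl⟩ | ⟨rfl, rfl, rfl, rfl, rfl⟩ | ⟨rfl, rfl, rfl, rfl, rfl⟩ |
    ⟨rfl, rfl, rfl, rfl, rfl⟩
  · exact Or.inl (hsingle 0 (by norm_num) fun j hj => by interval_cases j <;> simp)
  · exact Or.inl (hsingle 1 (by norm_num) fun j hj => by interval_cases j <;> simp)
  · exact Or.inl (hsingle 2 (by norm_num) fun j hj => by interval_cases j <;> simp)
  · exact std F hp
  · obtain ⟨F', hp'⟩ := outer F hp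
    exact std F' hp'
  · obtain ⟨F', hp'⟩ := last F _ _ hp
    exact std F' hp'
  · obtain ⟨F', hp'⟩ := last F _ _ hp
    obtain ⟨F'', hp''⟩ := outer F' hp'
    exact std F'' hp''
  · obtain ⟨F', hp'⟩ := first F _ _ hp
    obtain ⟨F'', hp''⟩ := last F' _ _ hp'
    exact std F'' hp''
  · obtain ⟨F', hp'⟩ := first F _ _ hp
    obtain ⟨F'', hp''⟩ := last F' _ _ hp'
    obtain ⟨F₃, hp₃⟩ := outer F'' hp''
    exact std F₃ hp₃
  · exfalso
    obtain ⟨x0, -, p0, hp0, -, ha0⟩ := hp.mover h hcard (i := 0) (by norm_num) rfl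
    obtain ⟨x1, -, p1, hp1, -, ha1⟩ := hp.mover h hcard (i := 1) (by norm_num) rfl
    obtain ⟨x2, -, p2, hp2, -, ha2⟩ := hp.mover h hcard (i := 2) (by norm_num) rfl
    obtain ⟨o, ho⟩ : ∃ o, o = fun l => [p0, p1, p2].getD l (0, 0) := ⟨_, rfl⟩
    have hb := List.all_eq_true.1 (List.all_eq_true.1 (List.all_eq_true.1 all_fused_bad p0 hp0) p1 hp1) p2 hp2
    rw [← ho] at hb
    obtain ⟨w, hw, hb'⟩ := List.any_eq_true.1 hb
    rw [Bool.and_eq_true] at hb'
    obtain ⟨hws, hwg⟩ := hb'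
    have hlet : ∀ l < 6, ∃ x, F.Acts x (app (letterTbl o l)) := by
      intro l hl
      have hp' : ∀ j < 3, F.Acts (F.el (pW j)) (app (sixW.map fun z => (z, conC 2 (pW j) z))) := by
        intro j hj
        have hj' := List.all_eq_true.1 letters_ok j (List.mem_range.2 hj)
        simp only [List.all_eq_true, Bool.and_eq_true, List.contains_iff_mem, decide_eq_true_eq] at hj'
        refine Acts.congr (Acts.code F (hj' sC sC_mem_sixW).2 fun z hz => (hj' z hz).1) fun z hz => ?_
        obtain ⟨-, -, heq⟩ : ∃ q, q ∈ (sixW.map fun z => (z, conC 2 (pW j) z)) ∧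
            q = (z, app (sixW.map fun z => (z, conC 2 (pW j) z)) z) :=
          ⟨_, mem_lookup _ z (List.any_eq_true.2
            ⟨(z, conC 2 (pW j) z), List.mem_map.2 ⟨z, hz, rfl⟩, beq_self_eq_true _⟩), rfl⟩
        obtain ⟨z', -, hz'⟩ := List.mem_map.1 (mem_lookup (sixW.map fun z => (z, conC 2 (pW j) z)) z
          (List.any_eq_true.2 ⟨(z, conC 2 (pW j) z), List.mem_map.2 ⟨z, hz, rfl⟩, beq_self_eq_true _⟩))
        simp only [Prod.mk.injEq] at hz'
        obtain ⟨rfl, hz''⟩ := hz'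
        exact hz''
      interval_cases l
      · exact ⟨x0, by simpa [letterTbl, ho] using ha0⟩
      · exact ⟨x1, by simpa [letterTbl, ho] using ha1⟩
      · exact ⟨x2, by simpa [letterTbl, ho] using ha2⟩
      · exact ⟨_, by simpa [letterTbl] using hp' 0 (by norm_num)⟩
      · exact ⟨_, by simpa [letterTbl] using hp' 1 (by norm_num)⟩
      · exact ⟨_, by simpa [letterTbl] using hp' 2 (by norm_num)⟩
    have hword : ∀ w : List ℕ, (∀ l ∈ w, l < 6) → ∃ n, F.Acts n (wordApp o w) := by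
      intro w
      induction w with
      | nil => exact fun _ => ⟨1, fun z hz => ⟨hz, by simp [wordApp]⟩⟩
      | cons l w ih =>
        intro hl
        obtain ⟨x, hx⟩ := hlet l (hl l List.mem_cons_self)
        obtain ⟨n, hn⟩ := ih fun k hk => hl k (List.mem_cons_of_mem _ hk)
        exact ⟨x * n, hx.mul hn⟩
    obtain ⟨n, hn⟩ := hword w ((by decide : ∀ v ∈ testWords, ∀ l ∈ v, l < 6) w hw)
    have hns := (hn sC sC_mem_sixW).2
    rw [beq_iff_eq.1 hws, F.el_sC] at hns
    obtain ⟨z0, hz0, rfl⟩ := F.exists_code (mul_inv_eq_iff_eq_mul.1 hns)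
    have := List.all_eq_true.1 hwg z0 (mem_codes.2 hz0)
    obtain ⟨z, hz, hne⟩ := List.any_eq_true.1 this
    simp only [Bool.not_eq_eq_eq_not, Bool.not_true, beq_eq_false_iff_ne] at hne
    exact hne (F.inj _ (conC_lt _ _ _) _ (sixW_lt _ (hn z hz).1) (by
      rw [F.el_conC hz0 (sixW_lt z hz)]; exact (hn z hz).2))

end Frame

end CfsgLib.ExtraSymThree
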