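import Cfsg.Agent.ExtraSymThree.Eight
import Cfsg.Agent.ExtraSymThree.Cases

/-!
The two classes of involutions in standard position, and a criterion for being the whole group.
-/

set_option autoImplicit false
set_option maxRecDepth 8000

namespace CfsgLib.ExtraSymThree

/-- The fused involutions in standard position. -/
def fuseList : List ℕ := sC :: (orbQ0 ++ orbQ1 ++ orbA)

/-- The other involutions in standard position. -/
def restList : List ℕ := orbQ2 ++ orbB

theorem list_class : ∀ a ∈ fuseList ++ restList, a = sC ∨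
    ∃ j < 5, a ∈ classList.getD j [] ∧ (([true, true, false, true, false].getD j false = true) ↔ a ∈ fuseList) := by
  decide +kernel

theorem list_conj : ∀ j < 5, ∀ a ∈ classList.getD j [], a < 192 ∧
    ∃ g ∈ codes, conC 2 g (repC.getD j 0) = a := by decide +kernel

/-- All elements commuting with an involution other than `sC` have order dividing 32. -/
theorem two_power_check : (codes.all fun e => !(mulC 2 e e == 0 && !(e == 0) && !(e == sC)) ||
    (centC 2 e).all fun b => (Nat.iterate (fun c => mulC 2 c c) 5 b) == 0) = true := by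
  decide +kernel

variable {G : Type*} [Group G] [Finite G] {s : G}

namespace Frame

/-- Standard position with the embedded alternating group. -/
structure Std (F : Frame 2 s) (Q : Subgroup G) (φ : alternatingGroup (Fin 8) →* G) : Prop where
  pattern : F.Pattern Q [true, true, false, true, false]
  inj : Function.Injective φ
  emb : ∀ a < 192, ∃ σ : alternatingGroup (Fin 8), (σ : Equiv.Perm (Fin 8)) = eightPerm a ∧ φ σ = F.el a

variable {F : Frame 2 s} {Q : Subgroup G} {φ : alternatingGroup (Fin 8) →* G}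

theorem Std.el_eq (h : F.Std Q φ) {a : ℕ} (ha : a < 192) {σ : alternatingGroup (Fin 8)}
    (hσ : ∀ i, (σ : Equiv.Perm (Fin 8)) i = permFn (eightTab.getD a 0) i) : φ σ = F.el a := by
  obtain ⟨τ, h1, h2⟩ := h.emb a ha
  rw [← h2]
  refine congrArg φ (Subtype.ext (Equiv.ext fun i => ?_))
  rw [hσ i, h1, eightPerm_apply ha]

theorem Std.el_mem_range (h : F.Std Q φ) {a : ℕ} (ha : a < 192) : F.el a ∈ φ.range := by
  obtain ⟨σ, -, h2⟩ := h.emb a ha
  exact ⟨σ, h2⟩

/-- Conjugation inside the image, checked on points. -/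
theorem Std.conj_eq (h : F.Std Q φ) {a b : ℕ} (ha : a < 192) (hb : b < 192) (σ : alternatingGroup (Fin 8))
    (hσ : ∀ i, (σ : Equiv.Perm (Fin 8)) (permFn (eightTab.getD a 0) i) =
      permFn (eightTab.getD b 0) ((σ : Equiv.Perm (Fin 8)) i)) :
    φ σ * F.el a * (φ σ)⁻¹ = F.el b := by
  obtain ⟨α, h1, h2⟩ := h.emb a ha
  obtain ⟨β, h3, h4⟩ := h.emb b hb
  rw [← h2, ← h4, ← map_inv, ← map_mul, ← map_mul]
  refine congrArg φ ?_
  rw [mul_inv_eq_iff_eq_mul]
  refine Subtype.ext (Equiv.ext fun i => ?_)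
  simp only [Subgroup.coe_mul, Equiv.Perm.mul_apply, h1, h3, eightPerm_apply ha, eightPerm_apply hb]
  exact hσ i

theorem Std.fu_of_mem (h : F.Std Q φ) {a : ℕ} (ha : a ∈ fuseList) : F.Fu a := by
  rcases list_class a (List.mem_append_left _ ha) with rfl | ⟨j, hj, hm, hiff⟩
  · exact F.fu_sC
  · exact (h.pattern.class_iff hj hm).2 (hiff.2 ha)

theorem Std.not_fu_of_mem (h : F.Std Q φ) {a : ℕ} (ha : a ∈ restList) : ¬ F.Fu a := by
  have hne : ∀ b ∈ restList, b ∉ fuseList := by decide +kernel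
  rcases list_class a (List.mem_append_right _ ha) with rfl | ⟨j, hj, hm, hiff⟩
  · exact absurd ha (by decide +kernel)
  · exact fun hf => hne a ha (hiff.1 ((h.pattern.class_iff hj hm).1 hf))

theorem involution_cases {a : ℕ} (ha : a < 192) (h0 : a ≠ 0) (h2 : mulC 2 a a = 0) :
    a ∈ fuseList ∨ a ∈ restList := by
  have hcov := List.all_eq_true.1 cover_two a (mem_codes.2 ha)
  simp only [h2, beq_self_eq_true, Bool.not_true, Bool.false_or, Bool.or_eq_true, beq_iff_eq,
    List.contains_iff_mem, h0, false_or] at hcov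
  simp only [fuseList, restList, List.mem_cons, List.mem_append]
  tauto

/-- An element commuting with a fused and an unfused involution has order dividing 32. -/
theorem pow_of_commute (F : Frame 2 s) {z u x : G} (hz : IsConj s z) (hu2 : orderOf u = 2)
    (hus : ¬ IsConj s u) (huz : u * z = z * u) (hxz : x * z = z * x) (hxu : x * u = u * x) :
    x ^ 32 = 1 := by
  obtain ⟨y, rfl⟩ := isConj_iff.1 hz
  have hc : ∀ {w : G}, w * (y * s * y⁻¹) = y * s * y⁻¹ * w → Commute (y⁻¹ * w * y) s := fun {w} hw => by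
    have := (Commute.conj_iff y⁻¹).2 (show Commute w (y * s * y⁻¹) from hw)
    simpa [mul_assoc] using this
  obtain ⟨b, hb, hbe⟩ := F.exists_code (hc hxz).eq
  obtain ⟨c, hc', hce⟩ := F.exists_code (hc huz).eq
  have hord : orderOf (F.el c) = 2 := by
    rw [hce, ← hu2]
    simpa [mul_assoc] using
      orderOf_injective (MulAut.conj y⁻¹).toMonoidHom (MulAut.conj y⁻¹).injective u
  have hc0 : c ≠ 0 := fun e => by rw [e, F.el_zero, orderOf_one] at hord; omega
  have hcs : c ≠ sC := fun e => hus (isConj_iff.2 ⟨y, by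
    rw [e, F.el_sC] at hce; rw [hce]; group⟩)
  have hc2 : mulC 2 c c = 0 := (F.mul_self_iff hc').1 (by
    rw [← sq]; exact (congrArg (F.el c ^ ·) hord).symm.trans (pow_orderOf_eq_one _))
  have hmem : b ∈ centC 2 c := by
    refine List.mem_filter.2 ⟨mem_codes.2 hb, beq_iff_eq.2 ((F.mul_comm_iff hb hc').1 ?_)⟩
    rw [hbe, hce]
    calc y⁻¹ * x * y * (y⁻¹ * u * y) = y⁻¹ * (x * u) * y := by group
      _ = y⁻¹ * u * y * (y⁻¹ * x * y) := by rw [hxu]; group
  have h := List.all_eq_true.1 two_power_check c (mem_codes.2 hc')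
  simp only [hc2, beq_self_eq_true, beq_eq_false_iff_ne.2 hc0, beq_eq_false_iff_ne.2 hcs, Bool.not_false,
    Bool.and_self, Bool.not_true, Bool.false_or, List.all_eq_true, beq_iff_eq] at h
  have hit : ∀ j, F.el (Nat.iterate (fun c => mulC 2 c c) j b) = F.el b ^ 2 ^ j ∧
      Nat.iterate (fun c => mulC 2 c c) j b < 192 := by
    intro j
    induction j with
    | zero => exact ⟨(pow_one _).symm, hb⟩
    | succ j ih =>
      rw [Function.iterate_succ', Function.comp_apply]
      refine ⟨?_, mulC_lt _ _ _⟩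
      rw [F.mul _ ih.2 _ ih.2, ih.1, ← pow_add, pow_succ, mul_two]
  have h5 := (hit 5).1
  rw [h b hmem, F.el_zero, hbe] at h5
  calc x ^ 32 = (MulAut.conj y) ((y⁻¹ * x * y) ^ 32) := by
        rw [map_pow]; simp [mul_assoc]
    _ = 1 := by rw [show (32 : ℕ) = 2 ^ 5 from rfl, ← h5, map_one]

/-- A 2-subgroup of `C` above a coded subgroup with one fused central element equals it. -/
theorem eq_of_two_group (F : Frame 2 s) {C : Subgroup G} {l : List ℕ} (hcl : closedC 2 l = true)
    (huniq : ∀ d ∈ l, F.Fu d → (∀ b ∈ l, mulC 2 d b = mulC 2 b d) → d = sC) (hsl : sC ∈ l)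
    (hcen : ∀ b ∈ l, mulC 2 sC b = mulC 2 b sC)
    (hC : ∀ a < 192, F.el a ∈ C → a ∈ l) {P : Subgroup G} (hP : IsPGroup 2 P)
    (hle : F.subC l hcl ≤ P) (hPC : P ≤ C) : P = F.subC l hcl := by
  haveI : Fact (Nat.Prime 2) := ⟨Nat.prime_two⟩
  refine le_antisymm ?_ hle
  by_contra hlt
  obtain ⟨n, hnP, hn⟩ := SetLike.not_le_iff_exists.1 hlt
  haveI : Group.IsNilpotent P := hP.isNilpotent
  have hne : (F.subC l hcl).subgroupOf P ≠ ⊤ := fun e => hn (Subgroup.subgroupOf_eq_top.1 e hnP)
  obtain ⟨m, hmN, hmT⟩ := SetLike.exists_of_lt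
    (Group.normalizerCondition_of_isNilpotent _ (lt_top_iff_ne_top.2 hne))
  have hmT' : (m : G) ∉ F.subC l hcl := fun e => hmT (Subgroup.mem_subgroupOf.2 e)
  have hmem : ∀ y ∈ F.subC l hcl, (m : G) * y * (m : G)⁻¹ ∈ F.subC l hcl ∧
      (m : G)⁻¹ * y * (m : G) ∈ F.subC l hcl := by
    intro y hy
    have hy' : (⟨y, hle hy⟩ : P) ∈ (F.subC l hcl).subgroupOf P := Subgroup.mem_subgroupOf.2 hy
    exact ⟨(Subgroup.mem_normalizer_iff.1 hmN _).1 hy', (Subgroup.mem_normalizer_iff''.1 hmN _).1 hy'⟩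
  have hlt' : ∀ a ∈ l, a < 192 := fun a ha => ((closedC_spec hcl).2 a ha).1
  obtain ⟨a, ha, hae⟩ := (hmem s ⟨sC, hsl, F.el_sC⟩).1
  have hfa : F.Fu a := isConj_iff.2 ⟨m, hae.symm⟩
  obtain rfl : a = sC := huniq a ha hfa fun b hb => by
    refine (F.mul_comm_iff (hlt' a ha) (hlt' b hb)).1 ?_
    obtain ⟨c, hc, hce⟩ := (hmem _ ⟨b, hb, rfl⟩).2
    have h1 : Commute s (F.el c) := by
      have h0 : Commute (F.el sC) (F.el c) := (F.mul_comm_iff (by norm_num) (hlt' c hc)).2 (hcen c hc)
      rwa [F.el_sC] at h0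
    have h2 := (Commute.conj_iff (m : G)).2 (hce ▸ h1)
    rw [hae]
    simpa [mul_assoc] using h2.eq
  rw [F.el_sC] at hae
  obtain ⟨b, hb, hbe⟩ := F.exists_code (mul_inv_eq_iff_eq_mul.1 hae.symm)
  exact hmT' ⟨b, hC b hb (hbe.symm ▸ hPC m.2), hbe⟩

/-- The even permutations conjugating the representatives. -/
def repPerm (j : ℕ) : Equiv.Perm (Fin 8) :=
  if j = 0 then Equiv.swap 1 2 * Equiv.swap 5 6 else if j = 1 then Equiv.swap 1 2 * Equiv.swap 5 7
  else if j = 2 then 1 else if j = 3 then Equiv.swap 1 3 * Equiv.swap 4 5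
  else Equiv.swap 1 2 * Equiv.swap 5 6

theorem repPerm_ok : ∀ j : Fin 5, Equiv.Perm.sign (repPerm j) = 1 ∧ ∀ i : Fin 8,
    repPerm j (permFn (eightTab.getD (repC.getD j 0) 0) i) =
      permFn (eightTab.getD (if j = 2 ∨ j = 4 then 84 else sC) 0) (repPerm j i) := by
  decide +kernel

/-- A subgroup with the centralisers of `s` and of `el 84` is everything. -/
theorem Std.eq_top [IsSimpleGroup G] (h : F.Std Q φ) (X : Subgroup G) (hX : φ.range ≤ X)
    (hu : ∀ x : G, x * F.el 84 = F.el 84 * x → x ∈ X) : X = ⊤ := by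
  haveI : Fact (Nat.Prime 2) := ⟨Nat.prime_two⟩
  have hel : ∀ a, a < 192 → F.el a ∈ X := fun a ha => hX (h.el_mem_range ha)
  have hs : ∀ x : G, x * s = s * x → x ∈ X := fun x hx => by
    obtain ⟨a, ha, rfl⟩ := F.exists_code hx
    exact hel a ha
  -- centralisers of involutions of `X`
  obtain ⟨S, hS⟩ := F.exists_sylow
  have hSX : (S : Subgroup G) ≤ X := by
    rw [hS]
    rintro _ ⟨a, ha, rfl⟩
    exact hel a ((closedC_spec F.syl_closed.1).2 a ha).1
  have hcent : ∀ z ∈ X, orderOf z = 2 → ∀ x : G, x * z = z * x → x ∈ X := by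
    intro z hz hz2 x hxz
    obtain ⟨R, hR⟩ := (IsPGroup.of_card (p := 2) (n := 1)
      (show Nat.card (Subgroup.zpowers (⟨z, hz⟩ : X)) = 2 ^ 1 by
        rw [Nat.card_zpowers, ← Subgroup.orderOf_coe, hz2, pow_one])).exists_le_sylow
    obtain ⟨g, hg⟩ := MulAction.exists_smul_eq X R (S.subtype hSX)
    have hm : g * (⟨z, hz⟩ : X) * g⁻¹ ∈ (S.subtype hSX : Subgroup X) := by
      rw [← hg, Sylow.coe_subgroup_smul]
      exact ⟨_, hR (Subgroup.mem_zpowers _), rfl⟩
    rw [Sylow.coe_subtype, Subgroup.mem_subgroupOf, hS] at hm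
    obtain ⟨a, ha, hae⟩ := hm
    have ha' := ((closedC_spec F.syl_closed.1).2 a ha).1
    simp only [Subgroup.coe_mul, Subgroup.coe_inv] at hae
    -- move the code to `sC` or `84`
    have hconj : ∃ w ∈ X, w * F.el a * w⁻¹ = s ∨ w * F.el a * w⁻¹ = F.el 84 := by
      have hord : orderOf (F.el a) = 2 := by
        rw [hae, ← hz2]
        exact orderOf_injective (MulAut.conj (g : G)).toMonoidHom (MulAut.conj (g : G)).injective z
      have ha0 : a ≠ 0 := fun e => by rw [e, F.el_zero, orderOf_one] at hord; omega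
      have ha2 : mulC 2 a a = 0 := (F.mul_self_iff ha').1 (by
        rw [← sq]; exact (congrArg (F.el a ^ ·) hord).symm.trans (pow_orderOf_eq_one _))
      have hmem : a ∈ fuseList ++ restList := List.mem_append.2 (involution_cases ha' ha0 ha2)
      rcases list_class a hmem with rfl | ⟨j, hj, hm, -⟩
      · exact ⟨1, X.one_mem, Or.inl (by rw [F.el_sC]; group)⟩
      · obtain ⟨-, l, hl, hla⟩ := list_conj j hj a hm
        have hl' := mem_codes.1 hl
        have hrep : repC.getD j 0 < 192 := by interval_cases j <;> decide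
        obtain ⟨hsign, hperm⟩ := repPerm_ok ⟨j, hj⟩
        have hb : (if (⟨j, hj⟩ : Fin 5) = 2 ∨ (⟨j, hj⟩ : Fin 5) = 4 then 84 else sC) < 192 := by
          split <;> norm_num
        have hc := h.conj_eq hrep hb ⟨repPerm j, Equiv.Perm.mem_alternatingGroup.2 hsign⟩ hperm
        refine ⟨φ ⟨repPerm j, Equiv.Perm.mem_alternatingGroup.2 hsign⟩ * (F.el l)⁻¹,
          X.mul_mem (hX ⟨_, rfl⟩) (X.inv_mem (hel l hl')), ?_⟩
        rw [← hla, F.el_conC hl' hrep]
        generalize φ ⟨repPerm j, Equiv.Perm.mem_alternatingGroup.2 hsign⟩ = p at hc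
        rw [show p * (F.el l)⁻¹ * (F.el l * F.el (repC.getD j 0) * (F.el l)⁻¹) * (p * (F.el l)⁻¹)⁻¹ =
          p * F.el (repC.getD j 0) * p⁻¹ by group, hc]
        split
        · exact Or.inr rfl
        · exact Or.inl F.el_sC
    obtain ⟨w, hw, hw'⟩ := hconj
    have key : Commute (w * (g : G) * x * (w * (g : G))⁻¹) (w * F.el a * w⁻¹) := by
      have := (Commute.conj_iff (w * (g : G))).2 (show Commute x z from hxz)
      rwa [show w * (g : G) * z * (w * (g : G))⁻¹ = w * F.el a * w⁻¹ by rw [hae]; group] at this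
    have hx' : w * (g : G) * x * (w * (g : G))⁻¹ ∈ X := by
      rcases hw' with e | e <;> rw [e] at key
      exacts [hs _ key.eq, hu _ key.eq]
    have hwg : w * (g : G) ∈ X := X.mul_mem hw g.2
    simpa [mul_assoc] using X.mul_mem (X.mul_mem (X.inv_mem hwg) hx') hwg
  -- all conjugates of `el 84` lie in `X`
  have hu84 : orderOf (F.el 84) = 2 := orderOf_eq_prime
    (by rw [sq]; exact (F.mul_self_iff (by norm_num)).2 (by decide +kernel))
    (F.el_ne_one (by norm_num) (by norm_num))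
  have hall : ∀ y : G, y * F.el 84 * y⁻¹ ∈ X := by
    intro y
    have hy2 : orderOf (y * F.el 84 * y⁻¹) = 2 := by
      exact (orderOf_injective (MulAut.conj y).toMonoidHom (MulAut.conj y).injective _).trans hu84
    rcases conj_or_common F.orderOf_s hy2 with hc | ⟨z, hz2, hzs, hzy⟩
    · exact absurd (hc.trans (isConj_iff.2 ⟨y⁻¹, by group⟩)) (h.not_fu_of_mem (a := 84) (by decide +kernel))
    · exact hcent z (hs z hzs) hz2 _ hzy.symm
  have hncl : Subgroup.normalClosure ({F.el 84} : Set G) ≤ X := (Subgroup.closure_le _).2 fun y hy => by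
    obtain ⟨z, hz, hc⟩ := Group.mem_conjugatesOfSet_iff.1 hy
    obtain ⟨w, hw⟩ := isConj_iff.1 hc
    rw [Set.mem_singleton_iff.1 hz] at hw
    exact hw ▸ hall w
  rcases (Subgroup.normalClosure_normal (s := ({F.el 84} : Set G))).eq_bot_or_eq_top with h' | h'
  · exfalso
    have := Subgroup.subset_normalClosure (s := ({F.el 84} : Set G)) (Set.mem_singleton _)
    rw [h', SetLike.mem_coe, Subgroup.mem_bot] at this
    rw [this, orderOf_one] at hu84
    omega
  · exact top_le_iff.1 (h' ▸ hncl)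

end Frame

end CfsgLib.ExtraSymThree
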