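import Cfsg.Agent.ExtraSymThree.Param

/-!
The action of elements normalising `Q` in terms of the parametrisation.
-/

set_option autoImplicit false

namespace CfsgLib.ExtraSymThree

/-- A map on codes given by the images of the generators respects products. -/
def actOK (f : ℕ → ℕ) : Bool :=
  (List.range 32).all (fun q =>
      decide (f q < 32) && f q == qMul (qMul (q / 16 * 16) (f (q / 4 % 4 * 4))) (f (q % 4))) &&
    f 12 == qMul (f 4) (f 8) && f 3 == qMul (f 1) (f 2) && f 0 == 0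

variable {G : Type*} [Group G] {s : G} {Q : Subgroup G} {x u v : G}

/-- The parametrisation attached to a duo. -/
abbrev Duo.phi (_d : Duo s Q x u v) (q : ℕ) : G := phiQ s u (x * u * x⁻¹) v (x * v * x⁻¹) q

namespace Duo

theorem phi_zero (d : Duo s Q x u v) : d.phi 0 = 1 := by simp [Duo.phi, phiQ, qElt]

theorem phi_sixteen (d : Duo s Q x u v) : d.phi 16 = s := by simp [Duo.phi, phiQ, qElt]

theorem phi_gens (d : Duo s Q x u v) : d.phi 4 = u ∧ d.phi 8 = x * u * x⁻¹ ∧ d.phi 1 = v ∧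
    d.phi 2 = x * v * x⁻¹ := by
  simp [Duo.phi, phiQ, qElt]

theorem phi_mul (d : Duo s Q x u v) (h : Pre s Q x) {p r : ℕ} (hp : p < 32) (hr : r < 32) :
    d.phi (qMul p r) = d.phi p * d.phi r := phiQ_mul h d hp hr

theorem phi_mem (d : Duo s Q x u v) (h : Pre s Q x) (q : ℕ) : d.phi q ∈ Q := by
  have hu' := h.x_mem u d.left.mem
  have hv' := h.x_mem v d.right.mem
  have key : ∀ {a b : G}, a ∈ Q → b ∈ Q → ∀ n, qElt a b n ∈ Q := by
    intro a b ha hb n
    rcases n with _ | _ | _ | _ | n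
    exacts [one_mem _, ha, hb, mul_mem ha hb, one_mem _]
  exact mul_mem (mul_mem (pow_mem h.s_mem _) (key d.left.mem hu' _)) (key d.right.mem hv' _)

theorem phi_eq_one (d : Duo s Q x u v) (h : Pre s Q x) {q : ℕ} (hq : q < 32) (he : d.phi q = 1) :
    q = 0 := by
  set A := Subgroup.closure ({u, x * u * x⁻¹} : Set G) with hA
  have huA : u ∈ A := Subgroup.subset_closure (by simp)
  have hu'A : x * u * x⁻¹ ∈ A := Subgroup.subset_closure (by simp)
  have hle : A ≤ A.comap (MulAut.conj x).toMonoidHom := (Subgroup.closure_le _).mpr (by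
    rintro y (rfl | rfl)
    · simpa using hu'A
    · show x * (x * u * x⁻¹) * x⁻¹ ∈ A
      rw [d.left.turn]
      exact mul_mem huA hu'A)
  have hxA : ∀ y ∈ A, x * y * x⁻¹ ∈ A := fun y hy => by simpa using hle hy
  have hsA : s ∈ A := d.left.sq ▸ mul_mem huA huA
  have hqA : ∀ n, qElt u (x * u * x⁻¹) n ∈ A := by
    intro n
    rcases n with _ | _ | _ | _ | n
    exacts [one_mem _, huA, hu'A, mul_mem huA hu'A, one_mem _]
  have hb : qElt v (x * v * x⁻¹) (q % 4) ∈ A := by
    rw [← inv_mul_cancel_left (s ^ (q / 16) * qElt u (x * u * x⁻¹) (q / 4 % 4))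
      (qElt v (x * v * x⁻¹) (q % 4))]
    refine mul_mem (inv_mem (mul_mem (pow_mem hsA _) (hqA _))) ?_
    have he' : s ^ (q / 16) * qElt u (x * u * x⁻¹) (q / 4 % 4) * qElt v (x * v * x⁻¹) (q % 4) = 1 := he
    rw [he']
    exact one_mem _
  have hb0 : q % 4 = 0 := by
    by_contra hne
    apply d.v_notMem
    have hlt : q % 4 < 4 := Nat.mod_lt _ (by norm_num)
    interval_cases hq4 : q % 4
    · exact absurd rfl hne
    · exact hb
    · have hb' : x * v * x⁻¹ ∈ A := hb
      simpa only [h.x_sq_conj] using hxA _ (hxA _ hb')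
    · have hb' : v * (x * v * x⁻¹) ∈ A := hb
      rw [← d.right.turn] at hb'
      simpa only [h.x_sq_conj] using hxA _ hb'
  have he2 : s ^ (q / 16) * qElt u (x * u * x⁻¹) (q / 4 % 4) = 1 := by
    have he' : s ^ (q / 16) * qElt u (x * u * x⁻¹) (q / 4 % 4) * qElt v (x * v * x⁻¹) (q % 4) = 1 := he
    rw [hb0] at he'
    simpa [qElt] using he'
  · have hne : ∀ w : G, w * w = s → w ≠ 1 ∧ s * w ≠ 1 := by
      intro w hw
      refine ⟨fun e => h.s_ne (by rw [← hw, e, one_mul]), fun e => h.s_ne ?_⟩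
      have e' : w = s := by
        calc w = s * s * w := by rw [h.s_sq, one_mul]
          _ = s := by rw [mul_assoc, e, mul_one]
      rw [e', h.s_sq] at hw
      exact hw.symm
    have h16 : q / 16 < 2 := by omega
    have h4 : q / 4 % 4 < 4 := Nat.mod_lt _ (by norm_num)
    have hu' := h.x_sq d.left.sq
    have hu'' : u * (x * u * x⁻¹) * (u * (x * u * x⁻¹)) = s := by
      rw [← d.left.turn]; exact h.x_sq hu'
    interval_cases ha : q / 4 % 4 <;> interval_cases hσ : q / 16 <;> simp only [qElt, pow_zero,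
      pow_one, one_mul, mul_one] at he2
    all_goals first
      | omega
      | exact absurd he2 (hne _ d.left.sq).1
      | exact absurd he2 (hne _ d.left.sq).2
      | exact absurd he2 (hne _ hu').1
      | exact absurd he2 (hne _ hu').2
      | exact absurd he2 (hne _ hu'').1
      | exact absurd he2 (hne _ hu'').2
      | exact absurd he2 h.s_ne

theorem phi_inj (d : Duo s Q x u v) (h : Pre s Q x) {p r : ℕ} (hp : p < 32) (hr : r < 32)
    (he : d.phi p = d.phi r) : p = r := by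
  have hinv : ((List.range 32).all fun r => (List.range 32).all fun p =>
      qMul (qMul r (qMul r r)) r == 0 && (!(qMul p (qMul r (qMul r r)) == 0) || p == r)) = true := by
    decide +kernel
  have h2 := List.all_eq_true.1 (List.all_eq_true.1 hinv r (List.mem_range.2 hr)) p (List.mem_range.2 hp)
  simp only [Bool.and_eq_true, beq_iff_eq, Bool.or_eq_true, Bool.not_eq_eq_eq_not, Bool.not_true,
    beq_eq_false_iff_ne] at h2
  refine h2.2.resolve_left fun hne => hne ?_
  have hr2 := (qMul_eq hr hr).2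
  have hr3 := (qMul_eq hr hr2).2
  refine d.phi_eq_one h (qMul_eq hp hr3).2 ?_
  have e1 : d.phi (qMul r (qMul r r)) * d.phi r = 1 := by
    rw [← d.phi_mul h hr3 hr, h2.1, d.phi_zero]
  rw [d.phi_mul h hp hr3, he, eq_inv_of_mul_eq_one_left e1, mul_inv_cancel]

theorem phi_surj (d : Duo s Q x u v) (h : Pre s Q x) {q : G} (hq : q ∈ Q) :
    ∃ c, c < 32 ∧ d.phi c = q := by
  haveI : Finite Q := Nat.finite_of_card_ne_zero (by rw [h.card]; norm_num)
  have hinj : Function.Injective (fun c : Fin 32 => (⟨d.phi c, d.phi_mem h c⟩ : Q)) := fun a b e =>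
    Fin.ext (d.phi_inj h a.2 b.2 (congrArg Subtype.val e))
  obtain ⟨c, hc⟩ := (hinj.bijective_of_nat_card_le (by rw [h.card, Nat.card_fin])).2 ⟨q, hq⟩
  exact ⟨c, c.2, congrArg Subtype.val hc⟩

/-- Conjugation by `g` follows a map on codes which it follows on the generators. -/
theorem conj_phi (d : Duo s Q x u v) (h : Pre s Q x) {g : G} (hg : g * s = s * g) {f : ℕ → ℕ}
    (hf : actOK f = true) (h4 : g * d.phi 4 * g⁻¹ = d.phi (f 4))
    (h8 : g * d.phi 8 * g⁻¹ = d.phi (f 8)) (h1 : g * d.phi 1 * g⁻¹ = d.phi (f 1))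
    (h2 : g * d.phi 2 * g⁻¹ = d.phi (f 2)) {q : ℕ} (hq : q < 32) :
    g * d.phi q * g⁻¹ = d.phi (f q) := by
  simp only [actOK, Bool.and_eq_true, beq_iff_eq, List.all_eq_true, List.mem_range,
    decide_eq_true_eq] at hf
  obtain ⟨⟨⟨hall, h12⟩, h03⟩, h0⟩ := hf
  obtain ⟨g4, g8, g1, g2⟩ := d.phi_gens
  have hf4 := (hall 4 (by norm_num)).1
  have hf8 := (hall 8 (by norm_num)).1
  have hf1 := (hall 1 (by norm_num)).1
  have hf2 := (hall 2 (by norm_num)).1
  have hA : ∀ a, a < 4 → g * qElt u (x * u * x⁻¹) a * g⁻¹ = d.phi (f (a * 4)) := by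
    intro a ha
    interval_cases a <;> simp only [qElt]
    · simp [h0, d.phi_zero]
    · exact (congrArg (fun w => g * w * g⁻¹) g4).symm.trans h4
    · exact (congrArg (fun w => g * w * g⁻¹) g8).symm.trans h8
    · rw [h12, d.phi_mul h hf4 hf8, ← h4, ← h8, g4, g8]; group
  have hB : ∀ a, a < 4 → g * qElt v (x * v * x⁻¹) a * g⁻¹ = d.phi (f a) := by
    intro a ha
    interval_cases a <;> simp only [qElt]
    · simp [h0, d.phi_zero]
    · exact (congrArg (fun w => g * w * g⁻¹) g1).symm.trans h1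
    · exact (congrArg (fun w => g * w * g⁻¹) g2).symm.trans h2
    · rw [h03, d.phi_mul h hf1 hf2, ← h1, ← h2, g1, g2]; group
  have hσ : g * s ^ (q / 16) * g⁻¹ = d.phi (q / 16 * 16) := by
    rw [((show Commute g s from hg).pow_right _).eq, mul_inv_cancel_right]
    have h16 : q / 16 < 2 := by omega
    interval_cases q / 16
    · rw [d.phi_zero, pow_zero]
    · rw [one_mul, d.phi_sixteen, pow_one]
  have e := (hall q hq).2
  have hlA := (hall (q / 4 % 4 * 4) (by omega)).1
  have hlB := (hall (q % 4) (by omega)).1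
  have hlσ : q / 16 * 16 < 32 := by omega
  rw [e, d.phi_mul h (qMul_eq hlσ hlA).2 hlB, d.phi_mul h hlσ hlA, ← hσ,
    ← hA _ (Nat.mod_lt _ (by norm_num)), ← hB _ (Nat.mod_lt _ (by norm_num))]
  show g * (s ^ (q / 16) * qElt u (x * u * x⁻¹) (q / 4 % 4) * qElt v (x * v * x⁻¹) (q % 4)) * g⁻¹ = _
  group

theorem conj_x (d : Duo s Q x u v) (h : Pre s Q x) {q : ℕ} (hq : q < 32) :
    x * d.phi q * x⁻¹ = d.phi (actX q) := by
  obtain ⟨g4, g8, g1, g2⟩ := d.phi_gens
  have e12 : d.phi 12 = u * (x * u * x⁻¹) := by simp [Duo.phi, phiQ, qElt]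
  have e3 : d.phi 3 = v * (x * v * x⁻¹) := by simp [Duo.phi, phiQ, qElt]
  have hok : actOK actX = true ∧ actX 4 = 8 ∧ actX 8 = 12 ∧ actX 1 = 2 ∧ actX 2 = 3 := by
    decide +kernel
  obtain ⟨hok, a4, a8, a1, a2⟩ := hok
  refine d.conj_phi h h.x_comm hok ?_ ?_ ?_ ?_ hq
  · rw [a4, g4, g8]
  · rw [a8, e12, g8]; exact d.left.turn
  · rw [a1, g1, g2]
  · rw [a2, e3, g2]; exact d.right.turn

end Duo

end CfsgLib.ExtraSymThree
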