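import Cfsg.Agent.ExtraSymThree.Sixteen
import Cfsg.Agent.ExtraSymThree.Generation

/-!
Automorphisms of the model of kind 2 permuting the classes of involutions.
-/

set_option autoImplicit false
set_option maxRecDepth 4000

namespace CfsgLib.ExtraSymThree

/-- The automorphism exchanging the two outer classes. -/
def swapOuter : List ℕ :=
  [0, 97, 46, 143, 56, 153, 24, 121, 118, 23, 80, 177, 168, 73, 166, 71, 32, 129, 48, 145, 190,
    95, 104, 9, 6, 103, 136, 41, 146, 51, 30, 127, 16, 113, 170, 75, 174, 79, 64, 161, 122, 27,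
    54, 151, 88, 185, 2, 99, 18, 115, 124, 29, 62, 159, 42, 139, 4, 101, 86, 183, 186, 91, 52,
    149, 38, 135, 66, 163, 76, 173, 110, 15, 108, 13, 130, 35, 68, 165, 132, 37, 10, 107, 92,
    189, 84, 181, 58, 155, 44, 141, 156, 61, 82, 179, 116, 21, 96, 1, 142, 47, 152, 57, 120, 25,
    22, 119, 176, 81, 72, 169, 70, 167, 128, 33, 144, 49, 94, 191, 8, 105, 102, 7, 40, 137, 50,
    147, 126, 31, 112, 17, 74, 171, 78, 175, 160, 65, 26, 123, 150, 55, 184, 89, 98, 3, 114, 19,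
    28, 125, 158, 63, 138, 43, 100, 5, 182, 87, 90, 187, 148, 53, 134, 39, 162, 67, 172, 77, 14,
    111, 12, 109, 34, 131, 164, 69, 36, 133, 106, 11, 188, 93, 180, 85, 154, 59, 140, 45, 60,
    157, 178, 83, 20, 117]

/-- The automorphism exchanging the first two classes in `Q`. -/
def swapFirst : List ℕ :=
  [0, 1, 2, 3, 4, 5, 48, 49, 50, 51, 52, 53, 72, 73, 74, 75, 76, 77, 24, 25, 26, 27, 28, 29,
    18, 19, 20, 21, 22, 23, 66, 67, 68, 69, 70, 71, 90, 91, 92, 93, 94, 95, 42, 43, 44, 45, 46,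
    47, 6, 7, 8, 9, 10, 11, 54, 55, 56, 57, 58, 59, 78, 79, 80, 81, 82, 83, 30, 31, 32, 33, 34,
    35, 12, 13, 14, 15, 16, 17, 60, 61, 62, 63, 64, 65, 84, 85, 86, 87, 88, 89, 36, 37, 38, 39,
    40, 41, 96, 97, 98, 99, 100, 101, 144, 145, 146, 147, 148, 149, 168, 169, 170, 171, 172,
    173, 120, 121, 122, 123, 124, 125, 114, 115, 116, 117, 118, 119, 162, 163, 164, 165, 166,
    167, 186, 187, 188, 189, 190, 191, 138, 139, 140, 141, 142, 143, 102, 103, 104, 105, 106,
    107, 150, 151, 152, 153, 154, 155, 174, 175, 176, 177, 178, 179, 126, 127, 128, 129, 130,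
    131, 108, 109, 110, 111, 112, 113, 156, 157, 158, 159, 160, 161, 180, 181, 182, 183, 184,
    185, 132, 133, 134, 135, 136, 137]

/-- The automorphism exchanging the last two classes in `Q`. -/
def swapLast : List ℕ :=
  [0, 1, 2, 3, 4, 5, 24, 25, 26, 27, 28, 29, 48, 49, 50, 51, 52, 53, 72, 73, 74, 75, 76, 77, 6,
    7, 8, 9, 10, 11, 30, 31, 32, 33, 34, 35, 54, 55, 56, 57, 58, 59, 78, 79, 80, 81, 82, 83, 12,
    13, 14, 15, 16, 17, 36, 37, 38, 39, 40, 41, 60, 61, 62, 63, 64, 65, 84, 85, 86, 87, 88, 89,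
    18, 19, 20, 21, 22, 23, 42, 43, 44, 45, 46, 47, 66, 67, 68, 69, 70, 71, 90, 91, 92, 93, 94,
    95, 96, 97, 98, 99, 100, 101, 120, 121, 122, 123, 124, 125, 144, 145, 146, 147, 148, 149,
    168, 169, 170, 171, 172, 173, 102, 103, 104, 105, 106, 107, 126, 127, 128, 129, 130, 131,
    150, 151, 152, 153, 154, 155, 174, 175, 176, 177, 178, 179, 108, 109, 110, 111, 112, 113,
    132, 133, 134, 135, 136, 137, 156, 157, 158, 159, 160, 161, 180, 181, 182, 183, 184, 185,
    114, 115, 116, 117, 118, 119, 138, 139, 140, 141, 142, 143, 162, 163, 164, 165, 166, 167,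
    186, 187, 188, 189, 190, 191]

/-- The checks on an automorphism. -/
def autoOK (f : List ℕ) : Bool :=
  (codes.all fun a => decide (f.getD a 0 < 192) && f.getD (f.getD a 0) 0 == a &&
    (f.getD a 0 % 6 == 0) == (a % 6 == 0) &&
    genC.all fun g => f.getD (mulC 2 a g) 0 == mulC 2 (f.getD a 0) (f.getD g 0)) &&
  f.getD 0 0 == 0 && f.getD sC 0 == sC

theorem swaps_ok : autoOK swapOuter && autoOK swapFirst && autoOK swapLast = true := by decide +kernel

theorem swaps_reps : ([30, 66, 84, 1, 97].map fun a => swapOuter.getD a 0) = [30, 66, 84, 97, 1] ∧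
    ([30, 66, 84, 1, 97].map fun a => swapFirst.getD a 0) = [66, 30, 84, 1, 97] ∧
    ([30, 66, 84, 1, 97].map fun a => swapLast.getD a 0) = [30, 84, 66, 1, 97] := by decide +kernel

variable {G : Type*} [Group G] {s : G}

theorem mulC_zero_right (F : Frame 2 s) {a : ℕ} (ha : a < 192) : mulC 2 a 0 = a :=
  F.inj _ (mulC_lt _ _ _) a ha (by rw [F.mul a ha 0 (by norm_num), F.el_zero, mul_one])

/-- The centraliser coded through an automorphism. -/
theorem Frame.exists_comp (F : Frame 2 s) {f : List ℕ} (hf : autoOK f = true) :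
    ∃ F' : Frame 2 s, ∀ a < 192, f.getD a 0 < 192 ∧ F'.el a = F.el (f.getD a 0) ∧
      (f.getD a 0 % 6 = 0 ↔ a % 6 = 0) := by
  simp only [autoOK, Bool.and_eq_true, List.all_eq_true, decide_eq_true_eq, beq_iff_eq,
    mem_codes, and_assoc] at hf
  obtain ⟨hf, h0, hs⟩ := hf
  have hlt : ∀ a < 192, f.getD a 0 < 192 := fun a ha => (hf a ha).1
  have hom : ∀ b, b < 192 → ∀ a, a < 192 →
      f.getD (mulC 2 a b) 0 = mulC 2 (f.getD a 0) (f.getD b 0) := by
    refine gen_induction (Or.inr rfl)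
      (P := fun b => ∀ a, a < 192 → f.getD (mulC 2 a b) 0 = mulC 2 (f.getD a 0) (f.getD b 0)) ?_ ?_
    · intro a ha
      rw [mulC_zero_right F ha, h0, mulC_zero_right F (hlt a ha)]
    · intro b g hb hg ih a ha
      have hg' : g < 192 := by fin_cases hg <;> norm_num
      have hassoc : ∀ x y z, x < 192 → y < 192 → z < 192 →
          mulC 2 x (mulC 2 y z) = mulC 2 (mulC 2 x y) z := fun x y z hx hy hz => by
        refine F.inj _ (mulC_lt _ _ _) _ (mulC_lt _ _ _) ?_
        rw [F.mul x hx _ (mulC_lt _ _ _), F.mul y hy z hz, F.mul _ (mulC_lt _ _ _) z hz,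
          F.mul x hx y hy, mul_assoc]
      rw [hassoc a b g ha hb hg', (hf _ (mulC_lt _ _ _)).2.2.2 g hg, ih a ha,
        (hf b hb).2.2.2 g hg, hassoc _ _ _ (hlt a ha) (hlt b hb) (hlt g hg')]
  refine ⟨⟨fun a => F.el (f.getD a 0), fun x => ⟨fun hx => ?_, ?_⟩, ?_, ?_, ?_, F.klt⟩, fun a ha =>
    ⟨hlt a ha, rfl, ?_⟩⟩
  · obtain ⟨a, ha, rfl⟩ := F.exists_code hx
    exact ⟨f.getD a 0, hlt a ha, congrArg F.el (hf a ha).2.1⟩
  · rintro ⟨a, ha, rfl⟩
    exact F.commute (hlt a ha)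
  · intro a ha b hb e
    have := F.inj _ (hlt a ha) _ (hlt b hb) e
    rw [← (hf a ha).2.1, this, (hf b hb).2.1]
  · intro a ha b hb
    show F.el _ = F.el _ * F.el _
    rw [hom b hb a ha, F.mul _ (hlt a ha) _ (hlt b hb)]
  · show F.el _ = s
    rw [hs, F.el_sC]
  · have := (hf a ha).2.2.1
    simpa using this

end CfsgLib.ExtraSymThree
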