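import Cfsg.Agent.ExtraSymThree.Model
import Mathlib

/-!
An element whose centraliser is one of the four groups on the codes.
-/

set_option autoImplicit false

namespace CfsgLib.ExtraSymThree

theorem mulC_lt (k a b : ℕ) : mulC k a b < 192 := by
  have h1 : ∀ p r, qMul p r ≤ 31 := fun p r => Nat.and_le_right
  have h2 := h1 (qMul (Nat.div a 6) (actL k (Nat.mod (Nat.div a 2) 3) (Nat.mod a 2) (Nat.div b 6)))
    (Nat.mul 16 (Nat.mul (Nat.mod k 2) (Nat.mul (Nat.mod a 2) (Nat.mod b 2))))
  have h3 : expX a b < 3 := Nat.mod_lt _ (by norm_num)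
  have h4 : Nat.mod (Nat.add a b) 2 < 2 := Nat.mod_lt _ (by norm_num)
  unfold mulC
  simp only [Nat.add_eq, Nat.mul_eq] at *
  omega

theorem inv_checks : ((List.range 4).all fun k => codes.all fun a =>
    mulC k a (invC k a) == 0 && decide (invC k a < 192) && mulC k 0 0 == 0) = true := by
  decide +kernel

theorem mem_codes {a : ℕ} : a ∈ codes ↔ a < 192 := List.mem_range

variable {G : Type*} [Group G]

/-- The centraliser of `s` is coded by the kind `k`. -/
structure Frame (k : ℕ) (s : G) where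
  el : ℕ → G
  mem_iff : ∀ g : G, g * s = s * g ↔ ∃ a < 192, el a = g
  inj : ∀ a < 192, ∀ b < 192, el a = el b → a = b
  mul : ∀ a < 192, ∀ b < 192, el (mulC k a b) = el a * el b
  el_sC : el sC = s
  klt : k < 4

namespace Frame

variable {k : ℕ} {s : G} (F : Frame k s)
include F

theorem checks {a : ℕ} (ha : a < 192) :
    (mulC k a (invC k a) = 0 ∧ invC k a < 192) ∧ mulC k 0 0 = 0 := by
  simpa [and_assoc] using List.all_eq_true.1
    (List.all_eq_true.1 inv_checks k (List.mem_range.2 F.klt)) a (mem_codes.2 ha)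

theorem el_zero : F.el 0 = 1 := by
  have h := F.mul 0 (by norm_num) 0 (by norm_num)
  rw [(F.checks (a := 0) (by norm_num)).2] at h
  exact mul_eq_left.1 h.symm

theorem invC_lt {a : ℕ} (ha : a < 192) : invC k a < 192 := (F.checks ha).1.2

theorem el_inv {a : ℕ} (ha : a < 192) : F.el (invC k a) = (F.el a)⁻¹ := by
  refine (inv_eq_of_mul_eq_one_right ?_).symm
  rw [← F.mul a ha _ (F.invC_lt ha), (F.checks ha).1.1, F.el_zero]

omit F in
theorem conC_lt (k g a : ℕ) : conC k g a < 192 := mulC_lt _ _ _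

theorem el_conC {g a : ℕ} (hg : g < 192) (ha : a < 192) :
    F.el (conC k g a) = F.el g * F.el a * (F.el g)⁻¹ := by
  rw [conC, F.mul _ (mulC_lt _ _ _) _ (F.invC_lt hg), F.mul g hg a ha, F.el_inv hg]

theorem eq_iff {a b : ℕ} (ha : a < 192) (hb : b < 192) : F.el a = F.el b ↔ a = b :=
  ⟨F.inj a ha b hb, fun h => h ▸ rfl⟩

theorem commute {a : ℕ} (ha : a < 192) : F.el a * s = s * F.el a :=
  (F.mem_iff _).2 ⟨a, ha, rfl⟩

theorem mul_comm_iff {a b : ℕ} (ha : a < 192) (hb : b < 192) :
    F.el a * F.el b = F.el b * F.el a ↔ mulC k a b = mulC k b a := by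
  rw [← F.mul a ha b hb, ← F.mul b hb a ha, F.eq_iff (mulC_lt _ _ _) (mulC_lt _ _ _)]

theorem el_ne_one {a : ℕ} (ha : a < 192) (h0 : a ≠ 0) : F.el a ≠ 1 := fun h =>
  h0 (F.inj a ha 0 (by norm_num) (h.trans F.el_zero.symm))

theorem mul_self_iff {a : ℕ} (ha : a < 192) : F.el a * F.el a = 1 ↔ mulC k a a = 0 := by
  rw [← F.mul a ha a ha, ← F.el_zero, F.eq_iff (mulC_lt _ _ _) (by norm_num)]

theorem isConj_conC {g a : ℕ} (hg : g < 192) (ha : a < 192) :
    IsConj (F.el a) (F.el (conC k g a)) :=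
  isConj_iff.2 ⟨F.el g, (F.el_conC hg ha).symm⟩

/-- The code of an element commuting with `s` is unique. -/
theorem exists_code {g : G} (hg : g * s = s * g) : ∃ a < 192, F.el a = g := (F.mem_iff g).1 hg

theorem s_sq : s * s = 1 := by
  have h : mulC k sC sC = 0 := by
    have := F.klt
    interval_cases k <;> decide +kernel
  rw [← F.el_sC, F.mul_self_iff (by norm_num)]
  exact h

theorem orderOf_s : orderOf s = 2 := by
  haveI : Fact (Nat.Prime 2) := ⟨Nat.prime_two⟩
  refine orderOf_eq_prime (by rw [sq]; exact F.s_sq) fun h => ?_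
  exact F.el_ne_one (a := sC) (by norm_num) (by norm_num) (F.el_sC.trans h)

end Frame

end CfsgLib.ExtraSymThree
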