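import Cfsg.Agent.ExtraSymThree.Action
import Cfsg.Agent.ExtraSymThree.Frame

/-!
Building a frame from `x`, `t` and a duo on which `t` acts as in one of the models.
-/

set_option autoImplicit false

namespace CfsgLib.ExtraSymThree

variable {G : Type*} [Group G] {s : G} {Q : Subgroup G} {x u v t : G}

/-- An element inverting `x` with square in `⟨s⟩`. -/
structure Inverter (s : G) (Q : Subgroup G) (x t : G) (c : ℕ) : Prop where
  inverts : t * x * t⁻¹ = x⁻¹
  sq : t * t = s ^ c
  comm : t * s = s * t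
  mem : ∀ q ∈ Q, t * q * t⁻¹ ∈ Q
  c_lt : c < 2

theorem Pre.x_notMem (h : Pre s Q x) (hx : x ≠ 1) : x ∉ Q := fun hm => by
  rcases h.fix x hm rfl with e | e
  · exact hx e
  · exact h.s_ne (by rw [← h.cube, e, h.s_sq, one_mul])

theorem Inverter.turn (h : Pre s Q x) {c : ℕ} (i : Inverter s Q x t c) :
    Inverter s Q x (x * t) c := by
  refine ⟨?_, ?_, ?_, ?_, i.c_lt⟩
  · calc x * t * x * (x * t)⁻¹ = x * (t * x * t⁻¹) * x⁻¹ := by group
      _ = x⁻¹ := by rw [i.inverts]; group
  · calc x * t * (x * t) = x * (t * x * t⁻¹) * (t * t) := by group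
      _ = s ^ c := by rw [i.inverts, i.sq, mul_inv_cancel, one_mul]
  · exact (show Commute x s from h.x_comm).mul_left i.comm
  · intro q hq
    have := h.x_mem _ (i.mem q hq)
    simpa [mul_assoc] using this

/-- Moving past powers of `x` and `t`. -/
theorem rest_mul (h : Pre s Q x) {c : ℕ} (i : Inverter s Q x t c) {a b a' b' : ℕ} (ha : a < 3)
    (hb : b < 2) (ha' : a' < 3) (hb' : b' < 2) :
    x ^ a * t ^ b * (x ^ a' * t ^ b') =
      s ^ (c * (b * b')) * (x ^ ((a + (bif Nat.beq b 0 then a' else 3 - a')) % 3) * t ^ ((b + b') % 2)) := by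
  have hx : x⁻¹ = x * x := inv_eq_of_mul_eq_one_right (by rw [← mul_assoc]; exact h.cube)
  have e1 : ∀ w, t * (x * w) = x * (x * (t * w)) := fun w => by
    rw [← mul_assoc, show t * x = t * x * t⁻¹ * t by group, i.inverts, hx]
    group
  have e1' : t * x = x * (x * t) := by simpa using e1 1
  have e2 : ∀ w, t * (t * w) = s ^ c * w := fun w => by rw [← mul_assoc, i.sq]
  have e2' : t * t = s ^ c := i.sq
  have e3 : ∀ w, x * (x * (x * w)) = w := fun w => by
    rw [← mul_assoc, ← mul_assoc, h.cube, one_mul]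
  have e3' : x * (x * x) = 1 := by rw [← mul_assoc]; exact h.cube
  have hc : Commute x (s ^ c) := (show Commute x s from h.x_comm).pow_right c
  have e4 : ∀ w, x * (s ^ c * w) = s ^ c * (x * w) := fun w => by
    rw [← mul_assoc, hc.eq, mul_assoc]
  have e4' : x * s ^ c = s ^ c * x := hc.eq
  interval_cases a <;> interval_cases b <;> interval_cases a' <;> interval_cases b' <;>
    simp [pow_succ', mul_assoc, e1, e1', e2', e3, e3', e4, e4', Nat.beq]

theorem codes_checks : ((List.range 2).all fun j => (List.range 3).all fun i => (List.range 32).all fun q =>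
    (List.range 4).all fun k => decide (actL k i j q < 32) &&
      actL k i j q == (let r := bif Nat.beq j 0 then q else actT k q
        bif Nat.beq i 0 then r else bif Nat.beq i 1 then actX r else actX (actX r))) = true := by
  decide +kernel

theorem actT_ok : ((List.range 4).all fun k => actOK (actT k)) = true := by decide +kernel

theorem inj_check : ((List.range 4).all fun k => codes.all fun a => codes.all fun b =>
    !(mulC k a (invC k b) == 0) || a == b) = true := by decide +kernel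

/-- A frame from a duo on which `t` acts as `actT k`. -/
theorem exists_frame_of_action [Finite G] (h : Pre s Q x) (hx : x ≠ 1) (d : Duo s Q x u v) {k : ℕ}
    (hk : k < 4) (i : Inverter s Q x t (k % 2)) (ht4 : t * u * t⁻¹ = d.phi (actT k 4))
    (ht1 : t * v * t⁻¹ = d.phi (actT k 1))
    (hcard : Nat.card (Subgroup.centralizer ({s} : Set G)) = 192) :
    ∃ F : Frame k s, ∀ a, a < 192 → (F.el a ∈ Q ↔ a % 6 = 0) := by
  obtain ⟨g4, g8, g1, g2⟩ := d.phi_gens
  have hx2 : x⁻¹ = x * x := inv_eq_of_mul_eq_one_right (by rw [← mul_assoc]; exact h.cube)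
  have hlt : ∀ {j a q}, j < 2 → a < 3 → q < 32 → actL k a j q < 32 ∧
      actL k a j q = (let r := bif Nat.beq j 0 then q else actT k q
        bif Nat.beq a 0 then r else bif Nat.beq a 1 then actX r else actX (actX r)) := by
    intro j a q hj ha hq
    simpa using List.all_eq_true.1 (List.all_eq_true.1 (List.all_eq_true.1 (List.all_eq_true.1
      codes_checks j (List.mem_range.2 hj)) a (List.mem_range.2 ha)) q (List.mem_range.2 hq)) k
      (List.mem_range.2 hk)
  have hT : ∀ q, q < 32 → actT k q < 32 := fun q hq => (hlt (j := 1) (a := 0) (by norm_num) (by norm_num) hq).1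
  have hX : ∀ q, q < 32 → actX q < 32 := fun q hq => by
    have := (hlt (j := 0) (a := 1) (by norm_num) (by norm_num) hq)
    have e : actL k 1 0 q = actX q := this.2
    rw [← e]; exact this.1
  have hswap : ∀ w, w < 32 → t * (x * d.phi w * x⁻¹) * t⁻¹ = x⁻¹ * (t * d.phi w * t⁻¹) * x := by
    intro w _
    have e : t * x = x⁻¹ * t := mul_inv_eq_iff_eq_mul.1 i.inverts
    rw [show t * (x * d.phi w * x⁻¹) * t⁻¹ = (t * x) * d.phi w * (t * x)⁻¹ by group, e]
    group
  have hconjT : ∀ q, q < 32 → t * d.phi q * t⁻¹ = d.phi (actT k q) := by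
    have hok := List.all_eq_true.1 actT_ok k (List.mem_range.2 hk)
    have hrot : ∀ r, r < 32 → x⁻¹ * d.phi r * x = d.phi (actX (actX r)) := fun r hr => by
      rw [← d.conj_x h (hX r hr), ← d.conj_x h hr]
      calc x⁻¹ * d.phi r * x = (x * x * x) * (x⁻¹ * d.phi r * x) * (x * x * x)⁻¹ := by
            rw [h.cube, one_mul, inv_one, mul_one]
        _ = _ := by group
    have hk8 : actT k 8 = actX (actX (actT k 4)) ∧ actT k 2 = actX (actX (actT k 1)) := by
      interval_cases k <;> decide +kernel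
    intro q hq
    refine d.conj_phi h i.comm hok ?_ ?_ ?_ ?_ hq
    · rw [g4]; exact ht4
    · rw [← congrArg (fun w => x * w * x⁻¹) g4] at g8
      rw [g8, hswap 4 (by norm_num), hk8.1, ← hrot _ (hT 4 (by norm_num)), g4, ht4]
    · rw [g1]; exact ht1
    · rw [← congrArg (fun w => x * w * x⁻¹) g1] at g2
      rw [g2, hswap 1 (by norm_num), hk8.2, ← hrot _ (hT 1 (by norm_num)), g1, ht1]
  have hconj : ∀ {j a q}, j < 2 → a < 3 → q < 32 →
      x ^ a * t ^ j * d.phi q * (x ^ a * t ^ j)⁻¹ = d.phi (actL k a j q) := by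
    intro j a q hj ha hq
    rw [(hlt hj ha hq).2]
    have h1 : t ^ j * d.phi q * (t ^ j)⁻¹ = d.phi (bif Nat.beq j 0 then q else actT k q) ∧
        (bif Nat.beq j 0 then q else actT k q) < 32 := by
      interval_cases j
      · simp [hq]
      · simpa using ⟨hconjT q hq, hT q hq⟩
    rw [show x ^ a * t ^ j * d.phi q * (x ^ a * t ^ j)⁻¹ =
      x ^ a * (t ^ j * d.phi q * (t ^ j)⁻¹) * (x ^ a)⁻¹ by group, h1.1]
    dsimp only
    obtain ⟨r, hr⟩ : ∃ r, r = (bif Nat.beq j 0 then q else actT k q) := ⟨_, rfl⟩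
    rw [← hr]
    have hr32 : r < 32 := hr ▸ h1.2
    interval_cases a
    · simp
    · show x ^ 1 * d.phi r * (x ^ 1)⁻¹ = d.phi (actX r)
      rw [pow_one]
      exact d.conj_x h hr32
    · show x ^ 2 * d.phi r * (x ^ 2)⁻¹ = d.phi (actX (actX r))
      rw [← d.conj_x h (hX r hr32), ← d.conj_x h hr32, sq]
      group
  let el : ℕ → G := fun a => d.phi (a / 6) * (x ^ (a / 2 % 3) * t ^ (a % 2))
  have hmul : ∀ a < 192, ∀ b < 192, el (mulC k a b) = el a * el b := by
    intro a ha b hb
    have hqa : a / 6 < 32 := by omega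
    have hqb : b / 6 < 32 := by omega
    have hia : a / 2 % 3 < 3 := Nat.mod_lt _ (by norm_num)
    have hib : b / 2 % 3 < 3 := Nat.mod_lt _ (by norm_num)
    have hja : a % 2 < 2 := Nat.mod_lt _ (by norm_num)
    have hjb : b % 2 < 2 := Nat.mod_lt _ (by norm_num)
    have hact := (hlt hja hia hqb).1
    have hc : 16 * (k % 2 * (a % 2 * (b % 2))) < 32 := by
      have h1 : k % 2 ≤ 1 := by omega
      have h2 : a % 2 * (b % 2) ≤ 1 * 1 := Nat.mul_le_mul (by omega) (by omega)
      have h3 := Nat.mul_le_mul h1 h2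
      omega
    obtain ⟨Y, hY⟩ : ∃ Y, Y = qMul (qMul (a / 6) (actL k (a / 2 % 3) (a % 2) (b / 6)))
        (16 * (k % 2 * (a % 2 * (b % 2)))) := ⟨_, rfl⟩
    obtain ⟨E, hE⟩ : ∃ E, E = expX a b := ⟨_, rfl⟩
    have hYlt : Y < 32 := hY ▸ (qMul_eq (qMul_eq hqa hact).2 hc).2
    have hElt : E < 3 := hE ▸ Nat.mod_lt _ (by norm_num)
    have hm : mulC k a b = Y * 6 + E * 2 + (a + b) % 2 := by rw [hY, hE]; rfl
    have hdec : mulC k a b / 6 = Y ∧ mulC k a b / 2 % 3 = E ∧ mulC k a b % 2 = (a + b) % 2 := by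
      rw [hm]; omega
    simp only [el]
    rw [hdec.1, hdec.2.1, hdec.2.2, hY, hE]
    have hz : d.phi (16 * (k % 2 * (a % 2 * (b % 2)))) = s ^ (k % 2 * (a % 2 * (b % 2))) := by
      have : k % 2 * (a % 2 * (b % 2)) = 0 ∨ k % 2 * (a % 2 * (b % 2)) = 1 := by omega
      rcases this with e | e <;> rw [e]
      · simp [d.phi_zero]
      · simp [d.phi_sixteen]
    rw [d.phi_mul h (qMul_eq hqa hact).2 hc, d.phi_mul h hqa hact, hz, ← hconj hja hia hqb]
    have hr := rest_mul h i hia hja hib hjb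
    rw [show (a + b) % 2 = (a % 2 + b % 2) % 2 from Nat.add_mod a b 2,
      show expX a b = (a / 2 % 3 + (bif Nat.beq (a % 2) 0 then b / 2 % 3 else 3 - b / 2 % 3)) % 3
        from rfl]
    calc _ = d.phi (a / 6) * (x ^ (a / 2 % 3) * t ^ (a % 2) * d.phi (b / 6) *
          (x ^ (a / 2 % 3) * t ^ (a % 2))⁻¹) * (s ^ (k % 2 * (a % 2 * (b % 2))) *
            (x ^ ((a / 2 % 3 + (bif Nat.beq (a % 2) 0 then b / 2 % 3 else 3 - b / 2 % 3)) % 3) *
              t ^ ((a % 2 + b % 2) % 2))) := by group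
      _ = _ := by rw [← hr]; group
  have hmemQ : ∀ a < 192, el a ∈ Q → a % 6 = 0 := by
    intro a ha hm
    have hw : x ^ (a / 2 % 3) * t ^ (a % 2) ∈ Q := by
      simpa [el] using mul_mem (inv_mem (d.phi_mem h (a / 6))) hm
    have hnx := h.x_notMem hx
    have hj : a % 2 = 0 := by
      by_contra hj
      rw [show a % 2 = 1 by omega, pow_one] at hw
      have h1 : x * (x ^ (a / 2 % 3) * t) * x⁻¹ ∈ Q := h.x_mem _ hw
      have h2 := mul_mem h1 (inv_mem hw)
      have e : x * (x ^ (a / 2 % 3) * t) * x⁻¹ * (x ^ (a / 2 % 3) * t)⁻¹ = x * x := by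
        calc x * (x ^ (a / 2 % 3) * t) * x⁻¹ * (x ^ (a / 2 % 3) * t)⁻¹
            = x * x ^ (a / 2 % 3) * (t * x * t⁻¹)⁻¹ * (x ^ (a / 2 % 3))⁻¹ := by group
          _ = x * x := by
            rw [i.inverts, inv_inv, mul_assoc x, ← ((Commute.refl x).pow_right _).eq, ← mul_assoc,
              mul_inv_cancel_right]
      rw [e, ← hx2] at h2
      exact hnx (inv_mem_iff.1 h2)
    have hi : a / 2 % 3 = 0 := by
      rw [hj, pow_zero, mul_one] at hw
      have : a / 2 % 3 < 3 := Nat.mod_lt _ (by norm_num)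
      interval_cases hq : a / 2 % 3
      · rfl
      · exact absurd (by simpa using hw) hnx
      · rw [sq, ← hx2] at hw
        exact absurd (inv_mem_iff.1 hw) hnx
    omega
  have hzero : ∀ a < 192, el a = 1 → a = 0 := by
    intro a ha he
    have h6 := hmemQ a ha (he ▸ one_mem Q)
    have hj : a % 2 = 0 := by omega
    have hi : a / 2 % 3 = 0 := by omega
    simp only [el, hi, hj, pow_zero, mul_one] at he
    have := d.phi_eq_one h (by omega) he
    omega
  have he0 : el 0 = 1 := by simp [el, d.phi_zero]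
  have hinv : ∀ b < 192, invC k b < 192 ∧ mulC k b (invC k b) = 0 := fun b hb => by
    have := List.all_eq_true.1 (List.all_eq_true.1 inv_checks k (List.mem_range.2 hk)) b (mem_codes.2 hb)
    simp only [Bool.and_eq_true, beq_iff_eq, decide_eq_true_eq] at this
    exact ⟨this.1.2, this.1.1⟩
  have hinj : ∀ a < 192, ∀ b < 192, el a = el b → a = b := by
    intro a ha b hb he
    have := List.all_eq_true.1 (List.all_eq_true.1 (List.all_eq_true.1 inj_check k (List.mem_range.2 hk))
      a (mem_codes.2 ha)) b (mem_codes.2 hb)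
    simp only [Bool.or_eq_true, Bool.not_eq_eq_eq_not, Bool.not_true, beq_eq_false_iff_ne,
      beq_iff_eq] at this
    refine this.resolve_left fun hne => hne (hzero _ (mulC_lt _ _ _) ?_)
    rw [hmul a ha _ (hinv b hb).1, he, ← hmul b hb _ (hinv b hb).1, (hinv b hb).2, he0]
  have hcomm : ∀ a < 192, el a * s = s * el a := fun a ha =>
    (show Commute (d.phi (a / 6)) s from h.s_comm _ (d.phi_mem h _)).mul_left
      (((show Commute x s from h.x_comm).pow_left _).mul_left ((show Commute t s from i.comm).pow_left _))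
  have hsurj : ∀ g : G, g * s = s * g → ∃ a < 192, el a = g := by
    intro g hg
    let f : Fin 192 → Subgroup.centralizer ({s} : Set G) := fun a =>
      ⟨el a, Subgroup.mem_centralizer_singleton_iff.2 (hcomm a a.2)⟩
    have hf : Function.Injective f := fun a b e =>
      Fin.ext (hinj a a.2 b b.2 (congrArg Subtype.val e))
    obtain ⟨a, ha⟩ := (hf.bijective_of_nat_card_le (by rw [hcard, Nat.card_fin])).2
      ⟨g, Subgroup.mem_centralizer_singleton_iff.2 hg⟩
    exact ⟨a, a.2, congrArg Subtype.val ha⟩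
  refine ⟨⟨el, fun g => ⟨hsurj g, fun ⟨a, ha, e⟩ => e ▸ hcomm a ha⟩, hinj, hmul, ?_, hk⟩,
    fun a ha => ⟨hmemQ a ha, fun h6 => ?_⟩⟩
  · show d.phi 16 * (x ^ 0 * t ^ 0) = s
    simp [d.phi_sixteen]
  · show el a ∈ Q
    simp only [el, show a / 2 % 3 = 0 by omega, show a % 2 = 0 by omega, pow_zero, mul_one]
    exact d.phi_mem h _

end CfsgLib.ExtraSymThree
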