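import Cfsg.Agent.ExtraSymThree.Top
import Cfsg.Agent.ZStar.Theorem

/-!
The centraliser of the second involution normalises a four group.
-/

set_option autoImplicit false
set_option maxRecDepth 8000

namespace CfsgLib.ExtraSymThree

/-- The centraliser in `L` of the second involution. -/
def centUList : List ℕ := centC 2 84

/-- The codes commuting with `84` and `w`. -/
def centPair (w : ℕ) : List ℕ := centUList.filter fun b => mulC 2 b w == mulC 2 w b

theorem centU_checks : closedC 2 centUList = true ∧ closedC 2 sixW = true ∧ centUList.Nodup ∧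
    sixW.Nodup ∧ sC ∈ centUList ∧ 138 ∈ centUList ∧ (∀ z ∈ sixW, z ∈ centUList) ∧
    (∀ b ∈ centUList, mulC 2 sC b = mulC 2 b sC) ∧
    (∀ d ∈ centUList, (∀ b ∈ centUList, mulC 2 d b = mulC 2 b d) → d ∈ fuseList → d = sC) ∧
    (∀ d ∈ centUList, d ∈ fuseList ∨ d ∈ restList ∨ d = 0 ∨ mulC 2 d d ≠ 0) := by
  decide +kernel

theorem centW_checks : ∀ w ∈ centUList, mulC 2 w w = 0 → w ∈ restList → mulC 2 84 w ∈ restList →
    w = 97 ∨ w = 181 ∨ (closedC 2 (centPair w) = true ∧ (centPair w).length = 8 ∧ sC ∈ centPair w ∧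
      (centPair w).Nodup ∧ (∀ b ∈ centPair w, mulC 2 sC b = mulC 2 b sC) ∧
      ∀ d ∈ centPair w, d ∈ fuseList → d = sC) := by
  decide +kernel

variable {G : Type*} [Group G] [Finite G] {s : G}

namespace Frame

variable {F : Frame 2 s} {Q : Subgroup G} {φ : alternatingGroup (Fin 8) →* G}

theorem Std.mem_fuse (h : F.Std Q φ) {d : ℕ} (hd : d < 192) (hf : F.Fu d) : d ∈ fuseList := by
  obtain ⟨h0, h2⟩ := F.fu_involution hd hf
  exact (involution_cases hd h0 h2).resolve_right fun hr => h.not_fu_of_mem hr hf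

theorem Std.mem_rest (h : F.Std Q φ) {d : ℕ} (hd : d < 192) (h0 : d ≠ 0) (h2 : mulC 2 d d = 0)
    (hf : ¬ F.Fu d) : d ∈ restList :=
  (involution_cases hd h0 h2).resolve_left fun hr => hf (h.fu_of_mem hr)

/-- The Sylow 2-subgroup of the centraliser of `el 84`. -/
theorem Std.sylow_centU (h : F.Std Q φ) :
    ∃ P : Sylow 2 (Subgroup.centralizer ({F.el 84} : Set G)),
      (P : Subgroup _).map (Subgroup.centralizer ({F.el 84} : Set G)).subtype =
        F.subC centUList centU_checks.1 := by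
  haveI : Fact (Nat.Prime 2) := ⟨Nat.prime_two⟩
  obtain ⟨hcl, -, hnd, -, hsC, -, -, hcen, huniq, -⟩ := centU_checks
  set M := Subgroup.centralizer ({F.el 84} : Set G) with hM
  have hTM : F.subC centUList hcl ≤ M := by
    rintro _ ⟨a, ha, rfl⟩
    exact Subgroup.mem_centralizer_singleton_iff.2
      ((F.mul_comm_iff ((closedC_spec hcl).2 a ha).1 (by norm_num)).2 (beq_iff_eq.1 (List.mem_filter.1 ha).2))
  have hT : IsPGroup 2 (F.subC centUList hcl) := IsPGroup.of_card (n := 5) (by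
    rw [F.card_subC _ hnd]; decide +kernel)
  obtain ⟨P, hP⟩ := (hT.of_equiv (Subgroup.subgroupOfEquivOfLe hTM).symm).exists_le_sylow
  refine ⟨P, F.eq_of_two_group hcl (fun d hd hf hc => huniq d hd hc
    (h.mem_fuse ((closedC_spec hcl).2 d hd).1 hf)) hsC hcen (fun a ha haM => ?_) (P.2.map _) ?_
    (Subgroup.map_subtype_le _)⟩
  · exact List.mem_filter.2 ⟨mem_codes.2 ha, beq_iff_eq.2 ((F.mul_comm_iff ha (by norm_num)).1
      (Subgroup.mem_centralizer_singleton_iff.1 haM))⟩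
  · intro y hy
    exact ⟨⟨y, hTM hy⟩, hP (Subgroup.mem_subgroupOf.2 hy), rfl⟩

/-- The conjugates of `el 97` in the Sylow subgroup. -/
theorem Std.conj_mem_pair (h : F.Std Q φ) {x : G} (hx : x * F.el 84 = F.el 84 * x) {w : ℕ}
    (hw : w ∈ centUList) (hwx : x * F.el 97 * x⁻¹ = F.el w) : w = 97 ∨ w = 181 := by
  haveI : Fact (Nat.Prime 2) := ⟨Nat.prime_two⟩
  have hwl := mem_codes.1 (List.mem_filter.1 hw).1
  have h97 : F.el 97 * F.el 97 = 1 := (F.mul_self_iff (by norm_num)).2 (by decide +kernel)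
  have hx84 : x * F.el 84 * x⁻¹ = F.el 84 := by rw [hx, mul_inv_cancel_right]
  have h2 : mulC 2 w w = 0 := (F.mul_self_iff hwl).1 (by
    rw [← hwx, conj_mul, h97]; group)
  have h0 : w ≠ 0 := fun e => F.el_ne_one (a := 97) (by norm_num) (by norm_num) <| by
    rw [e, F.el_zero] at hwx
    exact conj_eq_one_iff.1 hwx
  have hnf : ¬ F.Fu w := fun hf => h.not_fu_of_mem (a := 97) (by decide +kernel)
    (hf.trans (isConj_iff.2 ⟨x⁻¹, by rw [← hwx]; group⟩))
  have hnf' : ¬ F.Fu (mulC 2 84 w) := fun hf => h.not_fu_of_mem (a := 181) (by decide +kernel)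
    (hf.trans (isConj_iff.2 ⟨x⁻¹, by
      rw [show (181 : ℕ) = mulC 2 84 97 by decide +kernel, F.mul _ (by norm_num) _ hwl,
        F.mul _ (by norm_num) _ (by norm_num), ← hwx]
      nth_rewrite 1 [← hx84]
      group⟩))
  have hcomm : mulC 2 w 84 = mulC 2 84 w := beq_iff_eq.1 (List.mem_filter.1 hw).2
  have h2' : mulC 2 (mulC 2 84 w) (mulC 2 84 w) = 0 := (F.mul_self_iff (mulC_lt _ _ _)).1 <| by
    rw [F.mul _ (by norm_num) _ hwl]
    have hc : Commute (F.el 84) (F.el w) := (F.mul_comm_iff (by norm_num) hwl).2 hcomm.symm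
    rw [hc.symm.mul_mul_mul_comm, (F.mul_self_iff hwl).2 h2, mul_one]
    exact (F.mul_self_iff (by norm_num)).2 (by decide +kernel)
  have hr : w ∈ restList := h.mem_rest hwl h0 h2 hnf
  have h84w : mulC 2 84 w ≠ 0 := fun e => by
    have e' : F.el 84 * F.el w = 1 := by rw [← F.mul _ (by norm_num) _ hwl, e, F.el_zero]
    rw [← hwx, ← hx84, conj_mul, conj_eq_one_iff, ← F.mul _ (by norm_num) _ (by norm_num)] at e'
    exact F.el_ne_one (mulC_lt _ _ _) (by decide +kernel) e'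
  rcases centW_checks w hw h2 hr (h.mem_rest (mulC_lt _ _ _) h84w h2' hnf') with e | e |
    ⟨hcl, hlen, hsR, hnd, hcen, huniq⟩
  · exact Or.inl e
  · exact Or.inr e
  exfalso
  obtain ⟨-, hW, -, hWnd, -, -, hWsub, -, -, -⟩ := centU_checks
  obtain ⟨C, hC⟩ : ∃ C, C = Subgroup.centralizer ({F.el 84, F.el w} : Set G) := ⟨_, rfl⟩
  have hCmem : ∀ {g : G}, g ∈ C ↔ g * F.el 84 = F.el 84 * g ∧ g * F.el w = F.el w * g := fun {g} => by
    rw [hC, Subgroup.mem_centralizer_iff]
    simp [eq_comm]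
  have hRC : F.subC (centPair w) hcl ≤ C := by
    rintro _ ⟨a, ha, rfl⟩
    obtain ⟨ha1, ha2⟩ := List.mem_filter.1 ha
    have ha' := mem_codes.1 (List.mem_filter.1 ha1).1
    exact hCmem.2 ⟨(F.mul_comm_iff ha' (by norm_num)).2 (beq_iff_eq.1 (List.mem_filter.1 ha1).2),
      (F.mul_comm_iff ha' hwl).2 (beq_iff_eq.1 ha2)⟩
  obtain ⟨P, hP⟩ := ((IsPGroup.of_card (p := 2) (n := 3)
    (show Nat.card (F.subC (centPair w) hcl) = 2 ^ 3 by rw [F.card_subC _ hnd, hlen]; norm_num)).of_equiv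
      (Subgroup.subgroupOfEquivOfLe hRC).symm).exists_le_sylow
  have hPR := F.eq_of_two_group hcl (fun d hd hf _ => huniq d hd
    (h.mem_fuse ((closedC_spec hcl).2 d hd).1 hf)) hsR hcen (fun a ha haC => List.mem_filter.2
      ⟨List.mem_filter.2 ⟨mem_codes.2 ha, beq_iff_eq.2 ((F.mul_comm_iff ha (by norm_num)).1 (hCmem.1 haC).1)⟩,
        beq_iff_eq.2 ((F.mul_comm_iff ha hwl).1 (hCmem.1 haC).2)⟩)
    (P.2.map C.subtype) (fun y hy => ⟨⟨y, hRC hy⟩, hP (Subgroup.mem_subgroupOf.2 hy), rfl⟩)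
    (Subgroup.map_subtype_le _)
  have hP8 : Nat.card (P : Subgroup C) = 8 := by
    rw [← Subgroup.card_map_of_injective C.subtype_injective, hPR, F.card_subC _ hnd, hlen]
  -- the conjugate of the subgroup of order 16
  obtain ⟨W', hW'⟩ : ∃ W', W' = (F.subC sixW hW).map (MulAut.conj x).toMonoidHom := ⟨_, rfl⟩
  have hW16 : Nat.card W' = 2 ^ 4 := by
    rw [hW', Subgroup.card_map_of_injective (MulAut.conj x).injective, F.card_subC _ hWnd]
    decide +kernel
  have hW'C : W' ≤ C := by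
    rw [hW']
    rintro _ ⟨_, ⟨a, ha, rfl⟩, rfl⟩
    simp only [MulEquiv.coe_toMonoidHom, MulAut.conj_apply]
    have ha' := sixW_lt a ha
    refine hCmem.2 ⟨?_, ?_⟩
    · have h1 : Commute (F.el a) (F.el 84) := (F.mul_comm_iff ha' (by norm_num)).2
        (beq_iff_eq.1 (List.mem_filter.1 (hWsub a ha)).2)
      have h2 := (Commute.conj_iff x).2 h1
      rw [hx84] at h2
      exact h2.eq
    · have h1 : Commute (F.el a) (F.el 97) := (F.mul_comm_iff ha' (by norm_num)).2
        ((by decide +kernel : ∀ z ∈ sixW, mulC 2 z 97 = mulC 2 97 z) a ha)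
      have h2 := (Commute.conj_iff x).2 h1
      rw [hwx] at h2
      exact h2.eq
  obtain ⟨P', hP'⟩ := ((IsPGroup.of_card hW16).of_equiv
    (Subgroup.subgroupOfEquivOfLe hW'C).symm).exists_le_sylow
  have h16 : 16 ≤ Nat.card (P' : Subgroup C) := by
    refine le_trans (le_of_eq ?_) (Subgroup.card_le_of_le hP')
    rw [Nat.card_congr (Subgroup.subgroupOfEquivOfLe hW'C).toEquiv, hW16]
    norm_num
  rw [P'.card_eq_multiplicity, ← P.card_eq_multiplicity, hP8] at h16
  omega

/-- The centraliser of `el 84` normalises the four group. -/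
theorem Std.four_normal (h : F.Std Q φ) {x : G} (hx : x * F.el 84 = F.el 84 * x) :
    x * F.el 97 * x⁻¹ = F.el 97 ∨ x * F.el 97 * x⁻¹ = F.el 181 := by
  haveI : Fact (Nat.Prime 2) := ⟨Nat.prime_two⟩
  obtain ⟨hcl, -, -, -, -, -, hWsub, -, -, -⟩ := centU_checks
  obtain ⟨M, hM⟩ : ∃ M : Subgroup G, M = Subgroup.centralizer ({F.el 84} : Set G) := ⟨_, rfl⟩
  have hmemM : ∀ {g : G}, g ∈ M ↔ g * F.el 84 = F.el 84 * g := by
    intro g; rw [hM]; exact Subgroup.mem_centralizer_singleton_iff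
  obtain ⟨P, hP⟩ : ∃ P : Sylow 2 M, (P : Subgroup M).map M.subtype = F.subC centUList centU_checks.1 := by
    subst hM; exact h.sylow_centU
  have hu : F.el 84 * F.el 84 = 1 := (F.mul_self_iff (by norm_num)).2 (by decide +kernel)
  have hTM : ∀ a ∈ centUList, F.el a ∈ M := fun a ha => hmemM.2
    ((F.mul_comm_iff (mem_codes.1 (List.mem_filter.1 ha).1) (by norm_num)).2
      (beq_iff_eq.1 (List.mem_filter.1 ha).2))
  have hinP : ∀ (a : ℕ) (ha : a ∈ centUList), (⟨F.el a, hTM a ha⟩ : M) ∈ (P : Subgroup M) := by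
    intro a ha
    have : F.el a ∈ (P : Subgroup M).map M.subtype := hP ▸ ⟨a, ha, rfl⟩
    obtain ⟨y, hy, e⟩ := this
    exact (show y = (⟨F.el a, hTM a ha⟩ : M) from Subtype.ext e) ▸ hy
  obtain ⟨U, hUdef⟩ : ∃ U : Subgroup M, U = (Subgroup.zpowers (F.el 84)).subgroupOf M := ⟨_, rfl⟩
  have hUmem : ∀ {y : M}, y ∈ U → (y : G) = 1 ∨ (y : G) = F.el 84 := fun {y} hy => by
    rw [hUdef, Subgroup.mem_subgroupOf, Subgroup.mem_zpowers_iff] at hy
    obtain ⟨n, hn⟩ := hy
    rcases Int.even_or_odd' n with ⟨j, rfl | rfl⟩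
    · left; rw [← hn, zpow_mul]; simp [sq, hu]
    · right; rw [← hn, zpow_add, zpow_mul]; simp [sq, hu]
  haveI : U.Normal := ⟨fun y hy g => by
    have hc : (g : G) * y = y * g := by
      rcases hUmem hy with e | e <;> rw [e]
      · group
      · exact hmemM.1 g.2
    rwa [show g * y * g⁻¹ = y from Subtype.ext (by
      rw [Subgroup.coe_mul, Subgroup.coe_mul, hc, Subgroup.coe_inv, mul_inv_cancel_right])]⟩
  let π : M →* M ⧸ U := QuotientGroup.mk' U
  let P' : Sylow 2 (M ⧸ U) := P.mapSurjective (QuotientGroup.mk'_surjective U)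
  have hone : ∀ {a : ℕ} (ha : a ∈ centUList), a ≠ 0 → a ≠ 84 → π ⟨F.el a, hTM a ha⟩ ≠ 1 := by
    intro a ha h0 h84 e
    have ha' := mem_codes.1 (List.mem_filter.1 ha).1
    rcases hUmem ((QuotientGroup.eq_one_iff _).1 e) with e' | e'
    · exact F.el_ne_one ha' h0 e'
    · exact h84 (F.inj a ha' 84 (by norm_num) e')
  have hord : ∀ {a : ℕ} (ha : a ∈ centUList), a ≠ 0 → a ≠ 84 → mulC 2 a a = 0 →
      orderOf (π ⟨F.el a, hTM a ha⟩) = 2 := by
    intro a ha h0 h84 h2
    refine orderOf_eq_prime ?_ (hone ha h0 h84)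
    rw [← map_pow, show (⟨F.el a, hTM a ha⟩ : M) ^ 2 = 1 from Subtype.ext (by
      rw [SubmonoidClass.coe_pow, sq]
      exact (F.mul_self_iff (mem_codes.1 (List.mem_filter.1 ha).1)).2 h2), map_one]
  have m97 : 97 ∈ centUList := by decide +kernel
  have hiso : ∀ g : M ⧸ U, g * π ⟨F.el 97, hTM 97 m97⟩ * g⁻¹ ∈ P' →
      g * π ⟨F.el 97, hTM 97 m97⟩ * g⁻¹ = π ⟨F.el 97, hTM 97 m97⟩ := by
    intro g hg
    obtain ⟨y, rfl⟩ := QuotientGroup.mk'_surjective U g
    rw [← map_inv, ← map_mul, ← map_mul] at hg ⊢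
    obtain ⟨t, ht, hte⟩ := hg
    have htU := QuotientGroup.eq.1 hte
    have hty : y * ⟨F.el 97, hTM 97 m97⟩ * y⁻¹ ∈ (P : Subgroup M) := by
      have hU : U ≤ (P : Subgroup M) := fun z hz => by
        rcases hUmem hz with e | e
        · rw [show z = 1 from Subtype.ext e]; exact one_mem _
        · exact (show z = ⟨F.el 84, hTM 84 (by decide +kernel)⟩ from Subtype.ext e) ▸ hinP 84 (by decide +kernel)
      simpa using mul_mem ht (hU htU)
    have hG : (y * ⟨F.el 97, hTM 97 m97⟩ * y⁻¹ : M).1 ∈ (P : Subgroup M).map M.subtype := ⟨_, hty, rfl⟩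
    rw [hP] at hG
    obtain ⟨w, hw, hwe⟩ := hG
    simp only [Subgroup.coe_mul, Subgroup.coe_inv] at hwe
    rcases h.conj_mem_pair (hmemM.1 y.2) hw hwe.symm with rfl | rfl
    · congr 1; exact Subtype.ext (by simpa using hwe.symm)
    · refine QuotientGroup.eq.2 ?_
      rw [hUdef, Subgroup.mem_subgroupOf]
      simp only [Subgroup.coe_mul, Subgroup.coe_inv, ← hwe]
      rw [← F.el_inv (by norm_num), ← F.mul _ (F.invC_lt (by norm_num)) _ (by norm_num),
        show mulC 2 (invC 2 181) 97 = 84 by decide +kernel]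
      exact Subgroup.mem_zpowers _
  obtain ⟨N, hN, hodd, hNc⟩ := CfsgLib.ZStar.exists_oddNormal_of_sylow P'
    (hord m97 (by norm_num) (by norm_num) (by decide +kernel)) ⟨_, hinP 97 m97, rfl⟩ hiso
  -- the normal odd subgroup is trivial
  have hfix : ∀ (d : ℕ) (hd : d ∈ centUList), d ∈ fuseList → ∀ k ∈ N,
      k * π ⟨F.el d, hTM d hd⟩ = π ⟨F.el d, hTM d hd⟩ * k → k = 1 := by
    intro d hd hdf k hk hkd
    obtain ⟨y, rfl⟩ := QuotientGroup.mk'_surjective U k
    have hdl := mem_codes.1 (List.mem_filter.1 hd).1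
    rw [← map_mul, ← map_mul] at hkd
    have hz := hUmem (QuotientGroup.eq.1 hkd)
    simp only [Subgroup.coe_mul, Subgroup.coe_inv] at hz
    have hyu : (y : G) * F.el 84 = F.el 84 * y := hmemM.1 y.2
    have hdu : F.el d * F.el 84 = F.el 84 * F.el d := hmemM.1 (hTM d hd)
    obtain ⟨z, hz1, hz2⟩ : ∃ z : G, z * z = 1 ∧ F.el d * y = y * F.el d * z ∧
        z * F.el 84 = F.el 84 * z ∧ z * (y : G) = y * z ∧ z * F.el d = F.el d * z := by
      rcases hz with e | e
      · exact ⟨1, mul_one 1, by rw [mul_one]; exact (inv_mul_eq_one.1 e).symm, by simp, by simp, by simp⟩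
      · exact ⟨F.el 84, hu, by rw [← e]; group, rfl, hyu.symm, hdu.symm⟩
    obtain ⟨hdy, -, hzy, -⟩ := hz2
    have hsq : (y : G) * y * F.el d = F.el d * ((y : G) * y) := by
      calc (y : G) * y * F.el d = y * (y * F.el d) := by group
        _ = y * (y * F.el d * z) * z := by rw [mul_assoc ((y : G)) (_ * z) z, mul_assoc _ z z, hz1, mul_one]
        _ = y * (F.el d * y) * z := by rw [← hdy]
        _ = y * F.el d * (y * z) := by group
        _ = y * F.el d * z * y := by rw [← hzy]; group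
        _ = F.el d * ((y : G) * y) := by rw [← hdy]; group
    have h32 := F.pow_of_commute (h.fu_of_mem hdf)
      (u := F.el 84) (orderOf_eq_prime (by rw [sq]; exact hu) (F.el_ne_one (by norm_num) (by norm_num)))
      (h.not_fu_of_mem (a := 84) (by decide +kernel)) hdu.symm hsq
      ((show Commute (y : G) (F.el 84) from hyu).mul_left hyu).eq
    have h64 : (π y) ^ 64 = 1 := by
      rw [← map_pow, show y ^ 64 = 1 from Subtype.ext (by
        rw [SubmonoidClass.coe_pow, show 64 = 2 * 32 from rfl, pow_mul, sq, h32]; rfl), map_one]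
    have h1 : orderOf (π y) ∣ 2 ^ 6 := orderOf_dvd_of_pow_eq_one h64
    have h2 : orderOf (π y) ∣ Nat.card N := by
      have := orderOf_dvd_natCard (⟨π y, hk⟩ : N)
      rwa [← Subgroup.orderOf_coe] at this
    have h3 : Nat.Coprime (2 ^ 6) (Nat.card N) := Nat.Coprime.pow_left _ (Nat.coprime_two_left.2 hodd)
    exact orderOf_eq_one_iff.1 (Nat.dvd_one.1 (h3 ▸ Nat.dvd_gcd h1 h2))
  have hN1 : ∀ k ∈ N, k = 1 := by
    intro k hk
    have m96 : sC ∈ centUList := by decide +kernel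
    have m30 : 30 ∈ centUList := by decide +kernel
    have m126 : 126 ∈ centUList := by decide +kernel
    have i1 := @CfsgLib.LargeExtraspecial.conj_eq_inv_of_fixedPointFree _ _ _ N _
      (hord m96 (by norm_num) (by norm_num) (by decide +kernel))
      (Subgroup.mem_normalizer_iff.2 fun a => ⟨fun ha => hN.conj_mem a ha _, fun ha => by
        simpa [mul_assoc] using hN.conj_mem _ ha (π ⟨F.el sC, hTM _ m96⟩)⁻¹⟩)
      (hfix sC m96 (by decide +kernel))
    have i2 := @CfsgLib.LargeExtraspecial.conj_eq_inv_of_fixedPointFree _ _ _ N _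
      (hord m30 (by norm_num) (by norm_num) (by decide +kernel))
      (Subgroup.mem_normalizer_iff.2 fun a => ⟨fun ha => hN.conj_mem a ha _, fun ha => by
        simpa [mul_assoc] using hN.conj_mem _ ha (π ⟨F.el 30, hTM _ m30⟩)⁻¹⟩)
      (hfix 30 m30 (by decide +kernel))
    refine hfix 126 m126 (by decide +kernel) k hk ?_
    have e126 : π ⟨F.el 126, hTM _ m126⟩ = π ⟨F.el sC, hTM _ m96⟩ * π ⟨F.el 30, hTM _ m30⟩ := by
      rw [← map_mul]
      exact congrArg π (Subtype.ext (by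
        rw [Subgroup.coe_mul, ← F.mul _ (by norm_num) _ (by norm_num)]
        exact congrArg F.el (by decide +kernel)))
    rw [e126]
    refine (mul_inv_eq_iff_eq_mul.1 ?_).symm
    calc _ = π ⟨F.el sC, hTM _ m96⟩ * (π ⟨F.el 30, hTM _ m30⟩ * k * (π ⟨F.el 30, hTM _ m30⟩)⁻¹) *
          (π ⟨F.el sC, hTM _ m96⟩)⁻¹ := by group
      _ = k := by rw [i2 hk, i1 (N.inv_mem hk), inv_inv]
  have hc := hN1 _ (hNc (π ⟨x, hmemM.2 hx⟩))
  rw [← map_inv, ← map_inv, ← map_mul, ← map_mul, ← map_mul] at hc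
  have h181 : F.el 84 * F.el 97 = F.el 181 := by
    rw [← F.mul _ (by norm_num) _ (by norm_num)]; exact congrArg F.el (by decide +kernel)
  rcases hUmem ((QuotientGroup.eq_one_iff _).1 hc) with e | e <;>
    simp only [Subgroup.coe_mul, Subgroup.coe_inv] at e
  · left
    have e' := mul_inv_eq_iff_eq_mul.1 e
    rw [one_mul] at e'
    have e'' := mul_inv_eq_iff_eq_mul.1 e'
    rw [← e'', mul_inv_cancel_right]
  · right
    have e' := mul_inv_eq_iff_eq_mul.1 (mul_inv_eq_iff_eq_mul.1 e)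
    rw [← h181]
    have hv : Commute (F.el 97) (F.el 84) := (F.mul_comm_iff (by norm_num) (by norm_num)).2 (by decide +kernel)
    calc x * F.el 97 * x⁻¹ = F.el 84 * (F.el 84 * x * F.el 97) * x⁻¹ := by
          rw [show F.el 84 * (F.el 84 * x * F.el 97) = F.el 84 * F.el 84 * (x * F.el 97) by group, hu, one_mul]
      _ = F.el 84 * F.el 97 := by rw [← e']; group

end Frame

end CfsgLib.ExtraSymThree
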