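import Cfsg.Agent.ExtraSymThree.Frame
import Cfsg.Agent.LargeExtraspecial.PairFacts

/-!
Fusion of involutions of the centraliser into `s`.
-/

set_option autoImplicit false

namespace CfsgLib.ExtraSymThree

open CfsgLib.LargeExtraspecial

/-- The codes of the elements commuting with the code `e`. -/
def centC (k e : ℕ) : List ℕ := codes.filter fun b => mulC k b e == mulC k e b

/-- All members are conjugate to the first. -/
def classOK (k : ℕ) (l : List ℕ) : Bool :=
  l.all fun a => decide (a < 192) && codes.any fun g => conC k g (l.headD 0) == a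

theorem centre_check : ((List.range 4).all fun k => codes.all fun a =>
    !([24, 48, 6, 12].all fun q => mulC k q a == mulC k a q) || (a == 0 || a == sC)) = true := by
  decide +kernel

theorem two_group_check : ((List.range 4).all fun k => codes.all fun e =>
    !(Nat.beq (e % 6) 0 && mulC k e e == 0 && !(e == 0 || e == sC)) ||
      (centC k e).all fun b => (Nat.iterate (fun c => mulC k c c) 5 b) == 0) = true := by
  decide +kernel

variable {G : Type*} [Group G] {k : ℕ} {s : G}

namespace Frame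

variable (F : Frame k s)

/-- The element of the code is conjugate to `s`. -/
def Fu (a : ℕ) : Prop := IsConj s (F.el a)

theorem fu_sC : F.Fu sC := by rw [Fu, F.el_sC]

theorem fu_conC {g a : ℕ} (hg : g < 192) (ha : a < 192) : F.Fu (conC k g a) ↔ F.Fu a :=
  ⟨fun h => h.trans (F.isConj_conC hg ha).symm, fun h => h.trans (F.isConj_conC hg ha)⟩

theorem fu_class {l : List ℕ} (h : classOK k l = true) {a b : ℕ} (ha : a ∈ l) (hb : b ∈ l)
    (hfu : F.Fu a) : F.Fu b := by
  simp only [classOK, List.all_eq_true, Bool.and_eq_true, decide_eq_true_eq, List.any_eq_true,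
    beq_iff_eq] at h
  obtain ⟨ha', g, hg, hga⟩ := h a ha
  obtain ⟨-, g', hg', hgb⟩ := h b hb
  have h0 : l.headD 0 < 192 := by
    cases l with
    | nil => simp at ha
    | cons c t => exact (h c List.mem_cons_self).1
  have h1 : F.Fu (l.headD 0) := (F.fu_conC (mem_codes.1 hg) h0).1 (hga.symm ▸ hfu)
  exact hgb ▸ (F.fu_conC (mem_codes.1 hg') h0).2 h1

theorem orderOf_el_of_fu {a : ℕ} (h : F.Fu a) : orderOf (F.el a) = 2 := by
  obtain ⟨g, hg⟩ := isConj_iff.1 h
  rw [← hg]
  exact (orderOf_injective (MulAut.conj g).toMonoidHom (MulAut.conj g).injective s).trans F.orderOf_s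

theorem fu_involution {a : ℕ} (ha : a < 192) (h : F.Fu a) : a ≠ 0 ∧ mulC k a a = 0 := by
  have h2 := F.orderOf_el_of_fu h
  refine ⟨fun e => ?_, ?_⟩
  · rw [e, F.el_zero, orderOf_one] at h2
    omega
  · rw [← F.mul_self_iff ha, ← sq, ← h2]
    exact pow_orderOf_eq_one _

/-- An element permuting `s`, `e`, `s e` cyclically. -/
structure Mover (e : ℕ) (g : G) : Prop where
  lt : e < 192
  inQ : e % 6 = 0
  cube : g * g * g = 1
  move_s : g * s * g⁻¹ = F.el e
  move_e : g * F.el e * g⁻¹ = s * F.el e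
  move_se : g * (s * F.el e) * g⁻¹ = s

theorem isZSub {Q : Subgroup G} (hex : Cfsg.IsExtraspecial 2 Q)
    (hZ : (Subgroup.center Q).map Q.subtype = Subgroup.zpowers s)
    (hQ : ∀ a, a < 192 → (F.el a ∈ Q ↔ a % 6 = 0))
    (hn : ∀ g : G, g * s = s * g → ∀ q ∈ Q, g * q * g⁻¹ ∈ Q) : IsZSub Q s := by
  refine ⟨hex, le_antisymm (fun g hg => ?_) ?_, fun g hg => ?_, hZ, F.orderOf_s⟩
  · have hsQ : s ∈ Q := center_map_le Q (hZ ▸ Subgroup.mem_zpowers s)
    rw [Subgroup.mem_centralizer_iff] at hg
    obtain ⟨a, ha, rfl⟩ := F.exists_code (hg s hsQ).symm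
    have hc := List.all_eq_true.1 (List.all_eq_true.1 centre_check k (List.mem_range.2 F.klt)) a
      (mem_codes.2 ha)
    have hall : ([24, 48, 6, 12].all fun q => mulC k q a == mulC k a q) = true := by
      refine List.all_eq_true.2 fun q hq => beq_iff_eq.2 ?_
      have hq' : q < 192 ∧ q % 6 = 0 := by fin_cases hq <;> norm_num
      exact (F.mul_comm_iff hq'.1 ha).1 (hg _ ((hQ q hq'.1).2 hq'.2))
    simp only [hall, Bool.not_true, Bool.false_or, Bool.or_eq_true, beq_iff_eq] at hc
    rw [hZ]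
    rcases hc with rfl | rfl
    · rw [F.el_zero]; exact one_mem _
    · rw [F.el_sC]; exact Subgroup.mem_zpowers s
  · intro g hg
    rw [hZ] at hg
    obtain ⟨n, rfl⟩ := Subgroup.mem_zpowers_iff.1 hg
    rw [Subgroup.mem_centralizer_iff]
    exact fun q hq => ((show Commute q s from commutes_of_mem hZ hq).zpow_right n).eq
  · rw [hZ, centralizer_zpowers, Subgroup.mem_centralizer_singleton_iff] at hg
    rw [Subgroup.mem_normalizer_iff]
    intro q
    refine ⟨hn g hg q, fun hq => ?_⟩
    have := hn g⁻¹ (show Commute g s from hg).inv_left _ hq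
    simpa [mul_assoc] using this

variable [Finite G]

/-- A fused involution of `Q` has a mover. -/
theorem exists_mover {Q : Subgroup G} (h : IsZSub Q s) (hcard : Nat.card Q = 32)
    (hQ : ∀ a, a < 192 → (F.el a ∈ Q ↔ a % 6 = 0)) {e : ℕ} (he : e < 192) (he6 : e % 6 = 0)
    (hes : e ≠ sC) (hfu : F.Fu e) : ∃ g, F.Mover e g := by
  obtain ⟨y, hy⟩ := isConj_iff.1 hfu
  have hne : y * s * y⁻¹ ≠ s := fun e' => hes (F.inj e he sC (by norm_num) (by
    rw [F.el_sC, ← hy, e']))
  have d := pairData_of_mem (g := y) h (by rw [hcard]; norm_num) (hy.symm ▸ (hQ e he).2 he6) hne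
  rw [hy] at d
  obtain ⟨-, -, φ, hφ, hsurj⟩ := d.main
  obtain ⟨n, -, hn⟩ := hsurj (finRotate 3)
  have hn3 : φ (n ^ 3) = 1 := by rw [map_pow, hn]; decide
  have hc := (d.hom_ker φ hφ _).1 hn3
  rw [Subgroup.mem_centralizer_iff] at hc
  obtain ⟨b, hb, hbe⟩ := F.exists_code (hc s (by simp)).symm
  have hbT : b ∈ centC k e := by
    refine List.mem_filter.2 ⟨mem_codes.2 hb, beq_iff_eq.2 ((F.mul_comm_iff hb he).1 ?_)⟩
    rw [hbe]; exact (hc (F.el e) (by simp)).symm
  obtain ⟨he0, he2⟩ := F.fu_involution he hfu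
  have hchk := List.all_eq_true.1 (List.all_eq_true.1 two_group_check k (List.mem_range.2 F.klt)) e
    (mem_codes.2 he)
  simp only [he6, he2, beq_iff_eq, he0, hes, Bool.or_eq_true, Bool.not_eq_eq_eq_not, Bool.not_true,
    Bool.and_eq_false_imp, List.all_eq_true, show Nat.beq 0 0 = true from rfl, beq_self_eq_true,
    Bool.and_self, Bool.not_false, Bool.and_true] at hchk
  have hit : ∀ j, F.el (Nat.iterate (fun c => mulC k c c) j b) = F.el b ^ 2 ^ j ∧
      Nat.iterate (fun c => mulC k c c) j b < 192 := by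
    intro j
    induction j with
    | zero => exact ⟨(pow_one _).symm, hb⟩
    | succ j ih =>
      rw [Function.iterate_succ', Function.comp_apply]
      refine ⟨?_, mulC_lt _ _ _⟩
      rw [F.mul _ ih.2 _ ih.2, ih.1, ← pow_add, pow_succ, mul_two]
  have h32 : (n : G) ^ 96 = 1 := by
    have h5 := (hit 5).1
    have hb5 : Nat.iterate (fun c => mulC k c c) 5 b = 0 := by
      rcases hchk with hh | hh
      · simp at hh
      · exact hh b hbT
    rw [hb5, F.el_zero, hbe] at h5
    rw [show 96 = 3 * 2 ^ 5 from rfl, pow_mul]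
    exact_mod_cast h5.symm
  refine ⟨(n : G) ^ 64, he, he6, ?_, ?_, ?_, ?_⟩
  · rw [← pow_add, ← pow_add, show 64 + 64 + 64 = 96 * 2 from rfl, pow_mul, h32, one_pow]
  all_goals
    have hact : ∀ i, d.v ((finRotate 3) i) = (n : G) ^ 64 * d.v i * ((n : G) ^ 64)⁻¹ := fun i => by
      have := hφ (n ^ 64) i
      rwa [map_pow, hn, show 64 = 3 * 21 + 1 from rfl, pow_succ, pow_mul,
        show (finRotate 3) ^ 3 = 1 by decide, one_pow, one_mul] at this
  · exact (hact 0).symm
  · exact (hact 1).symm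
  · exact (hact 2).symm

variable {F}

theorem Mover.map {e : ℕ} {g : G} (m : F.Mover e g) {b : ℕ} (hb : b ∈ centC k e) :
    ∃ c ∈ centC k e, F.el c = g * F.el b * g⁻¹ := by
  obtain ⟨hb1, hb2⟩ := List.mem_filter.1 hb
  have hb' := mem_codes.1 hb1
  have hce : Commute (F.el b) (F.el e) := (F.mul_comm_iff hb' m.lt).2 (beq_iff_eq.1 hb2)
  have hcs : Commute (F.el b) s := F.commute hb'
  have h1 : Commute (g * F.el b * g⁻¹) s := by
    have := (Commute.conj_iff g).2 (hcs.mul_right hce)
    rwa [m.move_se] at this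
  obtain ⟨c, hc, hce'⟩ := F.exists_code h1.eq
  refine ⟨c, List.mem_filter.2 ⟨mem_codes.2 hc, beq_iff_eq.2 ((F.mul_comm_iff hc m.lt).1 ?_)⟩, hce'⟩
  rw [hce']
  exact (m.move_s ▸ (Commute.conj_iff g).2 hcs).eq

/-- The codes in `centC` squaring to a given code. -/
def rootsC (k e z : ℕ) : List ℕ := (centC k e).filter fun b => mulC k b b == z

theorem Mover.roots_le {e : ℕ} {g : G} (m : F.Mover e g) {z z' : ℕ} (hz : z < 192) (hz' : z' < 192)
    (hzz : g * F.el z * g⁻¹ = F.el z') : (rootsC k e z).length ≤ (rootsC k e z').length := by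
  classical
  have hex : ∀ b ∈ rootsC k e z, ∃ c, c ∈ rootsC k e z' ∧ F.el c = g * F.el b * g⁻¹ := by
    intro b hb
    obtain ⟨hbT, hb2⟩ := List.mem_filter.1 hb
    obtain ⟨c, hc, hce⟩ := m.map hbT
    have hb' := mem_codes.1 (List.mem_filter.1 hbT).1
    have hc' := mem_codes.1 (List.mem_filter.1 hc).1
    refine ⟨c, List.mem_filter.2 ⟨hc, beq_iff_eq.2 (F.inj _ (mulC_lt _ _ _) _ hz' ?_)⟩, hce⟩
    rw [F.mul c hc' c hc', hce, ← hzz, ← beq_iff_eq.1 hb2, F.mul b hb' b hb']
    group
  choose f hf hfe using hex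
  have hnd : ∀ z, (rootsC k e z).Nodup := fun z => (List.nodup_range.filter _).filter _
  rw [← List.toFinset_card_of_nodup (hnd z), ← List.toFinset_card_of_nodup (hnd z')]
  refine Finset.card_le_card_of_injOn (fun b => if h : b ∈ rootsC k e z then f b h else 0) ?_ ?_
  · intro b hb
    have hb' : b ∈ rootsC k e z := List.mem_toFinset.1 hb
    simp only [hb', dite_true]
    exact List.mem_toFinset.2 (hf b hb')
  · intro b hb b' hb' he
    have h1 : b ∈ rootsC k e z := List.mem_toFinset.1 hb
    have h2 : b' ∈ rootsC k e z := List.mem_toFinset.1 hb'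
    simp only [h1, h2, dite_true] at he
    have := congrArg F.el he
    rw [hfe, hfe] at this
    exact F.inj b (mem_codes.1 (List.mem_filter.1 (List.mem_filter.1 h1).1).1) b'
      (mem_codes.1 (List.mem_filter.1 (List.mem_filter.1 h2).1).1)
      (mul_left_cancel (mul_right_cancel this))

/-- Moved elements have equally many square roots. -/
theorem Mover.roots_eq {e : ℕ} {g : G} (m : F.Mover e g) :
    (rootsC k e sC).length = (rootsC k e e).length := by
  have hs : sC < 192 := by norm_num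
  have hse : mulC k sC e < 192 := mulC_lt _ _ _
  refine le_antisymm (m.roots_le hs m.lt (by rw [F.el_sC]; exact m.move_s))
    ((m.roots_le m.lt hse ?_).trans (m.roots_le hse hs ?_))
  · rw [F.mul _ hs _ m.lt, F.el_sC]; exact m.move_e
  · rw [F.mul _ hs _ m.lt, F.el_sC]; exact m.move_se

end Frame

end CfsgLib.ExtraSymThree
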