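import Cfsg.Agent.ExtraSymThree.Sixteen

/-!
Two commuting movers normalised by a four group of codes.
-/

set_option autoImplicit false

namespace CfsgLib.ExtraSymThree

/-- The table of the first mover. -/
def beta0 : List (ℕ × ℕ) := betaOf 0 (67, 1)

/-- The table of the second mover. -/
def beta1 : List (ℕ × ℕ) := betaOf 1 (31, 1)

theorem lift_ops : (sixW.all fun z =>
    (beta0.any fun p => p.1 == z) && (beta1.any fun p => p.1 == z) &&
    sixW.contains (app beta0 z) && sixW.contains (app beta1 z) &&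
    sixW.contains (conC 2 36 z) && sixW.contains (conC 2 90 z) &&
    app beta0 (app beta1 z) == app beta1 (app beta0 z) &&
    app beta0 (app beta0 (app beta0 z)) == z && app beta1 (app beta1 (app beta1 z)) == z &&
    conC 2 36 (app beta0 z) == app beta0 (app beta0 (conC 2 36 z)) &&
    conC 2 36 (app beta1 z) == app beta1 (conC 2 36 z) &&
    conC 2 90 (app beta0 z) == app beta0 (conC 2 90 z) &&
    conC 2 90 (app beta1 z) == app beta1 (app beta1 (conC 2 90 z)) &&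
    mulC 2 z z == 0 && (!(app beta0 z == z) || z == 0) &&
    mulC 2 (mulC 2 z (app beta1 z)) (app beta1 (app beta1 z)) == 0 &&
    (sixW.all fun w => mulC 2 z w == mulC 2 w z && sixW.contains (mulC 2 z w)) &&
    (sixW.any fun w => mulC 2 (mulC 2 w z) (app beta0 w) == 0) &&
    (sixW.any fun w => mulC 2 (mulC 2 w z) (app beta0 (app beta0 w)) == 0) &&
    (sixW.all fun u =>
      sixW.contains (mulC 2 (mulC 2 z 36) (mulC 2 z 36)) &&
      sixW.contains (mulC 2 (mulC 2 u 90) (mulC 2 u 90)) &&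
      sixW.contains (mulC 2 (mulC 2 (mulC 2 (mulC 2 z 36) (mulC 2 u 90)) (invC 2 (mulC 2 z 36)))
        (invC 2 (mulC 2 u 90))) &&
      (!(mulC 2 (mulC 2 z 36) (mulC 2 z 36) == 0 && mulC 2 (mulC 2 u 90) (mulC 2 u 90) == 0 &&
        mulC 2 (mulC 2 z 36) (mulC 2 u 90) == mulC 2 (mulC 2 u 90) (mulC 2 z 36)) ||
        sixW.any fun w => conC 2 w 36 == mulC 2 z 36 && conC 2 w 90 == mulC 2 u 90))) = true := by
  decide +kernel

theorem six_self : (codes.all fun g => !(sixW.all fun z => conC 2 g z == z) || sixW.contains g) = true := by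
  decide +kernel

variable {G : Type*} [Group G] {s : G}

namespace Frame

variable (F : Frame 2 s)

/-- Conjugation by `g` acts on the subgroup of order 16 as `f`. -/
def Acts (g : G) (f : ℕ → ℕ) : Prop :=
  ∀ z ∈ sixW, f z ∈ sixW ∧ g * F.el z * g⁻¹ = F.el (f z)

/-- Two commuting movers normalised by the four group `⟨36, 90⟩`. -/
structure Pair (g h : G) : Prop where
  act0 : F.Acts g (app beta0)
  act1 : F.Acts h (app beta1)
  cube0 : g * g * g = 1
  cube1 : h * h * h = 1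
  comm : g * h = h * g
  inv0 : F.el 36 * g * (F.el 36)⁻¹ = g⁻¹
  fix0 : F.el 36 * h * (F.el 36)⁻¹ = h
  inv1 : F.el 90 * h * (F.el 90)⁻¹ = h⁻¹
  fix1 : F.el 90 * g * (F.el 90)⁻¹ = g

theorem sixW_lt : ∀ z ∈ sixW, z < 192 := by decide

theorem sC_mem_sixW : sC ∈ sixW := by decide

variable {F}

theorem Acts.mul {g h : G} {f f' : ℕ → ℕ} (hg : F.Acts g f) (hh : F.Acts h f') :
    F.Acts (g * h) (fun z => f (f' z)) := fun z hz => by
  obtain ⟨h1, e1⟩ := hh z hz
  obtain ⟨h2, e2⟩ := hg _ h1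
  refine ⟨h2, ?_⟩
  rw [← e2, ← e1]
  group

theorem Acts.congr {g : G} {f f' : ℕ → ℕ} (hg : F.Acts g f) (h : ∀ z ∈ sixW, f z = f' z) :
    F.Acts g f' := fun z hz => h z hz ▸ hg z hz

theorem Acts.inv {g : G} {f : ℕ → ℕ} (hg : F.Acts g f) (h3 : g * g * g = 1) :
    F.Acts g⁻¹ (fun z => f (f z)) := by
  rw [show g⁻¹ = g * g from inv_eq_of_mul_eq_one_right (by rw [← mul_assoc]; exact h3)]
  exact hg.mul hg

theorem Acts.code (F : Frame 2 s) {a : ℕ} (ha : a < 192) (h : ∀ z ∈ sixW, conC 2 a z ∈ sixW) :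
    F.Acts (F.el a) (conC 2 a) := fun z hz =>
  ⟨h z hz, (F.el_conC ha (sixW_lt z hz)).symm⟩

/-- An element acting trivially lies in the subgroup. -/
theorem Acts.mem_six {g : G} {f : ℕ → ℕ} (hg : F.Acts g f) (h : ∀ z ∈ sixW, f z = z) :
    ∃ w ∈ sixW, F.el w = g := by
  have hg' := hg.congr h
  have hs := (hg' sC sC_mem_sixW).2
  rw [F.el_sC] at hs
  obtain ⟨w, hw, rfl⟩ := F.exists_code (mul_inv_eq_iff_eq_mul.1 hs)
  refine ⟨w, ?_, rfl⟩
  have h1 := List.all_eq_true.1 six_self w (mem_codes.2 hw)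
  have h2 : (sixW.all fun z => conC 2 w z == z) = true := List.all_eq_true.2 fun z hz => beq_iff_eq.2 <|
    F.inj _ (conC_lt _ _ _) z (sixW_lt z hz) (by
      rw [F.el_conC hw (sixW_lt z hz)]; exact (hg' z hz).2)
  simpa [h2] using h1

variable (F)

theorem acts_beta {g : G} {t : List (ℕ × ℕ)} (h : F.Moves g t)
    (ht : ∀ z ∈ sixW, (t.any fun p => p.1 == z) = true ∧ app t z ∈ sixW) : F.Acts g (app t) :=
  fun z hz => ⟨(ht z hz).2, (h _ (mem_lookup t z (ht z hz).1)).2.2⟩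

/-- Movers with the two tables can be chosen commuting and normalised. -/
theorem exists_pair {g h : G} (hg3 : g * g * g = 1) (hh3 : h * h * h = 1)
    (hg : F.Moves g beta0) (hh : F.Moves h beta1) : ∃ g' h', F.Pair g' h' := by
  have ops := List.all_eq_true.1 lift_ops
  simp only [Bool.and_eq_true, List.contains_iff_mem, beq_iff_eq, List.any_eq_true, List.all_eq_true,
    Bool.or_eq_true, Bool.not_eq_eq_eq_not, Bool.not_true, and_assoc] at ops
  have d0 : ∀ z ∈ sixW, app beta0 z ∈ sixW := fun z hz => (ops z hz).2.2.1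
  have d1 : ∀ z ∈ sixW, app beta1 z ∈ sixW := fun z hz => (ops z hz).2.2.2.1
  have c36 : ∀ z ∈ sixW, conC 2 36 z ∈ sixW := fun z hz => (ops z hz).2.2.2.2.1
  have c90 : ∀ z ∈ sixW, conC 2 90 z ∈ sixW := fun z hz => (ops z hz).2.2.2.2.2.1
  have o := fun z (hz : z ∈ sixW) => (ops z hz).2.2.2.2.2.2
  have a0 : F.Acts g (app beta0) := F.acts_beta hg fun z hz =>
    ⟨List.any_eq_true.2 (by simpa using (ops z hz).1), d0 z hz⟩
  have a1 : F.Acts h (app beta1) := F.acts_beta hh fun z hz =>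
    ⟨List.any_eq_true.2 (by simpa using (ops z hz).2.1), d1 z hz⟩
  have cub0 : ∀ z ∈ sixW, app beta0 (app beta0 (app beta0 z)) = z := fun z hz => (o z hz).2.1
  have cub1 : ∀ z ∈ sixW, app beta1 (app beta1 (app beta1 z)) = z := fun z hz => (o z hz).2.2.1
  have sq : ∀ z ∈ sixW, mulC 2 z z = 0 := fun z hz => (o z hz).2.2.2.2.2.2.2.1
  have fixfree : ∀ z ∈ sixW, app beta0 z = z → z = 0 := fun z hz e => by
    rcases (o z hz).2.2.2.2.2.2.2.2.1 with e' | e'
    · rw [e] at e'; simp at e'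
    · exact e'
  have o' := fun z (hz : z ∈ sixW) => (o z hz).2.2.2.2.2.2.2.2.2
  have elmul : ∀ z ∈ sixW, ∀ w ∈ sixW, F.el z * F.el w = F.el w * F.el z := fun z hz w hw =>
    (F.mul_comm_iff (sixW_lt z hz) (sixW_lt w hw)).2 ((o' z hz).2.1 w hw).1
  have elinv : ∀ z ∈ sixW, (F.el z)⁻¹ = F.el z := fun z hz =>
    inv_eq_of_mul_eq_one_right ((F.mul_self_iff (sixW_lt z hz)).2 (sq z hz))
  -- the second mover made to commute with the first
  obtain ⟨d, hd, hde⟩ := ((a0.mul a1).mul (a0.inv hg3)).mul (a1.inv hh3) |>.mem_six fun z hz => by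
    have h1 := d1 _ (d1 z hz)
    show app beta0 (app beta1 (app beta0 (app beta0 (app beta1 (app beta1 z))))) = z
    rw [(o _ (d0 _ (d0 _ h1))).1, cub0 _ h1, cub1 z hz]
  obtain ⟨w, hw, hwd⟩ := (o' d hd).2.2.1
  obtain ⟨h', hh'⟩ : ∃ h', h' = F.el w * h := ⟨_, rfl⟩
  have a1' : F.Acts h' (app beta1) := fun z hz => ⟨d1 z hz, by
    rw [hh', show F.el w * h * F.el z * (F.el w * h)⁻¹ = F.el w * (h * F.el z * h⁻¹) * (F.el w)⁻¹ by group,
      (a1 z hz).2, elmul w hw _ (d1 z hz), mul_inv_cancel_right]⟩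
  have hh'3 : h' * h' * h' = 1 := by
    have e1 := (a1 w hw).2
    have e2 := (a1 _ (d1 w hw)).2
    have h0 := (o' w hw).1
    have : F.el w * F.el (app beta1 w) * F.el (app beta1 (app beta1 w)) = 1 := by
      rw [← F.mul _ (sixW_lt w hw) _ (sixW_lt _ (d1 w hw)),
        ← F.mul _ (mulC_lt _ _ _) _ (sixW_lt _ (d1 _ (d1 w hw))), h0, F.el_zero]
    calc h' * h' * h' = F.el w * (h * F.el w * h⁻¹) * (h * (h * F.el w * h⁻¹) * h⁻¹) * (h * h * h) := by
          rw [hh']; group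
      _ = 1 := by rw [e1, e2, this, hh3, one_mul]
  have hcomm : g * h' = h' * g := by
    have e0 := (a0 w hw).2
    have hlt := sixW_lt
    have h1 : F.el w * F.el d * F.el (app beta0 w) = 1 := by
      rw [← F.mul _ (hlt w hw) _ (hlt d hd), ← F.mul _ (mulC_lt _ _ _) _ (hlt _ (d0 w hw)), hwd, F.el_zero]
    have h2 : F.el (app beta0 w) * F.el d = F.el w := by
      have h3 := eq_inv_of_mul_eq_one_left h1
      rw [elinv _ (d0 w hw)] at h3
      rw [← h3, mul_assoc, (F.mul_self_iff (hlt d hd)).2 (sq d hd), mul_one]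
    calc g * h' = g * F.el w * g⁻¹ * (g * h * g⁻¹ * h⁻¹) * (h * g) := by rw [hh']; group
      _ = F.el (app beta0 w) * F.el d * (h * g) := by rw [e0, hde]
      _ = h' * g := by rw [h2, hh', mul_assoc]
  -- fixed points of the first mover
  have hfix : ∀ z ∈ sixW, F.el z * g = g * F.el z → z = 0 := fun z hz e => fixfree z hz <| by
    refine F.inj _ (sixW_lt _ (d0 z hz)) z (sixW_lt z hz) ?_
    rw [← (a0 z hz).2, ← e, mul_inv_cancel_right]
  -- the first code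
  have A36 : F.Acts (F.el 36) (conC 2 36) := Acts.code F (by norm_num) c36
  have A90 : F.Acts (F.el 90) (conC 2 90) := Acts.code F (by norm_num) c90
  have s36 : F.el 36 * F.el 36 = 1 := (F.mul_self_iff (by norm_num)).2 (by decide +kernel)
  have s90 : F.el 90 * F.el 90 = 1 := (F.mul_self_iff (by norm_num)).2 (by decide +kernel)
  have hc2 : ∀ (b : ℕ), b < 192 → F.el b * F.el b = 1 → ∀ z ∈ sixW, conC 2 b (conC 2 b z) = z :=
    fun b hb hb2 z hz => F.inj _ (conC_lt _ _ _) z (sixW_lt z hz) (by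
      rw [F.el_conC hb (conC_lt _ _ _), F.el_conC hb (sixW_lt z hz), inv_eq_of_mul_eq_one_right hb2]
      rw [show F.el b * (F.el b * F.el z * F.el b) * F.el b = (F.el b * F.el b) * F.el z * (F.el b * F.el b) by
        group, hb2]
      simp)
  obtain ⟨a, ha, hae⟩ := ((A36.mul a0).mul A36).mul a0 |>.mem_six fun z hz => by
    show conC 2 36 (app beta0 (conC 2 36 (app beta0 z))) = z
    rw [(o z hz).2.2.2.1]
    rw [cub0 _ (c36 z hz), hc2 36 (by norm_num) s36 z hz]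
  obtain ⟨w0, hw0, hwa⟩ := (o' a ha).2.2.2.1
  obtain ⟨n0, hn0⟩ : ∃ n0, n0 = F.el w0 * F.el 36 := ⟨_, rfl⟩
  have inv0 : n0 * g * n0⁻¹ = g⁻¹ := by
    have e0 := ((a0.inv hg3) w0 hw0).2
    have h1 : F.el w0 * F.el a * F.el (app beta0 (app beta0 w0)) = 1 := by
      rw [← F.mul _ (sixW_lt _ hw0) _ (sixW_lt _ ha),
        ← F.mul _ (mulC_lt _ _ _) _ (sixW_lt _ (d0 _ (d0 _ hw0))), hwa, F.el_zero]
    calc n0 * g * n0⁻¹ = F.el w0 * (F.el 36 * g * F.el 36 * g) * (g⁻¹ * (F.el w0)⁻¹ * g⁻¹⁻¹) * g⁻¹ := by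
          rw [hn0, mul_inv_rev, inv_eq_of_mul_eq_one_right s36]; group
      _ = F.el w0 * F.el a * F.el (app beta0 (app beta0 w0)) * g⁻¹ := by
          rw [hae, elinv w0 hw0, e0]
      _ = g⁻¹ := by rw [h1, one_mul]
  obtain ⟨b, hb, hbe⟩ := ((A90.mul a0).mul A90).mul (a0.inv hg3) |>.mem_six fun z hz => by
    have h1 := d0 _ (d0 z hz)
    show conC 2 90 (app beta0 (conC 2 90 (app beta0 (app beta0 z)))) = z
    rw [(o _ (c90 _ h1)).2.2.2.2.2.1, hc2 90 (by norm_num) s90 _ h1, cub0 z hz]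
  obtain ⟨w1, hw1, hwb⟩ := (o' b hb).2.2.1
  obtain ⟨n1, hn1⟩ : ∃ n1, n1 = F.el w1 * F.el 90 := ⟨_, rfl⟩
  have fix1 : n1 * g * n1⁻¹ = g := by
    have e0 := (a0 w1 hw1).2
    have h1 : F.el w1 * F.el b * F.el (app beta0 w1) = 1 := by
      rw [← F.mul _ (sixW_lt _ hw1) _ (sixW_lt _ hb),
        ← F.mul _ (mulC_lt _ _ _) _ (sixW_lt _ (d0 _ hw1)), hwb, F.el_zero]
    calc n1 * g * n1⁻¹ = F.el w1 * (F.el 90 * g * F.el 90 * g⁻¹) * (g * (F.el w1)⁻¹ * g⁻¹) * g := by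
          rw [hn1, mul_inv_rev, inv_eq_of_mul_eq_one_right s90]; group
      _ = F.el w1 * F.el b * F.el (app beta0 w1) * g := by rw [hbe, elinv w1 hw1, e0]
      _ = g := by rw [h1, one_mul]
  -- their effect on the second mover
  have An : ∀ {c w' : ℕ} {f : ℕ → ℕ}, c < 192 → w' ∈ sixW → F.Acts (F.el c) f →
      F.Acts (F.el w' * F.el c) f := by
    intro c w' f _ hw' hf z hz
    refine ⟨(hf z hz).1, ?_⟩
    rw [show F.el w' * F.el c * F.el z * (F.el w' * F.el c)⁻¹ =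
      F.el w' * (F.el c * F.el z * (F.el c)⁻¹) * (F.el w')⁻¹ by group, (hf z hz).2,
      elmul w' hw' _ (hf z hz).1, mul_inv_cancel_right]
  have AN0 : F.Acts n0 (conC 2 36) := hn0 ▸ An (by norm_num) hw0 A36
  have AN1 : F.Acts n1 (conC 2 90) := hn1 ▸ An (by norm_num) hw1 A90
  have hn2 : ∀ {n : G} {f : ℕ → ℕ}, F.Acts n f → (∀ z ∈ sixW, f (f z) = z) → n * n ∈ Set.range F.el →
      F.Acts n⁻¹ f := by
    intro n f hn hff _ z hz
    obtain ⟨h1, e1⟩ := hn _ (hn z hz).1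
    refine ⟨(hn z hz).1, ?_⟩
    rw [hff z hz] at e1
    rw [← e1]; group
  have hr : ∀ c, c < 192 → ∀ n, n = F.el c → n * n ∈ Set.range F.el := fun c hc n e =>
    ⟨mulC 2 c c, by rw [e, F.mul c hc c hc]⟩
  have e36 : n0 = F.el (mulC 2 w0 36) := by rw [hn0, F.mul _ (sixW_lt _ hw0) _ (by norm_num)]
  have e90 : n1 = F.el (mulC 2 w1 90) := by rw [hn1, F.mul _ (sixW_lt _ hw1) _ (by norm_num)]
  have AN0' := hn2 AN0 (hc2 36 (by norm_num) s36) (hr _ (mulC_lt _ _ _) _ e36)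
  have AN1' := hn2 AN1 (hc2 90 (by norm_num) s90) (hr _ (mulC_lt _ _ _) _ e90)
  have fix0 : n0 * h' * n0⁻¹ = h' := by
    obtain ⟨c, hc, hce⟩ := ((AN0.mul a1').mul AN0').mul (a1'.inv hh'3) |>.mem_six fun z hz => by
      have h1 := d1 _ (d1 z hz)
      show conC 2 36 (app beta1 (conC 2 36 (app beta1 (app beta1 z)))) = z
      rw [(o _ (c36 _ h1)).2.2.2.2.1, hc2 36 (by norm_num) s36 _ h1, cub1 z hz]
    have hc0 : c = 0 := hfix c hc <| by
      rw [hce]
      have k1 : Commute (n0 * h' * n0⁻¹) g := by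
        have := ((Commute.conj_iff n0).2 (show Commute h' g from hcomm.symm))
        rw [inv0] at this
        simpa using this.inv_right
      exact (k1.mul_left (show Commute h' g from hcomm.symm).inv_left).eq
    rw [hc0, F.el_zero] at hce
    exact (mul_inv_eq_one.1 hce.symm)
  have inv1 : n1 * h' * n1⁻¹ = h'⁻¹ := by
    obtain ⟨c, hc, hce⟩ := ((AN1.mul a1').mul AN1').mul a1' |>.mem_six fun z hz => by
      show conC 2 90 (app beta1 (conC 2 90 (app beta1 z))) = z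
      rw [(o _ (c90 _ (d1 z hz))).2.2.2.2.2.2.1, hc2 90 (by norm_num) s90 _ (d1 z hz), cub1 z hz]
    have hc0 : c = 0 := hfix c hc <| by
      rw [hce]
      have k1 : Commute (n1 * h' * n1⁻¹) g := by
        have := ((Commute.conj_iff n1).2 (show Commute h' g from hcomm.symm))
        rwa [fix1] at this
      exact (k1.mul_left (show Commute h' g from hcomm.symm)).eq
    rw [hc0, F.el_zero] at hce
    exact (eq_inv_of_mul_eq_one_left hce.symm)
  -- the two codes form a complement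
  have hq0 := (o' w0 hw0).2.2.2.2 w1 hw1
  obtain ⟨m0, m1, m2, hq⟩ := hq0
  have z0 : mulC 2 (mulC 2 w0 36) (mulC 2 w0 36) = 0 := hfix _ m0 <| by
    rw [F.mul _ (mulC_lt _ _ _) _ (mulC_lt _ _ _), ← e36]
    have h1 : n0 * n0 * g * (n0 * n0)⁻¹ = g := by
      calc n0 * n0 * g * (n0 * n0)⁻¹ = n0 * (n0 * g * n0⁻¹) * n0⁻¹ := by group
        _ = n0 * g⁻¹ * n0⁻¹ := by rw [inv0]
        _ = (n0 * g * n0⁻¹)⁻¹ := by group
        _ = g := by rw [inv0, inv_inv]
    exact mul_inv_eq_iff_eq_mul.1 h1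
  have z1 : mulC 2 (mulC 2 w1 90) (mulC 2 w1 90) = 0 := hfix _ m1 <| by
    rw [F.mul _ (mulC_lt _ _ _) _ (mulC_lt _ _ _), ← e90]
    have h1 : Commute n1 g := mul_inv_eq_iff_eq_mul.1 fix1
    exact (h1.mul_left h1).eq
  have z2 : mulC 2 (mulC 2 (mulC 2 (mulC 2 w0 36) (mulC 2 w1 90)) (invC 2 (mulC 2 w0 36)))
      (invC 2 (mulC 2 w1 90)) = 0 := hfix _ m2 <| by
    rw [F.mul _ (mulC_lt _ _ _) _ (F.invC_lt (mulC_lt _ _ _)), F.mul _ (mulC_lt _ _ _) _ (F.invC_lt (mulC_lt _ _ _)),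
      F.mul _ (mulC_lt _ _ _) _ (mulC_lt _ _ _), F.el_inv (mulC_lt _ _ _), F.el_inv (mulC_lt _ _ _), ← e36, ← e90]
    have k1 : Commute n1 g := mul_inv_eq_iff_eq_mul.1 fix1
    have k2 : Commute (n0 * n1 * n0⁻¹) g := by
      have := (Commute.conj_iff n0).2 k1.inv_right
      rwa [show n0 * g⁻¹ * n0⁻¹ = g by rw [← conj_inv, inv0, inv_inv]] at this
    exact (k2.mul_left k1.inv_left).eq
  have hcom : mulC 2 (mulC 2 w0 36) (mulC 2 w1 90) = mulC 2 (mulC 2 w1 90) (mulC 2 w0 36) := by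
    refine (F.mul_comm_iff (mulC_lt _ _ _) (mulC_lt _ _ _)).1 ?_
    have h2 := congrArg F.el z2
    rw [F.mul _ (mulC_lt _ _ _) _ (F.invC_lt (mulC_lt _ _ _)), F.mul _ (mulC_lt _ _ _) _ (F.invC_lt (mulC_lt _ _ _)),
      F.mul _ (mulC_lt _ _ _) _ (mulC_lt _ _ _), F.el_inv (mulC_lt _ _ _), F.el_inv (mulC_lt _ _ _), F.el_zero] at h2
    exact mul_inv_eq_iff_eq_mul.1 (mul_inv_eq_one.1 h2)
  obtain ⟨v, hv, hv36, hv90⟩ := hq.resolve_left (by simp [z0, z1, hcom])
  have hv' := sixW_lt v hv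
  rw [← F.eq_iff (conC_lt _ _ _) (mulC_lt _ _ _), F.el_conC hv' (by norm_num), ← e36] at hv36
  rw [← F.eq_iff (conC_lt _ _ _) (mulC_lt _ _ _), F.el_conC hv' (by norm_num), ← e90] at hv90
  -- conjugate
  let c := MulAut.conj (F.el v)⁻¹
  have hc36 : c n0 = F.el 36 := by rw [← hv36]; simp [c]; group
  have hc90 : c n1 = F.el 90 := by rw [← hv90]; simp [c]; group
  have hact : ∀ {x : G} {f : ℕ → ℕ}, F.Acts x f → F.Acts (c x) f := by
    intro x f hx z hz
    refine ⟨(hx z hz).1, ?_⟩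
    have hcz : ∀ y ∈ sixW, c (F.el y) = F.el y := fun y hy => by
      simp only [c, MulAut.conj_apply, inv_inv, elinv v hv]
      rw [elmul v hv y hy, mul_assoc, (F.mul_self_iff hv').2 (sq v hv), mul_one]
    rw [← hcz z hz, ← map_inv, ← map_mul, ← map_mul, (hx z hz).2, hcz _ (hx z hz).1]
  refine ⟨c g, c h', hact a0, hact a1', ?_, ?_, ?_, ?_, ?_, ?_, ?_⟩
  · rw [← map_mul, ← map_mul, hg3, map_one]
  · rw [← map_mul, ← map_mul, hh'3, map_one]
  · rw [← map_mul, ← map_mul, hcomm]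
  · rw [← hc36, ← map_inv, ← map_mul, ← map_mul, inv0, map_inv]
  · rw [← hc36, ← map_inv, ← map_mul, ← map_mul, fix0]
  · rw [← hc90, ← map_inv, ← map_mul, ← map_mul, inv1, map_inv]
  · rw [← hc90, ← map_inv, ← map_mul, ← map_mul, fix1]

end Frame

end CfsgLib.ExtraSymThree
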