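import Cfsg.Agent.ExtraSymThree.Build
import Cfsg.Agent.LargeExtraspecial.Pair
import Cfsg.Agent.Small.Counting
import Cfsg.Agent.Small.SylowArgs

/-!
The centraliser of the statement is one of the four models.
-/

set_option autoImplicit false

namespace CfsgLib.ExtraSymThree

variable {G : Type*} [Group G]

theorem perm_facts : ∀ ρ σ : Equiv.Perm (Fin 3), ρ * ρ * ρ = 1 → ρ ≠ 1 →
    σ * ρ * σ⁻¹ ≠ ρ → σ * ρ * σ⁻¹ = ρ⁻¹ ∧ σ * σ = 1 ∧ ρ⁻¹ ≠ ρ := by decide

theorem perm_move : ∀ ρ : Equiv.Perm (Fin 3), ρ ≠ 1 → ρ * ρ * ρ = 1 →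
    ∃ σ : Equiv.Perm (Fin 3), σ * ρ * σ⁻¹ ≠ ρ := by decide

/-- The kernel-level hypotheses and an inverting element. -/
theorem exists_pre [Finite G] (s : G) (hs : orderOf s = 2) (L : Subgroup G)
    (hL : L = Subgroup.centralizer ({s} : Set G)) (Q : Subgroup G)
    (hQ : Q = (Cfsg.pCore 2 L).map L.subtype) (hQex : Cfsg.IsExtraspecial 2 Q)
    (hQcard : Nat.card Q = 32) (e : L ⧸ Cfsg.pCore 2 L ≃* Equiv.Perm (Fin 3)) (X : Sylow 3 L)
    (hCQX : Q ⊓ Subgroup.centralizer (((X : Subgroup L).map L.subtype : Subgroup G) : Set G)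
      = Subgroup.zpowers s) :
    Nat.card (Subgroup.centralizer ({s} : Set G)) = 192 ∧
      (∀ g : G, g * s = s * g → ∀ q ∈ Q, g * q * g⁻¹ ∈ Q) ∧
      (Subgroup.center Q).map Q.subtype = Subgroup.zpowers s ∧
      ∃ x t c, x ≠ 1 ∧ Pre s Q x ∧ Inverter s Q x t c := by
  haveI : Fact (Nat.Prime 3) := ⟨Nat.prime_three⟩
  haveI := CfsgLib.LargeExtraspecial.pCore_normal' 2 L
  obtain ⟨π, hπ⟩ : ∃ π : L →* Equiv.Perm (Fin 3),
      π = e.toMonoidHom.comp (QuotientGroup.mk' (Cfsg.pCore 2 L)) := ⟨_, rfl⟩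
  have hker : ∀ l : L, π l = 1 ↔ (l : G) ∈ Q := by
    intro l
    rw [hπ, hQ, MonoidHom.comp_apply, MulEquiv.coe_toMonoidHom, MulEquiv.map_eq_one_iff,
      QuotientGroup.mk'_apply, QuotientGroup.eq_one_iff]
    exact (Subgroup.mem_map_iff_mem L.subtype_injective).symm
  have hπs : Function.Surjective π := by
    rw [hπ]
    exact e.surjective.comp (QuotientGroup.mk'_surjective _)
  have hsub : ∀ g : G, g ∈ L ↔ g * s = s * g := fun g => by
    rw [hL, Subgroup.mem_centralizer_singleton_iff]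
  have hQL : Q ≤ L := hQ ▸ Subgroup.map_subtype_le _
  have hcore : Nat.card (Cfsg.pCore 2 L) = 32 := by
    rw [← hQcard, hQ, Subgroup.card_map_of_injective L.subtype_injective]
  have hLcard : Nat.card L = 192 := by
    rw [Subgroup.card_eq_card_quotient_mul_card_subgroup (Cfsg.pCore 2 L), hcore,
      Nat.card_congr e.toEquiv, Nat.card_eq_fintype_card, Fintype.card_perm]
    rfl
  refine ⟨by rw [← hL, hLcard], ?_, ?_⟩
  · intro g hg q hq
    have h := (CfsgLib.LargeExtraspecial.pCore_normal' 2 L).conj_mem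
    have hq' : (⟨q, hQL hq⟩ : L) ∈ Cfsg.pCore 2 L := by
      rw [hQ] at hq
      exact (Subgroup.mem_map_iff_mem L.subtype_injective).1 hq
    rw [hQ]
    exact ⟨_, h _ hq' ⟨g, (hsub g).2 hg⟩, rfl⟩
  have hsQ : s ∈ Q := by
    have : s ∈ Q ⊓ Subgroup.centralizer (((X : Subgroup L).map L.subtype : Subgroup G) : Set G) :=
      hCQX ▸ Subgroup.mem_zpowers s
    exact this.1
  have hscomm : ∀ q ∈ Q, q * s = s * q := fun q hq => (hsub q).1 (hQL hq)
  have hcenter : (Subgroup.center Q).map Q.subtype = Subgroup.zpowers s := by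
    refine (Subgroup.eq_of_le_of_card_ge ?_ ?_).symm
    · rw [Subgroup.zpowers_le]
      exact ⟨⟨s, hsQ⟩, Subgroup.mem_center_iff.2 fun q => Subtype.ext (hscomm q q.2), rfl⟩
    · rw [Subgroup.card_map_of_injective Q.subtype_injective, hQex.2, Nat.card_zpowers, hs]
  refine ⟨hcenter, ?_⟩
  have hcen : ∀ {q}, q ∈ (Subgroup.center Q).map Q.subtype → q = 1 ∨ q = s := fun hq =>
    CfsgLib.LargeExtraspecial.mem_zpowers_two hs (hcenter ▸ hq)
  have hcenter' : ∀ q ∈ Q, (∀ r ∈ Q, q * r = r * q) → q = 1 ∨ q = s := fun q hq hc =>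
    hcen ⟨⟨q, hq⟩, Subgroup.mem_center_iff.2 fun r => Subtype.ext (hc r r.2).symm, rfl⟩
  have hcomm : ∀ q ∈ Q, ∀ r ∈ Q, q * r = r * q ∨ q * r = s * (r * q) := fun q hq r hr => by
    rcases hcen (CfsgLib.LargeExtraspecial.commutator_mem_center hQex hq hr) with e' | e'
    · exact Or.inl (mul_inv_eq_iff_eq_mul.1 (mul_inv_eq_one.1 e'))
    · right
      rw [← e']
      group
  have hs2 : s * s = 1 := CfsgLib.Small.mul_self_of_orderOf_two hs
  have hsq : ∀ q ∈ Q, q * q = 1 ∨ q * q = s := fun q hq => by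
    refine hcenter' _ (mul_mem hq hq) fun r hr => ?_
    rcases hcomm q hq r hr with e' | e'
    · rw [mul_assoc, e', ← mul_assoc, e', mul_assoc]
    · calc q * q * r = q * (q * r) := mul_assoc _ _ _
        _ = q * (s * (r * q)) := by rw [e']
        _ = (q * s) * r * q := by group
        _ = s * (q * r) * q := by rw [hscomm q hq]; group
        _ = s * s * (r * (q * q)) := by rw [e']; group
        _ = r * (q * q) := by rw [hs2, one_mul]
  -- the element of order 3
  have hXcard : Nat.card (X : Subgroup L) = 3 :=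
    CfsgLib.Small.card_sylow_eq (k := 1) (m := 64) (by rw [hLcard]; norm_num) (by norm_num) X
  obtain ⟨x0, hx0⟩ : ∃ x0 : (X : Subgroup L), x0 ≠ 1 := by
    haveI : Nontrivial (X : Subgroup L) := Finite.one_lt_card_iff_nontrivial.1 (by rw [hXcard]; norm_num)
    exact exists_ne 1
  have hgen : ∀ y ∈ (X : Subgroup L), y ∈ Subgroup.zpowers (x0 : L) := by
    intro y hy
    have hz := mem_zpowers_of_prime_card (p := 3) hXcard (g := x0) (g' := ⟨y, hy⟩) hx0
    obtain ⟨n, hn⟩ := Subgroup.mem_zpowers_iff.1 hz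
    exact Subgroup.mem_zpowers_iff.2 ⟨n, congrArg Subtype.val hn⟩
  obtain ⟨xl, hxl⟩ : ∃ xl : L, xl = (x0 : L) := ⟨_, rfl⟩
  have hxlX : xl ∈ (X : Subgroup L) := hxl ▸ x0.2
  have hcube : xl * xl * xl = 1 := by
    have := congrArg Subtype.val (pow_card_eq_one' (x := x0))
    rw [hXcard] at this
    rw [hxl, ← pow_three']
    simpa using this
  obtain ⟨x, hx⟩ : ∃ x : G, x = (xl : G) := ⟨_, rfl⟩
  have hx1 : x ≠ 1 := fun h1 => hx0 (Subtype.ext (Subtype.ext (by rw [← hxl, ← hx, h1]; rfl)))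
  have hxs : x * s = s * x := (hsub x).1 (hx ▸ xl.2)
  have hconjQ : ∀ l : L, ∀ q ∈ Q, (l : G) * q * (l : G)⁻¹ ∈ Q := by
    intro l q hq
    have := (hker (l * ⟨q, hQL hq⟩ * l⁻¹)).1 (by
      rw [map_mul, map_mul, map_inv, (hker ⟨q, hQL hq⟩).2 hq]
      group)
    simpa using this
  have hpre : Pre s Q x := by
    refine ⟨hs2, CfsgLib.Small.ne_one_of_orderOf_two hs, hsQ, hscomm, hcomm, hsq, hQcard, ?_, ?_, hxs,
      ?_, hcenter'⟩
    · rw [hx]; simpa using congrArg Subtype.val hcube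
    · rw [hx]; exact hconjQ xl
    · intro q hq hqx
      refine CfsgLib.LargeExtraspecial.mem_zpowers_two hs (hCQX ▸ ⟨hq, ?_⟩)
      show q ∈ Subgroup.centralizer _
      rw [Subgroup.mem_centralizer_iff]
      rintro _ ⟨y, hy, rfl⟩
      obtain ⟨n, rfl⟩ := Subgroup.mem_zpowers_iff.1 (hgen y hy)
      have hc : Commute x q := hqx
      rw [← hxl, map_zpow, L.coe_subtype, ← hx]
      exact (hc.zpow_left n).eq
  have hρ1 : π xl ≠ 1 := fun h1 => by
    rcases hsq x (hx ▸ (hker xl).1 h1) with e' | e'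
    · exact hx1 (by have := hpre.cube; rwa [e', one_mul] at this)
    · refine hpre.x_notMem hx1 ?_
      exact hx ▸ (hker xl).1 h1
  have hρ3 : π xl * π xl * π xl = 1 := by rw [← map_mul, ← map_mul, hcube, map_one]
  -- an element normalising `X` inverting its image
  obtain ⟨M, hM⟩ : ∃ M : Subgroup L, M = (Subgroup.zpowers (π xl)).comap π := ⟨_, rfl⟩
  have hnormal : (Subgroup.zpowers (π xl)).Normal := by
    refine ⟨fun a ha σ => ?_⟩
    obtain ⟨n, rfl⟩ := Subgroup.mem_zpowers_iff.1 ha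
    rw [← conj_zpow]
    by_cases hσ : σ * π xl * σ⁻¹ = π xl
    · rw [hσ]; exact Subgroup.zpow_mem_zpowers _ _
    · rw [(perm_facts _ _ hρ3 hρ1 hσ).1]
      exact zpow_mem (inv_mem (Subgroup.mem_zpowers _)) _
  haveI : M.Normal := hM ▸ hnormal.comap π
  have hXM : (X : Subgroup L) ≤ M := by
    intro y hy
    obtain ⟨n, rfl⟩ := Subgroup.mem_zpowers_iff.1 (hgen y hy)
    rw [hM, Subgroup.mem_comap, map_zpow, hxl]
    exact Subgroup.zpow_mem_zpowers _ _
  have hfr := Sylow.normalizer_sup_eq_top (X.subtype hXM)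
  rw [Sylow.coe_subtype, Subgroup.map_subgroupOf_eq_of_le hXM] at hfr
  obtain ⟨n, hnN, hn⟩ : ∃ n ∈ Subgroup.normalizer ((X : Subgroup L) : Set L),
      π n * π xl * (π n)⁻¹ ≠ π xl := by
    by_contra! hh
    obtain ⟨σ, hσ⟩ := perm_move _ hρ1 hρ3
    apply hσ
    obtain ⟨l, rfl⟩ := hπs σ
    have hl : l ∈ Subgroup.normalizer ((X : Subgroup L) : Set L) ⊔ M := hfr ▸ Subgroup.mem_top l
    rw [Subgroup.mem_sup_of_normal_right] at hl
    obtain ⟨n, hn, m, hm, rfl⟩ := hl
    rw [hM, Subgroup.mem_comap] at hm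
    obtain ⟨i, hi⟩ := Subgroup.mem_zpowers_iff.1 hm
    rw [map_mul, ← hi]
    calc π n * π xl ^ i * π xl * (π n * π xl ^ i)⁻¹ = π n * π xl * (π n)⁻¹ := by group
      _ = π xl := hh n hn
  obtain ⟨hinv, hinv2, hne⟩ := perm_facts _ _ hρ3 hρ1 hn
  -- it inverts `x`
  have hnx : n * xl * n⁻¹ = xl⁻¹ := by
    obtain ⟨i, hi⟩ := Subgroup.mem_zpowers_iff.1 (hgen _ ((Subgroup.mem_normalizer_iff.1 hnN xl).1 hxlX))
    have hcases : n * xl * n⁻¹ = 1 ∨ n * xl * n⁻¹ = xl ∨ n * xl * n⁻¹ = xl⁻¹ := by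
      rw [← hi, ← hxl]
      have h3 : xl ^ (3 : ℤ) = 1 := by
        rw [show (3 : ℤ) = ((3 : ℕ) : ℤ) from rfl, zpow_natCast, pow_three', hcube]
      have hmod : xl ^ i = xl ^ (i % 3) := by
        conv_lhs => rw [← Int.mul_ediv_add_emod i 3, zpow_add, zpow_mul, h3, one_zpow, one_mul]
      have hlt := Int.emod_lt_of_pos i (show (0 : ℤ) < 3 by norm_num)
      have hnn := Int.emod_nonneg i (show (3 : ℤ) ≠ 0 by norm_num)
      rw [hmod]
      interval_cases i % 3
      · exact Or.inl (zpow_zero _)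
      · exact Or.inr (Or.inl (zpow_one _))
      · refine Or.inr (Or.inr (eq_inv_of_mul_eq_one_left ?_))
        rw [← zpow_add_one]; exact h3
    rcases hcases with h1 | h1 | h1
    · exact absurd (conj_eq_one_iff.1 h1) (fun h2 => hρ1 (by rw [h2, map_one]))
    · refine absurd ?_ hn
      rw [← map_inv, ← map_mul, ← map_mul, h1]
    · exact h1
  obtain ⟨t, ht⟩ : ∃ t : G, t = (n : G) := ⟨_, rfl⟩
  have htx : t * x * t⁻¹ = x⁻¹ := by
    rw [ht, hx]; simpa using congrArg Subtype.val hnx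
  have hfix : t * t * x = x * (t * t) := by
    refine mul_inv_eq_iff_eq_mul.1 ?_
    calc t * t * x * (t * t)⁻¹ = t * (t * x * t⁻¹) * t⁻¹ := by group
      _ = t * x⁻¹ * t⁻¹ := by rw [htx]
      _ = (t * x * t⁻¹)⁻¹ := by group
      _ = x := by rw [htx, inv_inv]
  have htQ : t * t ∈ Q := by
    have := (hker (n * n)).1 (by rw [map_mul]; exact hinv2)
    simpa [ht] using this
  obtain ⟨c, hc, hct⟩ : ∃ c, c < 2 ∧ t * t = s ^ c := by
    rcases hpre.fix _ htQ hfix.symm with h1 | h1
    · exact ⟨0, by norm_num, by rw [h1, pow_zero]⟩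
    · exact ⟨1, by norm_num, by rw [h1, pow_one]⟩
  exact ⟨x, t, c, hx1, hpre, htx, hct, (hsub t).1 (ht ▸ n.2), ht ▸ hconjQ n, hc⟩

theorem Duo.closure_conj {s : G} {Q : Subgroup G} {x u v y : G} (h : Pre s Q x) (d : Duo s Q x u v)
    (hy : x * y * x⁻¹ ∈ Subgroup.closure ({u, x * u * x⁻¹} : Set G)) :
    y ∈ Subgroup.closure ({u, x * u * x⁻¹} : Set G) := by
  set A := Subgroup.closure ({u, x * u * x⁻¹} : Set G)
  have hle : A ≤ A.comap (MulAut.conj x).toMonoidHom := (Subgroup.closure_le _).mpr (by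
    rintro z (rfl | rfl)
    · exact (Subgroup.subset_closure (by simp) : x * z * x⁻¹ ∈ A)
    · show x * (x * u * x⁻¹) * x⁻¹ ∈ A
      rw [d.left.turn]
      exact mul_mem (Subgroup.subset_closure (by simp)) (Subgroup.subset_closure (by simp)))
  have h2 : x * (x * (x * y * x⁻¹) * x⁻¹) * x⁻¹ ∈ A := hle (hle hy)
  rwa [h.x_sq_conj] at h2

theorem square_split : ((List.range 32).all fun q => !(qMul q q == 16) ||
    (Nat.beq (q % 4) 0 || Nat.beq (q / 4 % 4) 0)) = true := by decide +kernel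

theorem rot_left : ((List.range 32).all fun q => !(qMul q q == 16 && Nat.beq (q % 4) 0 &&
      actX q == qMul q (actX (actX q))) || (q == 20 || actX q == 20 || actX (actX q) == 20)) = true := by
  decide +kernel

theorem rot_right : ((List.range 32).all fun q => !(qMul q q == 16 &&
      (qMul q 20 == qMul 20 q && qMul q 28 == qMul 28 q) && actX q == qMul q (actX (actX q))) ||
    (q == 17 || actX (actX q) == actX 17 || actX q == actX (actX 17))) = true := by
  decide +kernel

theorem swap_right : ((List.range 32).all fun q => !(qMul q q == 16 && Nat.beq (q / 4 % 4) 0) ||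
    (qMul 4 q == qMul q 4 && qMul 8 q == qMul q 8 && qMul 4 (qMul 16 q) == qMul (qMul 16 q) 4 &&
      qMul 8 (qMul 16 q) == qMul (qMul 16 q) 8 && !(Nat.beq (qMul 16 q % 4) 0) &&
      decide (actX q < 32))) = true := by decide +kernel

theorem actT_values : ∀ k, k < 4 → actT k 4 = (if k < 2 then 20 else 17) ∧
    actT k 1 = (if k < 2 then 17 else 20) := by decide +kernel

theorem Inverter.turn_conj {s : G} {Q : Subgroup G} {x t : G} (h : Pre s Q x) {c : ℕ}
    (i : Inverter s Q x t c) (y : G) :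
    t * (x * y * x⁻¹) * t⁻¹ = x⁻¹ * (t * y * t⁻¹) * x := by
  have e : t * x = x⁻¹ * t := mul_inv_eq_iff_eq_mul.1 i.inverts
  have := h.cube
  rw [show t * (x * y * x⁻¹) * t⁻¹ = (t * x) * y * (t * x)⁻¹ by group, e]
  group

theorem Duo.conj_x_inv {s : G} {Q : Subgroup G} {x u v : G} (d : Duo s Q x u v) (h : Pre s Q x)
    {r : ℕ} (hr : r < 32) : x⁻¹ * d.phi r * x = d.phi (actX (actX r)) := by
  have hX : ((List.range 32).all fun r => decide (actX r < 32)) = true := by decide +kernel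
  rw [← d.conj_x h (of_decide_eq_true (List.all_eq_true.1 hX r (List.mem_range.2 hr))), ← d.conj_x h hr]
  calc x⁻¹ * d.phi r * x = (x * x * x) * (x⁻¹ * d.phi r * x) * (x * x * x)⁻¹ := by
        rw [h.cube, one_mul, inv_one, mul_one]
    _ = _ := by group

/-- The image of an oriented element under an inverting element. -/
theorem image_turn {s : G} {Q : Subgroup G} {x u v t w : G} (d : Duo s Q x u v) (h : Pre s Q x)
    {c : ℕ} (i : Inverter s Q x t c) (hw : Quat s Q x w) {q : ℕ} (hq : q < 32)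
    (hwq : t * w * t⁻¹ = d.phi q) : qMul q q = 16 ∧ actX q = qMul q (actX (actX q)) := by
  have hX : ((List.range 32).all fun r => decide (actX r < 32)) = true := by decide +kernel
  have hX' : ∀ r, r < 32 → actX r < 32 := fun r hr =>
    of_decide_eq_true (List.all_eq_true.1 hX r (List.mem_range.2 hr))
  refine ⟨d.phi_inj h (qMul_eq hq hq).2 (by norm_num) ?_, ?_⟩
  · rw [d.phi_mul h hq hq, ← hwq, d.phi_sixteen, show t * w * t⁻¹ * (t * w * t⁻¹) = t * (w * w) * t⁻¹ by group,
      hw.sq, i.comm, mul_inv_cancel_right]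
  · have hq2 := hX' _ (hX' q hq)
    refine d.phi_inj h (hX' q hq) (qMul_eq hq hq2).2 ?_
    rw [d.phi_mul h hq hq2, ← d.conj_x h hq, ← d.conj_x_inv h hq, ← hwq, ← i.turn_conj h w]
    calc x * (t * w * t⁻¹) * x⁻¹ = t * (t⁻¹ * x * t * w * (t⁻¹ * x * t)⁻¹) * t⁻¹ := by group
      _ = t * (x⁻¹ * w * x) * t⁻¹ := by
          rw [show t⁻¹ * x * t = x⁻¹ by
            calc t⁻¹ * x * t = t⁻¹ * (t * x * t⁻¹)⁻¹ * t := by rw [i.inverts, inv_inv]
              _ = x⁻¹ := by group]
          group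
      _ = t * (w * (x * w * x⁻¹)) * t⁻¹ := by
          rw [← hw.turn]
          congr 2
          calc x⁻¹ * w * x = (x * x * x) * (x⁻¹ * w * x) * (x * x * x)⁻¹ := by
                rw [h.cube, one_mul, inv_one, mul_one]
            _ = x * (x * w * x⁻¹) * x⁻¹ := by group
      _ = t * w * t⁻¹ * (t * (x * w * x⁻¹) * t⁻¹) := by group

theorem Quat.conj_inverter {s : G} {Q : Subgroup G} {x t u : G} (h : Pre s Q x) {c : ℕ}
    (i : Inverter s Q x t c) (hu : Quat s Q x u) : Quat s Q x (s * (t * u * t⁻¹)) := by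
  have hm : t * u * t⁻¹ ∈ Q := i.mem u hu.mem
  have hb := h.x_mem u hu.mem
  have hts : ∀ y, t * (s * y) * t⁻¹ = s * (t * y * t⁻¹) := fun y => by
    rw [← mul_assoc t s, i.comm]; group
  refine ⟨mul_mem h.s_mem hm, ?_, ?_⟩
  · calc s * (t * u * t⁻¹) * (s * (t * u * t⁻¹)) = s * ((t * u * t⁻¹) * s) * (t * u * t⁻¹) := by group
      _ = s * s * (t * (u * u) * t⁻¹) := by rw [h.s_comm _ hm]; group
      _ = s := by rw [h.s_sq, one_mul, hu.sq, i.comm, mul_inv_cancel_right]
  · have hxs : ∀ y, x * (s * y) * x⁻¹ = s * (x * y * x⁻¹) := fun y => by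
      rw [← mul_assoc x s, h.x_comm]; group
    obtain ⟨hanti, -⟩ := h.anti hu.mem hu.sq
    obtain ⟨b, hbd⟩ : ∃ b, b = x * u * x⁻¹ := ⟨_, rfl⟩
    have e0 : t⁻¹ * x * t = x⁻¹ := by
      calc t⁻¹ * x * t = t⁻¹ * (t * x * t⁻¹)⁻¹ * t := by rw [i.inverts, inv_inv]
        _ = x⁻¹ := by group
    have hxt : ∀ y, x * (t * y * t⁻¹) * x⁻¹ = t * (x * (x * y * x⁻¹) * x⁻¹) * t⁻¹ := fun y => by
      rw [show x * (t * y * t⁻¹) * x⁻¹ = t * ((t⁻¹ * x * t) * y * (t⁻¹ * x * t)⁻¹) * t⁻¹ by group, e0]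
      congr 2
      calc x⁻¹ * y * x⁻¹⁻¹ = (x * x * x) * (x⁻¹ * y * x⁻¹⁻¹) * (x * x * x)⁻¹ := by
            rw [h.cube, one_mul, inv_one, mul_one]
        _ = x * (x * y * x⁻¹) * x⁻¹ := by group
    have hbu : b * b = s := hbd ▸ h.x_sq hu.sq
    rw [hxs, hxs, hxt, hxt, h.x_sq_conj, hu.turn, ← hbd]
    calc s * (t * b * t⁻¹) = t * (s * b) * t⁻¹ := (hts b).symm
      _ = t * (u * (u * b)) * t⁻¹ := by rw [← mul_assoc u u, hu.sq]
      _ = (s * s) * ((t * u * t⁻¹) * (t * (u * b) * t⁻¹)) := by rw [h.s_sq, one_mul]; group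
      _ = s * ((s * (t * u * t⁻¹)) * (t * (u * b) * t⁻¹)) := by group
      _ = _ := by
        rw [← mul_assoc (s * (t * u * t⁻¹)) s, mul_assoc s (t * u * t⁻¹) s, h.s_comm _ hm]
        group

/-- A frame. -/
theorem exists_frame [Finite G] {s : G} {Q : Subgroup G} {x t : G} {c : ℕ} (hx : x ≠ 1)
    (h : Pre s Q x) (i : Inverter s Q x t c)
    (hcard : Nat.card (Subgroup.centralizer ({s} : Set G)) = 192) :
    ∃ k, ∃ F : Frame k s, ∀ a, a < 192 → (F.el a ∈ Q ↔ a % 6 = 0) := by
  obtain ⟨u, hu⟩ := h.exists_quat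
  obtain ⟨v, d⟩ := h.exists_duo hu
  have hXt : ((List.range 32).all fun r => decide (actX r < 32)) = true := by decide +kernel
  have hX' : ∀ r, r < 32 → actX r < 32 := fun r hr =>
    of_decide_eq_true (List.all_eq_true.1 hXt r (List.mem_range.2 hr))
  obtain ⟨g4, g8, g1, g2⟩ := d.phi_gens
  obtain ⟨q, hq, hwq⟩ := d.phi_surj h (i.mem u hu.mem)
  obtain ⟨hq2, hqo⟩ := image_turn d h i hu hq hwq.symm
  have hsplit := List.all_eq_true.1 square_split q (List.mem_range.2 hq)
  simp only [hq2, beq_self_eq_true, Bool.not_true, Bool.false_or, Bool.or_eq_true, Nat.beq_eq] at hsplit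
  rcases hsplit with hB | hA
  · -- `t` keeps the quaternion subgroups
    obtain ⟨t', i', ht'⟩ : ∃ t', Inverter s Q x t' c ∧ t' * u * t'⁻¹ = d.phi 20 := by
      have hr := List.all_eq_true.1 rot_left q (List.mem_range.2 hq)
      simp only [hq2, hB, ← hqo, beq_self_eq_true, Bool.and_true, Bool.and_self, Bool.not_true,
        Bool.false_or, Bool.or_eq_true, beq_iff_eq, show Nat.beq 0 0 = true from rfl] at hr
      rcases hr with (e | e) | e
      · exact ⟨t, i, by rw [← hwq, e]⟩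
      · refine ⟨x * t, i.turn h, ?_⟩
        rw [← e, ← d.conj_x h hq, hwq]
        group
      · refine ⟨x * (x * t), (i.turn h).turn h, ?_⟩
        rw [← e, ← d.conj_x h (hX' q hq), ← d.conj_x h hq, hwq]
        group
    obtain ⟨r, hr, hrw⟩ := d.phi_surj h (i'.mem v d.right.mem)
    obtain ⟨hr2, hro⟩ := image_turn d h i' d.right hr hrw.symm
    have e20 : qMul r 20 = qMul 20 r := by
      refine d.phi_inj h (qMul_eq hr (by norm_num)).2 (qMul_eq (by norm_num) hr).2 ?_
      rw [d.phi_mul h hr (by norm_num), d.phi_mul h (by norm_num) hr, hrw, ← ht']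
      calc t' * v * t'⁻¹ * (t' * u * t'⁻¹) = t' * (v * u) * t'⁻¹ := by group
        _ = t' * (u * v) * t'⁻¹ := by rw [d.c00]
        _ = _ := by group
    have hb : t' * (x * u * x⁻¹) * t'⁻¹ = d.phi (actX (actX 20)) := by
      rw [i'.turn_conj h u, ht', d.conj_x_inv h (by norm_num)]
    have e8 : qMul r (actX (actX 20)) = qMul (actX (actX 20)) r := by
      have hl := hX' _ (hX' 20 (by norm_num))
      refine d.phi_inj h (qMul_eq hr hl).2 (qMul_eq hl hr).2 ?_
      rw [d.phi_mul h hr hl, d.phi_mul h hl hr, hrw, ← hb]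
      calc t' * v * t'⁻¹ * (t' * (x * u * x⁻¹) * t'⁻¹) = t' * (v * (x * u * x⁻¹)) * t'⁻¹ := by group
        _ = t' * ((x * u * x⁻¹) * v) * t'⁻¹ := by rw [d.c10]
        _ = _ := by group
    have hpos := List.all_eq_true.1 rot_right r (List.mem_range.2 hr)
    have hv20 : actX (actX 20) = 28 := by decide +kernel
    -- move `v` instead of `t`
    obtain ⟨v', d', ht1⟩ : ∃ v', ∃ d' : Duo s Q x u v', t' * v' * t'⁻¹ = d'.phi 17 := by
      have hor : r = 17 ∨ actX (actX r) = actX 17 ∨ actX r = actX (actX 17) := by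
        rw [hv20] at e8
        simpa [hr2, e20, e8, ← hro, or_assoc] using hpos
      have h17 : d.phi 17 = s * v := by simp [Duo.phi, phiQ, qElt]
      rcases hor with e | e | e
      · exact ⟨v, d, by rw [← hrw, e]⟩
      · -- rotate `v` once
        refine ⟨x * v * x⁻¹, ⟨d.left, h.turn_quat d.right, d.c01, ?_, d.c11, ?_, fun hm => ?_⟩, ?_⟩
        · rw [d.right.turn]; exact ((show Commute u v from d.c00).mul_right d.c01).eq
        · rw [d.right.turn]; exact ((show Commute _ v from d.c10).mul_right d.c11).eq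
        · exact d.v_notMem (Duo.closure_conj h d hm)
        · rw [i'.turn_conj h v, ← hrw, d.conj_x_inv h hr, e, ← d.conj_x h (by norm_num), h17]
          simp [Duo.phi, phiQ, qElt]
          rw [← mul_assoc x s v, h.x_comm]
          group
      · -- rotate `v` twice
        refine ⟨x * (x * v * x⁻¹) * x⁻¹,
          ⟨d.left, h.turn_quat (h.turn_quat d.right), ?_, ?_, ?_, ?_, fun hm => ?_⟩, ?_⟩
        · rw [d.right.turn]; exact ((show Commute u v from d.c00).mul_right d.c01).eq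
        · rw [h.x_sq_conj]; exact d.c00
        · rw [d.right.turn]; exact ((show Commute _ v from d.c10).mul_right d.c11).eq
        · rw [h.x_sq_conj]; exact d.c10
        · exact d.v_notMem (Duo.closure_conj h d (Duo.closure_conj h d hm))
        · have hx17 := hX' 17 (by norm_num)
          rw [i'.turn_conj h, i'.turn_conj h, ← hrw, d.conj_x_inv h hr,
            d.conj_x_inv h (hX' _ (hX' r hr)), show actX (actX (actX (actX r))) = actX r from ?_, e,
            ← d.conj_x h hx17, ← d.conj_x h (by norm_num), h17]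
          · simp [Duo.phi, phiQ, qElt]
            rw [show x * (x * (s * v) * x⁻¹) * x⁻¹ = x * x * s * (v * x⁻¹ * x⁻¹) by group,
              mul_assoc x x s, h.x_comm, ← mul_assoc x s x, h.x_comm]
            group
          · have hper : ((List.range 32).all fun r => actX (actX (actX (actX r))) == actX r) = true := by
              decide +kernel
            exact beq_iff_eq.1 (List.all_eq_true.1 hper r (List.mem_range.2 hr))
    have hk2 : c = 0 ∨ c = 1 := by have := i'.c_lt; omega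
    obtain ⟨g4', -, g1', -⟩ := d'.phi_gens
    have h20 : d'.phi 20 = d.phi 20 := by simp [Duo.phi, phiQ, qElt]
    refine ⟨c, exists_frame_of_action (t := t') h hx d' (k := c) (by omega) ?_ ?_ ?_ hcard⟩
    · rw [show c % 2 = c by omega]; exact i'
    · rw [(actT_values c (by omega)).1, if_pos (by omega : c < 2), h20]; exact ht'
    · rw [(actT_values c (by omega)).2, if_pos (by omega : c < 2)]; exact ht1
  · -- `t` exchanges them
    have hs := List.all_eq_true.1 swap_right q (List.mem_range.2 hq)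
    simp only [hq2, hA, beq_self_eq_true, show Nat.beq 0 0 = true from rfl, Bool.and_self, Bool.not_true,
      Bool.false_or, Bool.and_eq_true, beq_iff_eq, Bool.not_eq_eq_eq_not, Bool.not_true,
      decide_eq_true_eq] at hs
    obtain ⟨⟨⟨⟨⟨-, -⟩, c4⟩, c8⟩, h16⟩, -⟩ := hs
    obtain ⟨w, hw⟩ : ∃ w, w = s * (t * u * t⁻¹) := ⟨_, rfl⟩
    have hwQ : Quat s Q x w := hw ▸ hu.conj_inverter h i
    have hq16 := (qMul_eq (by norm_num : 16 < 32) hq).2
    have hwp : d.phi (qMul 16 q) = w := by rw [d.phi_mul h (by norm_num) hq, d.phi_sixteen, hwq, hw]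
    have hcu : Commute u w := by
      show u * w = w * u
      rw [← g4, ← hwp, ← d.phi_mul h (by norm_num) hq16, ← d.phi_mul h hq16 (by norm_num), c4]
    have hcb : Commute (x * u * x⁻¹) w := by
      show _ * w = w * _
      rw [← g8, ← hwp, ← d.phi_mul h (by norm_num) hq16, ← d.phi_mul h hq16 (by norm_num), c8]
    have hcx : Commute (x * u * x⁻¹) (x * w * x⁻¹) := by
      simpa using hcu.map (MulAut.conj x).toMonoidHom
    have hcxu : Commute u (x * w * x⁻¹) := by
      have := hcb.map (MulAut.conj x).toMonoidHom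
      simp only [MulEquiv.coe_toMonoidHom, MulAut.conj_apply, hu.turn] at this
      have := this.mul_left hcx.inv_left
      rwa [mul_inv_cancel_right] at this
    have d' : Duo s Q x u w := by
      refine ⟨hu, hwQ, hcu.eq, hcxu.eq, hcb.eq, hcx.eq, fun hm => ?_⟩
      have hA' : ∀ y ∈ Subgroup.closure ({u, x * u * x⁻¹} : Set G), Commute v y := fun y hy =>
        Pre.commute_closure (show Commute v u from d.c00.symm) (show Commute v _ from d.c10.symm) hy
      have hvA : ∀ y ∈ Subgroup.closure ({u, x * u * x⁻¹} : Set G),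
          Commute (x * v * x⁻¹) y := fun y hy =>
        Pre.commute_closure (show Commute _ u from d.c01.symm) (show Commute _ _ from d.c11.symm) hy
      have key : (qMul (qMul 16 q) 1 = qMul 1 (qMul 16 q)) ∧ qMul (qMul 16 q) 2 = qMul 2 (qMul 16 q) := by
        constructor
        · refine d.phi_inj h (qMul_eq hq16 (by norm_num)).2 (qMul_eq (by norm_num) hq16).2 ?_
          rw [d.phi_mul h hq16 (by norm_num), d.phi_mul h (by norm_num) hq16, hwp, g1]
          exact (hA' w hm).eq.symm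
        · refine d.phi_inj h (qMul_eq hq16 (by norm_num)).2 (qMul_eq (by norm_num) hq16).2 ?_
          rw [d.phi_mul h hq16 (by norm_num), d.phi_mul h (by norm_num) hq16, hwp, g2]
          exact (hvA w hm).eq.symm
      have hbad : ((List.range 32).all fun p => !(qMul p 1 == qMul 1 p && qMul p 2 == qMul 2 p) ||
          Nat.beq (p % 4) 0) = true := by decide +kernel
      have := List.all_eq_true.1 hbad _ (List.mem_range.2 hq16)
      simp [key.1, key.2] at this
      simp [this] at h16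
    have hk : 2 + c < 4 := by have := i.c_lt; omega
    have h20 : d'.phi 20 = s * u := by simp [Duo.phi, phiQ, qElt]
    have h17 : d'.phi 17 = s * w := by simp [Duo.phi, phiQ, qElt]
    refine ⟨2 + c, exists_frame_of_action (t := t) h hx d' hk ?_ ?_ ?_ hcard⟩
    · rw [show (2 + c) % 2 = c by have := i.c_lt; omega]; exact i
    · rw [(actT_values _ hk).1, if_neg (by omega), h17, hw, ← mul_assoc, h.s_sq, one_mul]
    · rw [(actT_values _ hk).2, if_neg (by omega), h20, hw]
      calc t * (s * (t * u * t⁻¹)) * t⁻¹ = t * s * t * u * (t * t)⁻¹ := by group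
        _ = s * (t * t) * u * (t * t)⁻¹ := by rw [i.comm]; group
        _ = s * u := by
          rw [i.sq, mul_assoc s, ← ((show Commute u s from h.s_comm u hu.mem).pow_right c).eq,
            ← mul_assoc, mul_inv_cancel_right]

end CfsgLib.ExtraSymThree
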