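import Cfsg.Agent.ExtraSymThree.Nine
import Cfsg.Agent.ExtraSymThree.Recognise

/-!
Groups with an involution whose centraliser is an extension of `2^{1+4}` by `S₃`.
-/

set_option autoImplicit false
set_option maxRecDepth 8000

namespace CfsgLib.ExtraSymThree

variable {G : Type*} [Group G] [Finite G]

/-- The four possibilities. -/
theorem classification {s : G} {L Q : Subgroup G} (hs : orderOf s = 2)
    (hL : L = Subgroup.centralizer ({s} : Set G)) (hQ : Q = (Cfsg.pCore 2 L).map L.subtype)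
    (hQex : Cfsg.IsExtraspecial 2 Q) (hQcard : Nat.card Q = 32)
    (e : L ⧸ Cfsg.pCore 2 L ≃* Equiv.Perm (Fin 3)) (X : Sylow 3 L)
    (hCQX : Q ⊓ Subgroup.centralizer (((X : Subgroup L).map L.subtype : Subgroup G) : Set G) =
      Subgroup.zpowers s)
    (hnwc : ∃ g : G, g * s * g⁻¹ ∈ Q ∧ g * s * g⁻¹ ≠ s) :
    FirstCase G ∨ Nonempty (G ≃* alternatingGroup (Fin 8)) ∨
      Nonempty (G ≃* alternatingGroup (Fin 9)) ∨ Cfsg.Spor.IsoM12 G := by
  obtain ⟨hcard, hnorm, hZ, x, t, c, hx, hpre, hinv⟩ := exists_pre s hs L hL Q hQ hQex hQcard e X hCQX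
  obtain ⟨k, F, hF⟩ := exists_frame hx hpre hinv hcard
  have hsub := F.isZSub hQex hZ hF hnorm
  obtain ⟨g, hgQ, hgs⟩ := hnwc
  have hLmem : g * s * g⁻¹ * s = s * (g * s * g⁻¹) := by
    have hm : g * s * g⁻¹ ∈ L := by
      rw [hQ] at hgQ
      exact Subgroup.map_subtype_le _ hgQ
    rw [hL] at hm
    exact Subgroup.mem_centralizer_singleton_iff.1 hm
  obtain ⟨a, ha, hae⟩ := F.exists_code hLmem
  have ha6 : a % 6 = 0 := (hF a ha).1 (hae.symm ▸ hgQ)
  have has : a ≠ sC := fun e' => hgs (by rw [← hae, e', F.el_sC])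
  have hfu : F.Fu a := isConj_iff.2 ⟨g, hae.symm⟩
  obtain ⟨y, m⟩ := F.exists_mover hsub hQcard hF ha ha6 has hfu
  rcases Frame.mover_cases m has with ⟨rfl, -⟩ | ⟨rfl, -⟩
  · rcases F.zero_cases hsub hQcard hF m has with h | h
    · exact Or.inl h
    · exact Or.inr (Or.inr (Or.inr h))
  · rcases F.two_cases hsub hQcard hF m has with h | ⟨F', hp, u, v, P⟩
    · exact Or.inl h
    obtain ⟨φ, hinj, hemb⟩ := P.exists_hom
    have hstd : F'.Std Q φ := ⟨hp, hinj, hemb⟩
    obtain ⟨u', m', -⟩ := hp.mover hsub hQcard (i := 0) (by norm_num) rfl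
    have hlt : ∀ b ∈ fuseList, b < 192 := by decide
    haveI : IsSimpleGroup G := F'.isSimpleGroup hsub (Or.inr rfl) m'
      (l := 0 :: (orbQ0 ++ orbQ1 ++ orbA)) (fun b hb => by
        rcases List.mem_cons.1 hb with rfl | hb
        · exact ⟨by norm_num, Or.inr rfl⟩
        · have hb' : b ∈ fuseList := List.mem_cons_of_mem _ hb
          exact ⟨hlt b hb', Or.inl (hstd.fu_of_mem hb')⟩) two_span
    rcases hstd.alternating with h | h
    · exact Or.inr (Or.inl h)
    · exact Or.inr (Or.inr (Or.inl h))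

end CfsgLib.ExtraSymThree
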