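import Cfsg.Agent.ExtraSymThree.CentU
import Cfsg.Agent.Inv54.DihedralEight
import Cfsg.Agent.BoundedAlt.Carmichael

/-!
The alternating groups of degree eight and nine.
-/

set_option autoImplicit false
set_option maxRecDepth 8000
set_option synthInstance.maxSize 4000
set_option synthInstance.maxHeartbeats 400000

namespace CfsgLib.ExtraSymThree

open CfsgLib.BoundedAlt

/-- The four group centralised by the second factor. -/
def fourList : List ℕ := [0, 84, 97, 181]

/-- Representatives for the image of the subgroup of order 16. -/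
def fourRep (i : Fin 4) : ℕ := [0, 180, 127, 163].getD i 0

/-- The six moved points. -/
def starPt (i : Fin 6) : Fin 8 := ![0, 1, 2, 3, 6, 7] i

/-- The six three-cycles. -/
def starPerm (i : Fin 6) : Equiv.Perm (Fin 8) := Equiv.swap (starPt i) 4 * Equiv.swap 4 5

/-- The three-cycle permuting the four group in the second block. -/
def turnPerm : Equiv.Perm (Fin 8) := Equiv.swap 5 6 * Equiv.swap 6 7

/-- The permutation of the element moving `6` to `0`. -/
def tauPerm : Equiv.Perm (Fin 8) := Equiv.swap 0 6 * Equiv.swap 1 7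

/-- A permutation carrying the first four group to the one of `tauPerm`. -/
def shiftPerm : Equiv.Perm (Fin 8) := Equiv.swap 2 6 * Equiv.swap 3 7

theorem nine_codes : closedC 2 fourList = true ∧ fourList.Nodup ∧
    (∀ i : Fin 4, fourRep i ∈ sixW) ∧
    (∀ i j : Fin 4, mulC 2 (invC 2 (fourRep i)) (fourRep j) ∈ fourList → i = j) ∧
    (∀ z ∈ sixW, ∃ i : Fin 4, ∃ v ∈ fourList, mulC 2 (fourRep i) v = z) ∧
    (∀ i : Fin 4, mulC 2 (fourRep i) (fourRep i) = 0) ∧
    (∀ z ∈ sixW, mulC 2 z 84 = mulC 2 84 z ∧ mulC 2 z 97 = mulC 2 97 z ∧ mulC 2 z 127 = mulC 2 127 z) ∧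
    (∀ z ∈ centUList, mulC 2 z 97 = mulC 2 97 z → z ∈ sixW) ∧
    (∀ z ∈ centUList, conC 2 138 z ∈ centUList) ∧ conC 2 138 181 = 97 ∧ conC 2 138 84 = 84 ∧
    (∀ v ∈ [84, 97, 181], mulC 2 127 v ∈ fuseList) ∧ mulC 2 180 84 = sC := by
  decide +kernel

theorem nine_perms :
    (∀ i, Equiv.Perm.sign (starPerm i) = 1) ∧ Equiv.Perm.sign turnPerm = 1 ∧ Equiv.Perm.sign tauPerm = 1 ∧
    Equiv.Perm.sign shiftPerm = 1 ∧
    (∀ i j z, i ≠ j → starPerm i (starPerm j (starPerm i (starPerm j z))) = z) ∧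
    (∀ i z, starPerm i (starPerm i (starPerm i z)) = z) ∧
    (∀ i : Fin 6, 4 ≤ i.val → ∀ a ∈ [84, 97], ∀ z,
      starPerm i (permFn (eightTab.getD a 0) z) = permFn (eightTab.getD a 0) (starPerm i z)) ∧
    (∀ a ∈ [84, 97], ∀ z, turnPerm (permFn (eightTab.getD a 0) z) = permFn (eightTab.getD a 0) (turnPerm z)) ∧
    (∀ z, turnPerm (permFn (eightTab.getD 127 0) z) = permFn (eightTab.getD 163 0) (turnPerm z)) ∧
    (∀ z, turnPerm (permFn (eightTab.getD 163 0) z) = permFn (eightTab.getD 180 0) (turnPerm z)) ∧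
    (∀ z, turnPerm (permFn (eightTab.getD 180 0) z) = permFn (eightTab.getD 127 0) (turnPerm z)) ∧
    (∀ z, turnPerm (turnPerm (turnPerm z)) = z) ∧
    (∀ z, starPerm 4 (starPerm 5 z) = permFn (eightTab.getD 127 0) z) ∧
    (∀ z, permFn (eightTab.getD 138 0) (starPerm 4 z) = starPerm 5 (permFn (eightTab.getD 138 0) z)) ∧
    (∀ z, permFn (eightTab.getD 138 0) (starPerm 5 z) = starPerm 4 (permFn (eightTab.getD 138 0) z)) ∧
    (∀ z, tauPerm (starPerm 4 z) = starPerm 0 (tauPerm z)) ∧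
    (∀ z, permFn (eightTab.getD 84 0) (starPerm 0 z) = starPerm 1 (permFn (eightTab.getD 84 0) z)) ∧
    (∀ z, permFn (eightTab.getD 97 0) (starPerm 0 z) = starPerm 2 (permFn (eightTab.getD 97 0) z)) ∧
    (∀ z, permFn (eightTab.getD 181 0) (starPerm 0 z) = starPerm 3 (permFn (eightTab.getD 181 0) z)) ∧
    (∀ z, shiftPerm (permFn (eightTab.getD 84 0) z) = permFn (eightTab.getD 138 0) (shiftPerm z)) ∧
    (∀ z, shiftPerm (permFn (eightTab.getD 97 0) z) = tauPerm (shiftPerm z)) := by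
  decide +kernel

/-- Two cycles with product of order two extend uniquely. -/
theorem five_extend : ∀ A B : alternatingGroup (Fin 5), A * A * A = 1 → A ≠ 1 → B * B * B = 1 → B ≠ 1 →
    A * B * (A * B) = 1 → A * B ≠ 1 →
    ∃ C : alternatingGroup (Fin 5), (C * C * C = 1 ∧ C * A * (C * A) = 1 ∧ C * B * (C * B) = 1) ∧
      C * (A * B) * C⁻¹ * (A * B) ≠ A * B * (C * (A * B) * C⁻¹) ∧
      ∀ D : alternatingGroup (Fin 5), D * D * D = 1 → D * A * (D * A) = 1 → D * B * (D * B) = 1 → D = C := by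
  decide +kernel

/-- The points of the nine letters. -/
noncomputable def ninePts : Fin 7 ⊕ Fin 2 ≃ Fin 9 :=
  Fintype.equivFinOfCardEq (by simp)

/-- The points of the eight letters. -/
noncomputable def eightPts : Fin 6 ⊕ Fin 2 ≃ Fin 8 :=
  Equiv.ofBijective (Sum.elim starPt ![4, 5]) (by
    rw [Fintype.bijective_iff_injective_and_card]
    exact ⟨by decide, by simp⟩)

variable {G : Type*} [Group G] [Finite G] {s : G}

namespace Frame

variable {F : Frame 2 s} {Q : Subgroup G} {φ : alternatingGroup (Fin 8) →* G}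

/-- The element of an even permutation. -/
noncomputable def evenEl (φ : alternatingGroup (Fin 8) →* G) (σ : Equiv.Perm (Fin 8))
    (h : Equiv.Perm.sign σ = 1) : G :=
  φ ⟨σ, Equiv.Perm.mem_alternatingGroup.2 h⟩

theorem Std.commute_even (h : F.Std Q φ) {a : ℕ} (ha : a < 192) {σ : Equiv.Perm (Fin 8)}
    (hσ : Equiv.Perm.sign σ = 1)
    (hc : ∀ z, σ (permFn (eightTab.getD a 0) z) = permFn (eightTab.getD a 0) (σ z)) :
    evenEl φ σ hσ * F.el a = F.el a * evenEl φ σ hσ :=
  mul_inv_eq_iff_eq_mul.1 (h.conj_eq ha ha ⟨σ, _⟩ hc)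

theorem Std.conj_even (h : F.Std Q φ) {a : ℕ} (ha : a < 192) {σ τ : Equiv.Perm (Fin 8)}
    (hσ : Equiv.Perm.sign σ = 1) (hτ : Equiv.Perm.sign τ = 1)
    (hc : ∀ z, permFn (eightTab.getD a 0) (σ z) = τ (permFn (eightTab.getD a 0) z)) :
    F.el a * evenEl φ σ hσ * (F.el a)⁻¹ = evenEl φ τ hτ := by
  obtain ⟨α, h1, h2⟩ := h.emb a ha
  rw [← h2, evenEl, evenEl, ← map_inv, ← map_mul, ← map_mul]
  refine congrArg φ ?_
  rw [mul_inv_eq_iff_eq_mul]
  refine Subtype.ext (Equiv.ext fun z => ?_)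
  simp only [Subgroup.coe_mul, Equiv.Perm.mul_apply, h1, eightPerm_apply ha]
  exact hc z

set_option maxHeartbeats 1600000 in
/-- The embedded `A₈` is everything or extends to an `A₉`. -/
theorem Std.extension [IsSimpleGroup G] (h : F.Std Q φ) :
    Function.Bijective φ ∨ ∃ ψ : alternatingGroup (Fin 7 ⊕ Fin 2) →* G, Function.Bijective ψ ∧
      ∀ i : Fin 6, ∃ hi : Equiv.Perm.sign (starPerm i) = 1,
        ψ ⟨star3 (Fin 7) i.castSucc, star3_mem _⟩ =
          φ ⟨starPerm i, Equiv.Perm.mem_alternatingGroup.2 hi⟩ := by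
  classical
  haveI : Fact (Nat.Prime 2) := ⟨Nat.prime_two⟩
  haveI : Fact (Nat.Prime 3) := ⟨Nat.prime_three⟩
  obtain ⟨hV, hVnd, hRep, hRepInj, hRepSurj, hRepSq, hWc, hcentW, hq, hq181, hq84, h127, h180⟩ := nine_codes
  obtain ⟨hs0, hst, hstau, hssh, hpair, hcube, hfix, htfix, ht1, ht2, ht0, ht3, hprod, hq4, hq5, htau, h01, h02, h03,
    hsh84, hsh97⟩ := nine_perms
  obtain ⟨hcl, -, -, -, -, hm138, -, -, -, -⟩ := centU_checks
  obtain ⟨K, hK⟩ : ∃ K : Subgroup G, K = Subgroup.centralizer ({F.el 84, F.el 97} : Set G) := ⟨_, rfl⟩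
  have hmemK : ∀ {g : G}, g ∈ K ↔ g * F.el 84 = F.el 84 * g ∧ g * F.el 97 = F.el 97 * g := fun {g} => by
    rw [hK, Subgroup.mem_centralizer_iff]
    simp [eq_comm]
  have h84 : F.el 84 * F.el 84 = 1 := (F.mul_self_iff (by norm_num)).2 (by decide +kernel)
  have h181 : F.el 84 * F.el 97 = F.el 181 := by
    rw [← F.mul _ (by norm_num) _ (by norm_num)]; exact congrArg F.el (by decide +kernel)
  have hlt138 : (138 : ℕ) < 192 := by norm_num
  have q84 : F.el 138 * F.el 84 * (F.el 138)⁻¹ = F.el 84 := by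
    rw [← F.el_conC hlt138 (by norm_num), hq84]
  have q181 : F.el 138 * F.el 181 * (F.el 138)⁻¹ = F.el 97 := by
    rw [← F.el_conC hlt138 (by norm_num), hq181]
  -- an element centralising `84` is in `K`, up to `138`
  have hsplit : ∀ x : G, x * F.el 84 = F.el 84 * x → x ∈ K ∨ F.el 138 * x ∈ K := by
    intro x hx
    rcases h.four_normal hx with e | e
    · exact Or.inl (hmemK.2 ⟨hx, mul_inv_eq_iff_eq_mul.1 e⟩)
    · refine Or.inr (hmemK.2 ⟨?_, mul_inv_eq_iff_eq_mul.1 ?_⟩)
      · exact ((show Commute (F.el 138) (F.el 84) from mul_inv_eq_iff_eq_mul.1 q84).mul_left hx).eq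
      · calc F.el 138 * x * F.el 97 * (F.el 138 * x)⁻¹ = F.el 138 * (x * F.el 97 * x⁻¹) * (F.el 138)⁻¹ := by group
          _ = F.el 97 := by rw [e, q181]
  -- 2-elements of `K`
  have htwo : ∀ y ∈ K, y ^ 4 = 1 → ∃ k ∈ K, ∃ z ∈ sixW, y = k * F.el z * k⁻¹ := by
    intro y hy hy4
    obtain ⟨P, hP⟩ := h.sylow_centU
    have hyM : y ∈ Subgroup.centralizer ({F.el 84} : Set G) :=
      Subgroup.mem_centralizer_singleton_iff.2 (hmemK.1 hy).1
    have hpy : IsPGroup 2 (Subgroup.zpowers (⟨y, hyM⟩ : Subgroup.centralizer ({F.el 84} : Set G))) := by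
      rintro ⟨w, hw⟩
      obtain ⟨n, rfl⟩ := Subgroup.mem_zpowers_iff.1 hw
      refine ⟨2, Subtype.ext (Subtype.ext ?_)⟩
      rw [SubmonoidClass.coe_pow, SubmonoidClass.coe_pow, Subgroup.coe_zpow, ← zpow_natCast, ← zpow_mul,
        mul_comm, zpow_mul, zpow_natCast]
      show (y ^ (2 ^ 2)) ^ n = 1
      rw [show 2 ^ 2 = 4 from rfl, hy4, one_zpow]
    obtain ⟨R, hR⟩ := hpy.exists_le_sylow
    obtain ⟨g, hg⟩ := MulAction.exists_smul_eq (Subgroup.centralizer ({F.el 84} : Set G)) R P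
    have hm : g * ⟨y, hyM⟩ * g⁻¹ ∈ (P : Subgroup (Subgroup.centralizer ({F.el 84} : Set G))) := by
      rw [← hg, Sylow.coe_subgroup_smul]
      exact ⟨_, hR (Subgroup.mem_zpowers _), rfl⟩
    have hm' : ((g * ⟨y, hyM⟩ * g⁻¹ : Subgroup.centralizer ({F.el 84} : Set G)) : G) ∈
        (P : Subgroup _).map (Subgroup.centralizer ({F.el 84} : Set G)).subtype := ⟨_, hm, rfl⟩
    rw [hP] at hm'
    obtain ⟨w, hw, hwe⟩ := hm'
    simp only [Subgroup.coe_mul, Subgroup.coe_inv] at hwe
    have key : ∀ k ∈ K, ∀ w ∈ centUList, k * y * k⁻¹ = F.el w → ∃ k ∈ K, ∃ z ∈ sixW, y = k * F.el z * k⁻¹ := by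
      intro k hk w hw e
      have hw' := mem_codes.1 (List.mem_filter.1 hw).1
      refine ⟨k⁻¹, K.inv_mem hk, w, hcentW w hw ((F.mul_comm_iff hw' (by norm_num)).1 ?_), by rw [← e]; group⟩
      rw [← e]
      have h1 := K.mul_mem (K.mul_mem hk hy) (K.inv_mem hk)
      exact (hmemK.1 h1).2
    rcases hsplit g (Subgroup.mem_centralizer_singleton_iff.1 g.2) with hgK | hgK
    · exact key g hgK w hw hwe.symm
    · refine key _ hgK (conC 2 138 w) (hq w hw) ?_
      rw [F.el_conC hlt138 (mem_codes.1 (List.mem_filter.1 hw).1), hwe]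
      group
  -- the quotient
  have hsixK : ∀ z ∈ sixW, F.el z ∈ K := fun z hz => hmemK.2
    ⟨(F.mul_comm_iff (sixW_lt z hz) (by norm_num)).2 (hWc z hz).1,
      (F.mul_comm_iff (sixW_lt z hz) (by norm_num)).2 (hWc z hz).2.1⟩
  have hfour : ∀ v ∈ fourList, v < 192 ∧ v ∈ sixW := by decide +kernel
  obtain ⟨V, hVdef⟩ : ∃ V : Subgroup K, V = (F.subC fourList hV).subgroupOf K := ⟨_, rfl⟩
  have hVcentral : ∀ v ∈ V, ∀ y : K, y * v = v * y := by
    intro v hv y
    rw [hVdef, Subgroup.mem_subgroupOf] at hv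
    obtain ⟨a, ha, hae⟩ := hv
    refine Subtype.ext ?_
    simp only [Subgroup.coe_mul, ← hae]
    obtain ⟨c1, c2⟩ := hmemK.1 y.2
    fin_cases ha
    · rw [F.el_zero, mul_one, one_mul]
    · exact c1
    · exact c2
    · rw [← h181]
      exact ((show Commute (y : G) (F.el 84) from c1).mul_right c2).eq
  haveI : V.Normal := ⟨fun v hv y => by rwa [hVcentral v hv y, mul_inv_cancel_right]⟩
  let π : K →* K ⧸ V := QuotientGroup.mk' V
  let dd : Fin 4 → K ⧸ V := fun i => π ⟨F.el (fourRep i), hsixK _ (hRep i)⟩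
  let d : K ⧸ V := dd 2
  have hVel : ∀ {y : K}, y ∈ V → ∃ v ∈ fourList, F.el v = (y : G) := fun {y} hy => by
    rw [hVdef, Subgroup.mem_subgroupOf] at hy
    exact hy
  have hdinj : Function.Injective dd := by
    intro i j e
    obtain ⟨v, hv, hve⟩ := hVel (QuotientGroup.eq.1 e)
    simp only [Subgroup.coe_mul, Subgroup.coe_inv] at hve
    refine hRepInj i j ?_
    have hi := sixW_lt _ (hRep i)
    have := F.inj v (hfour v hv).1 (mulC 2 (invC 2 (fourRep i)) (fourRep j)) (mulC_lt _ _ _) (by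
      rw [F.mul _ (F.invC_lt hi) _ (sixW_lt _ (hRep j)), F.el_inv hi]; exact hve)
    exact this ▸ hv
  have hdz : ∀ z (hz : z ∈ sixW), ∃ i, π ⟨F.el z, hsixK z hz⟩ = dd i := by
    intro z hz
    obtain ⟨i, v, hv, hzv⟩ := hRepSurj z hz
    refine ⟨i, QuotientGroup.eq.2 ?_⟩
    rw [hVdef, Subgroup.mem_subgroupOf]
    have hz' : F.el z = F.el (fourRep i) * F.el v := by
      rw [← F.mul _ (sixW_lt _ (hRep i)) _ (hfour v hv).1, hzv]
    simp only [Subgroup.coe_mul, Subgroup.coe_inv, hz', mul_inv_rev, inv_mul_cancel_right]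
    exact (F.subC fourList hV).inv_mem ⟨v, hv, rfl⟩
  have hd0 : dd 0 = 1 := (QuotientGroup.eq_one_iff _).2 (by
    rw [hVdef, Subgroup.mem_subgroupOf]
    exact ⟨0, by decide, rfl⟩)
  have hdd : ∀ i, dd i * dd i = 1 := fun i => by
    rw [← map_mul, show (⟨F.el (fourRep i), hsixK _ (hRep i)⟩ : K) * ⟨F.el (fourRep i), hsixK _ (hRep i)⟩ = 1
      from Subtype.ext ((F.mul_self_iff (sixW_lt _ (hRep i))).2 (hRepSq i)), map_one]
  have hd2 : orderOf d = 2 :=
    orderOf_eq_prime (by rw [sq]; exact hdd 2) fun e => absurd (hdinj (e.trans hd0.symm)) (by decide)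
  -- the element permuting the three involutions
  obtain ⟨t, ht⟩ : ∃ t : K, (t : G) = evenEl φ turnPerm hst :=
    ⟨⟨_, hmemK.2 ⟨h.commute_even (by norm_num) hst (htfix 84 (by simp)),
      h.commute_even (by norm_num) hst (htfix 97 (by simp))⟩⟩, rfl⟩
  have htd : π t * dd 2 * (π t)⁻¹ = dd 3 ∧ π t * dd 3 * (π t)⁻¹ = dd 1 ∧ π t * dd 1 * (π t)⁻¹ = dd 2 := by
    refine ⟨?_, ?_, ?_⟩ <;>
      (rw [← map_inv, ← map_mul, ← map_mul]; refine congrArg π (Subtype.ext ?_);
       simp only [Subgroup.coe_mul, Subgroup.coe_inv, ht])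
    · exact h.conj_eq (sixW_lt _ (hRep _)) (sixW_lt _ (hRep _)) ⟨turnPerm, _⟩ ht1
    · exact h.conj_eq (sixW_lt _ (hRep _)) (sixW_lt _ (hRep _)) ⟨turnPerm, _⟩ ht2
    · exact h.conj_eq (sixW_lt _ (hRep _)) (sixW_lt _ (hRep _)) ⟨turnPerm, _⟩ ht0
  have hcent : ∀ y : K ⧸ V, y * d = d * y → ∃ i, y = dd i := by
    intro y hy
    obtain ⟨k, rfl⟩ := QuotientGroup.mk'_surjective V y
    have hy' : π k * dd 2 = dd 2 * π k := hy
    obtain ⟨v, hv, hve⟩ := hVel (QuotientGroup.eq.1 (show π (⟨F.el (fourRep 2), hsixK _ (hRep 2)⟩ * k) = π (k *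
      ⟨F.el (fourRep 2), hsixK _ (hRep 2)⟩) by rw [map_mul π, map_mul π]; exact hy'.symm))
    simp only [Subgroup.coe_mul, Subgroup.coe_inv, show fourRep 2 = 127 from rfl] at hve
    obtain ⟨k1, k2⟩ := hmemK.1 k.2
    have hvk : Commute (F.el v) (k : G) := by
      have := hVcentral ⟨F.el v, hsixK v (hfour v hv).2⟩ (by
        rw [hVdef, Subgroup.mem_subgroupOf]; exact ⟨v, hv, rfl⟩) k
      exact (congrArg Subtype.val this).symm
    have e1 : (k : G) * F.el 127 * (k : G)⁻¹ = F.el (mulC 2 127 v) := by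
      rw [F.mul _ (by norm_num) _ (hfour v hv).1]
      calc (k : G) * F.el 127 * (k : G)⁻¹ = F.el 127 * (k * ((F.el 127 * k)⁻¹ * (k * F.el 127)) * (k : G)⁻¹) := by
            group
        _ = F.el 127 * F.el v := by rw [← hve, ← hvk.eq, mul_inv_cancel_right]
    have hv0 : v = 0 := by
      by_contra hne
      have hvl : v ∈ [84, 97, 181] :=
        (by decide : ∀ w ∈ fourList, w ≠ 0 → w ∈ [84, 97, 181]) v hv hne
      exact h.not_fu_of_mem (a := 127) (by decide +kernel)
        ((h.fu_of_mem (h127 v hvl)).trans (isConj_iff.2 ⟨(k : G)⁻¹, by rw [← e1]; group⟩))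
    have hmul0 : mulC 2 127 0 = 127 := by decide +kernel
    rw [hv0, hmul0] at e1
    have hk127 : Commute (k : G) (F.el 127) := mul_inv_eq_iff_eq_mul.1 e1
    have t1 : (t : G) * F.el 127 * (t : G)⁻¹ = F.el 163 := by
      rw [ht]; exact h.conj_eq (by norm_num) (by norm_num) ⟨turnPerm, _⟩ ht1
    have t2 : (t : G) * F.el 163 * (t : G)⁻¹ = F.el 180 := by
      rw [ht]; exact h.conj_eq (by norm_num) (by norm_num) ⟨turnPerm, _⟩ ht2
    obtain ⟨k', hk'⟩ : ∃ k' : K, k' = t * (t * k * t⁻¹) * t⁻¹ := ⟨_, rfl⟩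
    have c180 : Commute (k' : G) (F.el 180) := by
      have := (Commute.conj_iff (t : G)).2 ((Commute.conj_iff (t : G)).2 hk127)
      rw [t1, t2] at this
      simpa [hk'] using this
    have e2 : (k' : G) * s = s * k' := by
      have hc : Commute (k' : G) (F.el 84) := (hmemK.1 k'.2).1
      have := c180.mul_right hc
      rw [← F.mul _ (by norm_num) _ (by norm_num), h180, F.el_sC] at this
      exact this.eq
    obtain ⟨a, ha, hae⟩ := F.exists_code e2
    have haW : a ∈ sixW := hcentW a (List.mem_filter.2 ⟨mem_codes.2 ha, beq_iff_eq.2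
      ((F.mul_comm_iff ha (by norm_num)).1 (by rw [hae]; exact (hmemK.1 k'.2).1))⟩)
      ((F.mul_comm_iff ha (by norm_num)).1 (by rw [hae]; exact (hmemK.1 k'.2).2))
    obtain ⟨i, hi⟩ := hdz a haW
    have hback : ∀ j, ∃ i, (π t)⁻¹ * dd j * π t = dd i := by
      intro j
      fin_cases j
      · exact ⟨0, by show (π t)⁻¹ * dd 0 * π t = dd 0; rw [hd0]; group⟩
      · exact ⟨3, by show (π t)⁻¹ * dd 1 * π t = dd 3; rw [← htd.2.1]; group⟩
      · exact ⟨1, by show (π t)⁻¹ * dd 2 * π t = dd 1; rw [← htd.2.2]; group⟩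
      · exact ⟨2, by show (π t)⁻¹ * dd 3 * π t = dd 2; rw [← htd.1]; group⟩
    obtain ⟨i1, hi1⟩ := hback i
    obtain ⟨i2, hi2⟩ := hback i1
    refine ⟨i2, ?_⟩
    rw [← hi2, ← hi1, show dd i = π k' from (hi.symm.trans (congrArg π (Subtype.ext hae))), hk']
    simp only [map_mul, map_inv]
    group
    rfl
  have hcentEq : ∀ y, y ∈ Subgroup.centralizer ({d} : Set (K ⧸ V)) ↔ ∃ i, y = dd i := fun y => by
    rw [Subgroup.mem_centralizer_singleton_iff]
    refine ⟨hcent y, ?_⟩
    rintro ⟨i, rfl⟩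
    rw [← map_mul, ← map_mul]
    refine congrArg π (Subtype.ext ((F.mul_comm_iff (sixW_lt _ (hRep i)) (sixW_lt _ (hRep 2))).2 ?_))
    exact (hWc _ (hRep i)).2.2
  have hV4 : Nat.card (Subgroup.centralizer ({d} : Set (K ⧸ V))) = 4 := by
    let f : Fin 4 → Subgroup.centralizer ({d} : Set (K ⧸ V)) := fun i => ⟨dd i, (hcentEq _).2 ⟨i, rfl⟩⟩
    have hf : Function.Bijective f := ⟨fun i j e => hdinj (congrArg Subtype.val e), fun y => by
      obtain ⟨i, hi⟩ := (hcentEq _).1 y.2
      exact ⟨i, Subtype.ext hi.symm⟩⟩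
    rw [← Nat.card_eq_of_bijective f hf, Nat.card_fin]
  have hexp : ∀ v ∈ Subgroup.centralizer ({d} : Set (K ⧸ V)), v * v = 1 := fun v hv => by
    obtain ⟨i, rfl⟩ := (hcentEq v).1 hv
    exact hdd i
  have hdconj : ∀ i : Fin 4, i ≠ 0 → IsConj d (dd i) := by
    intro i hi
    have c3 : IsConj d (dd 3) := isConj_iff.2 ⟨π t, htd.1⟩
    have c1 : IsConj (dd 3) (dd 1) := isConj_iff.2 ⟨π t, htd.2.1⟩
    fin_cases i
    · simp at hi
    · exact c3.trans c1
    · exact IsConj.refl _
    · exact c3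
  have hone : ∀ y : K ⧸ V, orderOf y = 2 → IsConj d y := by
    intro y hy
    obtain ⟨k, rfl⟩ := QuotientGroup.mk'_surjective V y
    have hk2 : k * k ∈ V := (QuotientGroup.eq_one_iff _).1 (by
      rw [show ((k * k : K) : K ⧸ V) = π k * π k from rfl, ← sq]
      exact (congrArg (π k ^ ·) hy).symm.trans (pow_orderOf_eq_one _))
    obtain ⟨v, hv, hve⟩ := hVel hk2
    have hv2 : mulC 2 v v = 0 := (by decide +kernel : ∀ w ∈ fourList, mulC 2 w w = 0) v hv
    obtain ⟨k', hk', z, hz, hzk⟩ := htwo k k.2 (by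
      rw [show (4 : ℕ) = 2 + 2 from rfl, pow_add, sq, ← Subgroup.coe_mul, ← hve]
      exact (F.mul_self_iff (hfour v hv).1).2 hv2)
    obtain ⟨i, hi⟩ := hdz z hz
    have e : π k = π ⟨k', hk'⟩ * dd i * (π ⟨k', hk'⟩)⁻¹ := by
      rw [← hi, ← map_inv, ← map_mul, ← map_mul]
      exact congrArg π (Subtype.ext hzk)
    have hi0 : i ≠ 0 := by
      rintro rfl
      rw [hd0, mul_one, mul_inv_cancel] at e
      rw [e, orderOf_one] at hy
      omega
    exact (hdconj i hi0).trans (isConj_iff.2 ⟨π ⟨k', hk'⟩, e.symm⟩)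
  obtain ⟨-, hnorm12, hcases⟩ := CfsgLib.Inv54.DihedralEight.four d hd2 hV4 hexp hone
  -- a subgroup with full image contains the centraliser of `el 84`
  have himage : ∀ X : Subgroup G, φ.range ≤ X → (X.subgroupOf K).map π = ⊤ →
      ∀ x : G, x * F.el 84 = F.el 84 * x → x ∈ X := by
    intro X hX htop x hx
    have hKX : ∀ y ∈ K, y ∈ X := by
      intro y hy
      obtain ⟨z, hz, hzy⟩ : π ⟨y, hy⟩ ∈ (X.subgroupOf K).map π := htop ▸ Subgroup.mem_top _
      obtain ⟨v, hv, hve⟩ := hVel (QuotientGroup.eq.1 hzy)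
      simp only [Subgroup.coe_mul, Subgroup.coe_inv] at hve
      rw [show y = (z : G) * F.el v by rw [hve]; group]
      exact X.mul_mem hz (hX (h.el_mem_range (hfour v hv).1))
    rcases hsplit x hx with hK' | hK'
    · exact hKX x hK'
    · simpa using X.mul_mem (X.inv_mem (hX (h.el_mem_range hlt138))) (hKX _ hK')
  have hinX : ∀ {X : Subgroup G}, φ.range ≤ X →
      Subgroup.centralizer ({d} : Set (K ⧸ V)) ≤ (X.subgroupOf K).map π ∧ π t ∈ (X.subgroupOf K).map π := by
    intro X hX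
    refine ⟨fun y hy => ?_, ⟨t, Subgroup.mem_subgroupOf.2 (ht ▸ hX ⟨_, rfl⟩), rfl⟩⟩
    obtain ⟨i, rfl⟩ := (hcentEq y).1 hy
    exact ⟨_, Subgroup.mem_subgroupOf.2 (hX (h.el_mem_range (sixW_lt _ (hRep i)))), rfl⟩
  have htnot : π t ∉ Subgroup.centralizer ({d} : Set (K ⧸ V)) := fun e => by
    have e' := Subgroup.mem_centralizer_singleton_iff.1 e
    have h3 := htd.1
    rw [e', mul_inv_cancel_right] at h3
    exact absurd (hdinj h3) (by decide)
  rcases hcases with ⟨-, h12⟩ | ⟨-, ⟨e⟩⟩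
  · left
    have htop : (φ.range.subgroupOf K).map π = ⊤ := by
      obtain ⟨hle, htm⟩ := hinX (le_refl φ.range)
      refine Subgroup.eq_top_of_card_eq _ ?_
      have h4 := Subgroup.card_dvd_of_le hle
      have hd := Subgroup.card_subgroup_dvd_card ((φ.range.subgroupOf K).map π)
      have hlt : Nat.card (Subgroup.centralizer ({d} : Set (K ⧸ V))) < Nat.card ((φ.range.subgroupOf K).map π) := by
        by_contra hge
        exact htnot ((Subgroup.eq_of_le_of_card_ge hle (not_lt.1 hge)).symm ▸ htm)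
      rw [hV4] at h4 hlt
      rw [h12] at hd ⊢
      have := Nat.le_of_dvd (by norm_num) hd
      generalize Nat.card ((φ.range.subgroupOf K).map π) = n at *
      interval_cases n <;> omega
    have := h.eq_top φ.range le_rfl (himage φ.range le_rfl htop)
    exact ⟨h.inj, MonoidHom.range_eq_top.1 this⟩
  · right
    let X6 : Fin 6 → G := fun i => evenEl φ (starPerm i) (hs0 i)
    have hX6K : ∀ i : Fin 6, 4 ≤ i.val → X6 i ∈ K := fun i hi => hmemK.2
      ⟨h.commute_even (by norm_num) (hs0 i) (hfix i hi 84 (by simp)),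
        h.commute_even (by norm_num) (hs0 i) (hfix i hi 97 (by simp))⟩
    have hX6cube : ∀ i, X6 i * X6 i * X6 i = 1 := fun i => by
      simp only [X6, evenEl, ← map_mul]
      exact (congrArg φ (Subtype.ext (Equiv.ext fun z => hcube i z))).trans (map_one φ)
    have hX6pair : ∀ i j, i ≠ j → X6 i * X6 j * (X6 i * X6 j) = 1 := fun i j hij => by
      simp only [X6, evenEl, ← map_mul]
      exact (congrArg φ (Subtype.ext (Equiv.ext fun z => hpair i j z hij))).trans (map_one φ)
    obtain ⟨A, hA⟩ : ∃ A, A = e (π ⟨X6 4, hX6K 4 (by decide)⟩) := ⟨_, rfl⟩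
    obtain ⟨B, hB⟩ : ∃ B, B = e (π ⟨X6 5, hX6K 5 (by decide)⟩) := ⟨_, rfl⟩
    have hAB : A * B = e (dd 2) := by
      rw [hA, hB, ← map_mul, ← map_mul]
      refine congrArg _ (congrArg _ (Subtype.ext ?_))
      simp only [Subgroup.coe_mul, X6, evenEl, ← map_mul]
      exact h.el_eq (sixW_lt _ (hRep 2)) hprod
    have hAB1 : A * B ≠ 1 := by
      rw [hAB, Ne, MulEquiv.map_eq_one_iff]
      exact fun e1 => absurd (hdinj (e1.trans hd0.symm)) (by decide)
    have hA3 : A * A * A = 1 := by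
      rw [hA, ← map_mul, ← map_mul, ← map_mul, ← map_mul,
        show (⟨X6 4, hX6K 4 (by decide)⟩ : K) * ⟨X6 4, hX6K 4 (by decide)⟩ * ⟨X6 4, hX6K 4 (by decide)⟩ = 1
          from Subtype.ext (hX6cube 4), map_one, map_one]
    have hB3 : B * B * B = 1 := by
      rw [hB, ← map_mul, ← map_mul, ← map_mul, ← map_mul,
        show (⟨X6 5, hX6K 5 (by decide)⟩ : K) * ⟨X6 5, hX6K 5 (by decide)⟩ * ⟨X6 5, hX6K 5 (by decide)⟩ = 1
          from Subtype.ext (hX6cube 5), map_one, map_one]
    have hABs : A * B * (A * B) = 1 := by rw [hAB, ← map_mul, hdd, map_one]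
    have hA1 : A ≠ 1 := fun e1 => hAB1 (by
      rw [e1, one_mul] at hABs ⊢
      rw [hABs, one_mul] at hB3
      exact hB3)
    have hB1 : B ≠ 1 := fun e1 => hAB1 (by
      rw [e1, mul_one] at hABs ⊢
      rw [hABs, one_mul] at hA3
      exact hA3)
    obtain ⟨C, ⟨hC3, hCA, hCB⟩, hCnon, huniq⟩ := five_extend A B hA3 hA1 hB3 hB1 hABs hAB1
    obtain ⟨k0, hk0⟩ := QuotientGroup.mk'_surjective V (e.symm C)
    have hVone : ∀ y : K, π y = 1 → y * y = 1 := fun y hy => by
      obtain ⟨v, hv, hve⟩ := hVel ((QuotientGroup.eq_one_iff _).1 hy)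
      exact Subtype.ext (by
        rw [Subgroup.coe_mul, ← hve]
        exact (F.mul_self_iff (hfour v hv).1).2
          ((by decide +kernel : ∀ w ∈ fourList, mulC 2 w w = 0) v hv))
    obtain ⟨c, hc⟩ : ∃ c : K, c = k0 * k0 * k0 * k0 := ⟨_, rfl⟩
    have hk03 : π (k0 * k0 * k0) = 1 := e.injective (by
      rw [map_mul π, map_mul π, map_mul, map_mul, map_one, show π k0 = e.symm C from hk0, e.apply_symm_apply, hC3])
    have hcC : e (π c) = C := by
      rw [hc, map_mul π, hk03, one_mul, show π k0 = e.symm C from hk0, e.apply_symm_apply]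
    have hc3 : c * c * c = 1 := by
      have h6 := hVone _ hk03
      calc c * c * c = (k0 * k0 * k0 * (k0 * k0 * k0)) * (k0 * k0 * k0 * (k0 * k0 * k0)) := by rw [hc]; group
        _ = 1 := by rw [h6, one_mul]
    have hsq : ∀ y : K, π y * π y = 1 → y * y = 1 := by
      intro y hy
      rw [← map_mul] at hy
      obtain ⟨k', hk', z, hz, hzk⟩ := htwo y y.2 (by
        have := congrArg Subtype.val (hVone _ hy)
        simp only [Subgroup.coe_mul, Subgroup.coe_one] at this
        calc (y : G) ^ 4 = (y : G) * y * ((y : G) * y) := by simp [pow_succ, mul_assoc]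
          _ = 1 := this)
      refine Subtype.ext ?_
      rw [Subgroup.coe_mul, hzk, conj_mul, (F.mul_self_iff (sixW_lt z hz)).2
        ((by decide +kernel : ∀ w ∈ sixW, mulC 2 w w = 0) z hz)]
      simp
    have hc45 : (c : G) * X6 4 * (c * X6 4) = 1 ∧ (c : G) * X6 5 * (c * X6 5) = 1 := by
      constructor
      · exact congrArg Subtype.val (hsq (c * ⟨X6 4, hX6K 4 (by decide)⟩) (e.injective (by
          rw [map_mul π, map_mul, map_mul, map_one, hcC, ← hA, hCA])))
      · exact congrArg Subtype.val (hsq (c * ⟨X6 5, hX6K 5 (by decide)⟩) (e.injective (by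
          rw [map_mul π, map_mul, map_mul, map_one, hcC, ← hB, hCB])))
    have hc3' : (c : G) * c * c = 1 := congrArg Subtype.val hc3
    -- `c` commutes with `138`
    have hqK : F.el 138 * c * (F.el 138)⁻¹ ∈ K := by
      obtain ⟨c1, c2⟩ := hmemK.1 c.2
      refine hmemK.2 ⟨?_, ?_⟩
      · exact (q84 ▸ (Commute.conj_iff (F.el 138)).2 (show Commute (c : G) (F.el 84) from c1)).eq
      · have h0 : Commute (c : G) (F.el 181) :=
          h181 ▸ (show Commute (c : G) (F.el 84) from c1).mul_right c2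
        exact (q181 ▸ (Commute.conj_iff (F.el 138)).2 h0).eq
    obtain ⟨c', hc'⟩ : ∃ c' : K, (c' : G) = F.el 138 * c * (F.el 138)⁻¹ := ⟨⟨_, hqK⟩, rfl⟩
    have hqx4 : F.el 138 * X6 4 * (F.el 138)⁻¹ = X6 5 := h.conj_even hlt138 (hs0 4) (hs0 5) hq4
    have hqx5 : F.el 138 * X6 5 * (F.el 138)⁻¹ = X6 4 := h.conj_even hlt138 (hs0 5) (hs0 4) hq5
    have hc'3 : c' * c' * c' = 1 := Subtype.ext (by
      simp only [Subgroup.coe_mul, hc', Subgroup.coe_one]
      calc _ = F.el 138 * ((c : G) * c * c) * (F.el 138)⁻¹ := by group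
        _ = 1 := by rw [hc3']; group)
    have hc'C : e (π c') = C := by
      have hone' : ∀ y : K, y = 1 → e (π y) = 1 := fun y hy => by rw [hy, map_one, map_one]
      refine huniq _ ?_ ?_ ?_
      · rw [← map_mul, ← map_mul, ← map_mul π, ← map_mul π, hc'3, map_one, map_one]
      · rw [hA, ← map_mul, ← map_mul, ← map_mul π, ← map_mul π]
        refine hone' _ (Subtype.ext ?_)
        simp only [Subgroup.coe_mul, hc', Subgroup.coe_one]
        rw [← hqx5]
        calc _ = F.el 138 * ((c : G) * X6 5 * (c * X6 5)) * (F.el 138)⁻¹ := by group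
          _ = 1 := by rw [hc45.2]; group
      · rw [hB, ← map_mul, ← map_mul, ← map_mul π, ← map_mul π]
        refine hone' _ (Subtype.ext ?_)
        simp only [Subgroup.coe_mul, hc', Subgroup.coe_one]
        rw [← hqx4]
        calc _ = F.el 138 * ((c : G) * X6 4 * (c * X6 4)) * (F.el 138)⁻¹ := by group
          _ = 1 := by rw [hc45.1]; group
    have hqc : Commute (F.el 138) (c : G) := by
      have h1 : c⁻¹ * c' ∈ V := QuotientGroup.eq.1 (e.injective (hcC.trans hc'C.symm))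
      have h2 : (c⁻¹ * c') * (c⁻¹ * c') = 1 := hVone _ ((QuotientGroup.eq_one_iff _).2 h1)
      obtain ⟨w, hw⟩ : ∃ w, w = c⁻¹ * c' := ⟨_, rfl⟩
      rw [← hw] at h1 h2
      have hcom : Commute c w := hVcentral w h1 c
      have e2 : c' = c * w := by rw [hw, mul_inv_cancel_left]
      have : (c * w) ^ 3 = 1 := by rw [← e2, pow_three']; exact hc'3
      rw [hcom.mul_pow, pow_three', pow_three', hc3, h2, one_mul, one_mul] at this
      rw [this, mul_one] at e2
      exact mul_inv_eq_iff_eq_mul.1 (hc'.symm.trans (congrArg Subtype.val e2))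
    -- `c` commutes with the element of `tauPerm`
    have hshift84 : evenEl φ shiftPerm hssh * F.el 84 * (evenEl φ shiftPerm hssh)⁻¹ = F.el 138 :=
      h.conj_eq (by norm_num) (by norm_num) ⟨shiftPerm, _⟩ hsh84
    have hshift97 : evenEl φ shiftPerm hssh * F.el 97 * (evenEl φ shiftPerm hssh)⁻¹ = evenEl φ tauPerm hstau := by
      obtain ⟨α, h1, h2⟩ := h.emb 97 (by norm_num)
      rw [← h2, evenEl, evenEl, ← map_inv, ← map_mul, ← map_mul]
      refine congrArg φ ?_
      rw [mul_inv_eq_iff_eq_mul]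
      refine Subtype.ext (Equiv.ext fun z => ?_)
      simp only [Subgroup.coe_mul, Equiv.Perm.mul_apply, h1, eightPerm_apply (show (97 : ℕ) < 192 by norm_num)]
      exact hsh97 z
    have htauc : Commute (evenEl φ tauPerm hstau) (c : G) := by
      obtain ⟨p, hp⟩ : ∃ p, p = evenEl φ shiftPerm hssh := ⟨_, rfl⟩
      rw [← hp] at hshift84 hshift97
      obtain ⟨c2, hc2⟩ : ∃ c2, c2 = p⁻¹ * c * p := ⟨_, rfl⟩
      have hc2u : c2 * F.el 84 = F.el 84 * c2 := by
        have := (Commute.conj_iff p⁻¹).2 hqc.symm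
        rw [← hshift84] at this
        simpa [hc2, mul_assoc] using this.eq
      have hc23 : c2 * c2 * c2 = 1 := by
        calc c2 * c2 * c2 = p⁻¹ * ((c : G) * c * c) * p := by rw [hc2]; group
          _ = 1 := by rw [hc3']; group
      rcases h.four_normal hc2u with e2 | e2
      · rw [← hshift97]
        calc p * F.el 97 * p⁻¹ * c = p * (F.el 97 * c2) * p⁻¹ := by rw [hc2]; group
          _ = p * (c2 * F.el 97) * p⁻¹ := by rw [mul_inv_eq_iff_eq_mul.1 e2]
          _ = c * (p * F.el 97 * p⁻¹) := by rw [hc2]; group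
      · exfalso
        have e181 : c2 * F.el 181 * c2⁻¹ = F.el 97 := by
          calc c2 * F.el 181 * c2⁻¹ = (c2 * F.el 84 * c2⁻¹) * (c2 * F.el 97 * c2⁻¹) := by rw [← h181]; group
            _ = F.el 84 * (F.el 84 * F.el 97) := by rw [hc2u, mul_inv_cancel_right, e2, h181]
            _ = F.el 97 := by rw [← mul_assoc, h84, one_mul]
        have e3 : c2 * c2 * c2 * F.el 97 * (c2 * c2 * c2)⁻¹ = F.el 181 := by
          rw [show c2 * c2 * c2 * F.el 97 * (c2 * c2 * c2)⁻¹ = c2 * (c2 * (c2 * F.el 97 * c2⁻¹) * c2⁻¹) * c2⁻¹ by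
            group, e2, e181, e2]
        rw [hc23, one_mul, inv_one, mul_one] at e3
        exact absurd (F.inj _ (by norm_num) _ (by norm_num) e3) (by norm_num)
    -- the seven Carmichael elements
    have hx0 : evenEl φ tauPerm hstau * X6 4 * (evenEl φ tauPerm hstau)⁻¹ = X6 0 := by
      simp only [X6, evenEl, ← map_inv, ← map_mul]
      refine congrArg φ ?_
      rw [mul_inv_eq_iff_eq_mul]
      exact Subtype.ext (Equiv.ext fun z => htau z)
    have hmove : ∀ {p : G} {i j : Fin 6}, Commute p (c : G) → p * X6 i * p⁻¹ = X6 j →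
        (c : G) * X6 i * (c * X6 i) = 1 → (c : G) * X6 j * (c * X6 j) = 1 := by
      intro p i j hpc hij hi
      rw [← hij]
      calc _ = p * ((p⁻¹ * (c : G) * p) * X6 i * ((p⁻¹ * (c : G) * p) * X6 i)) * p⁻¹ := by group
        _ = p * ((c : G) * X6 i * (c * X6 i)) * p⁻¹ := by
          rw [show p⁻¹ * (c : G) * p = c by rw [mul_assoc, ← hpc.eq, inv_mul_cancel_left]]
        _ = 1 := by rw [hi]; group
    have hcK := hmemK.1 c.2
    have hc0' := hmove htauc hx0 hc45.1
    have hcx : ∀ i, (c : G) * X6 i * (c * X6 i) = 1 := by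
      intro i
      have c84 : Commute (F.el 84) (c : G) := hcK.1.symm
      have c97 : Commute (F.el 97) (c : G) := hcK.2.symm
      fin_cases i
      · exact hc0'
      · exact hmove c84 (h.conj_even (by norm_num) (hs0 0) (hs0 1) h01) hc0'
      · exact hmove c97 (h.conj_even (by norm_num) (hs0 0) (hs0 2) h02) hc0'
      · exact hmove (h181 ▸ c84.mul_left c97) (h.conj_even (by norm_num) (hs0 0) (hs0 3) h03) hc0'
      · exact hc45.1
      · exact hc45.2
    have hxc : ∀ i, X6 i * (c : G) * (X6 i * c) = 1 := fun i => by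
      calc X6 i * (c : G) * (X6 i * c) = (c : G)⁻¹ * ((c : G) * X6 i * (c * X6 i)) * c := by group
        _ = 1 := by rw [hcx i]; group
    obtain ⟨x, hx⟩ : ∃ x : Fin 7 → G, x = Fin.snoc X6 (c : G) := ⟨_, rfl⟩
    have hxs : ∀ i : Fin 6, x i.castSucc = X6 i := fun i => by rw [hx, Fin.snoc_castSucc]
    have hxl : x (Fin.last 6) = (c : G) := by rw [hx, Fin.snoc_last]
    have hcar : IsCarmichael x := by
      constructor
      · intro i
        rw [pow_three']
        induction i using Fin.lastCases with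
        | last => rw [hxl]; exact hc3'
        | cast i => rw [hxs]; exact hX6cube i
      · intro i j hij
        rw [sq]
        induction i using Fin.lastCases with
        | last =>
          induction j using Fin.lastCases with
          | last => exact absurd rfl hij
          | cast j => rw [hxl, hxs]; exact hcx j
        | cast i =>
          induction j using Fin.lastCases with
          | last => rw [hxl, hxs]; exact hxc i
          | cast j => rw [hxs, hxs]; exact hX6pair i j (fun e1 => hij (by rw [e1]))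
    obtain ⟨ψ, hψ⟩ := hcar.exists_hom
    have hφX : φ.range ≤ ψ.range := by
      have hstar : ∀ i : Fin 6, eightPts.permCongr (star3 (Fin 6) i) = starPerm i := by
        intro i
        have hswap : ∀ a b : Fin 6 ⊕ Fin 2, eightPts.permCongr (Equiv.swap a b) =
            Equiv.swap (eightPts a) (eightPts b) := fun a b => by
          refine Equiv.ext fun z => ?_
          rw [Equiv.permCongr_apply, ← eightPts.injective.swap_apply, Equiv.apply_symm_apply]
        rw [star3, cyc3, ← Equiv.permCongrHom_coe, map_mul, Equiv.permCongrHom_coe, hswap, hswap]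
        rfl
      let S8 : Subgroup (Equiv.Perm (Fin 8)) := ((ψ.range).comap φ).map (alternatingGroup (Fin 8)).subtype
      have hle : alternatingGroup (Fin 6 ⊕ Fin 2) ≤ S8.comap eightPts.permCongrHom.toMonoidHom := by
        refine alternating_le_of_star3 fun i => ?_
        refine ⟨⟨starPerm i, Equiv.Perm.mem_alternatingGroup.2 (hs0 i)⟩, ?_, (hstar i).symm⟩
        exact ⟨_, (hψ i.castSucc).trans (hxs i)⟩
      rintro _ ⟨σ, rfl⟩
      have hm : eightPts.permCongr.symm (σ : Equiv.Perm (Fin 8)) ∈ alternatingGroup (Fin 6 ⊕ Fin 2) := by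
        rw [Equiv.Perm.mem_alternatingGroup, Equiv.permCongr_symm, Equiv.Perm.sign_permCongr]
        exact Equiv.Perm.mem_alternatingGroup.1 σ.2
      obtain ⟨τ, hτ, hτσ⟩ := hle hm
      have : τ = σ := Subtype.ext (hτσ.trans (eightPts.permCongr.apply_symm_apply _))
      exact this ▸ hτ
    have htop : (ψ.range.subgroupOf K).map π = ⊤ := by
      obtain ⟨hle, htm⟩ := hinX hφX
      have hcm : π c ∈ (ψ.range.subgroupOf K).map π :=
        ⟨c, Subgroup.mem_subgroupOf.2 ⟨_, (hψ (Fin.last 6)).trans hxl⟩, rfl⟩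
      obtain ⟨H, hH⟩ : ∃ H, H = (ψ.range.subgroupOf K).map π := ⟨_, rfl⟩
      rw [← hH] at hle htm hcm ⊢
      have h4 := Subgroup.card_dvd_of_le hle
      rw [hV4] at h4
      have h60 : Nat.card (K ⧸ V) = 60 := by
        rw [Nat.card_congr e.toEquiv, nat_card_alternatingGroup, Nat.card_fin]; rfl
      have hd := Subgroup.card_subgroup_dvd_card H
      rw [h60] at hd
      have ht3' : orderOf (π t) = 3 := orderOf_eq_prime (by
        rw [pow_three', ← map_mul, ← map_mul,
          show t * t * t = 1 from Subtype.ext (by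
            simp only [Subgroup.coe_mul, ht, evenEl, ← map_mul]
            exact (congrArg φ (Subtype.ext (Equiv.ext fun z => ht3 z))).trans (map_one φ)), map_one])
        fun e1 => htnot (e1 ▸ one_mem _)
      have h3 : 3 ∣ Nat.card H := by
        have := orderOf_dvd_natCard (⟨π t, htm⟩ : H)
        rwa [← Subgroup.orderOf_coe, ht3'] at this
      refine Subgroup.eq_top_of_card_eq _ ?_
      rw [h60]
      by_contra hne
      have h12 : Nat.card H = 12 := by
        have := Nat.le_of_dvd (by norm_num) hd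
        generalize Nat.card H = n at *
        interval_cases n <;> omega
      -- then the four group is normal in `H`
      obtain ⟨W', hW'⟩ : ∃ W', W' = Subgroup.centralizer ({d} : Set (K ⧸ V)) := ⟨_, rfl⟩
      rw [← hW'] at hle hnorm12
      have htn : π t ∈ Subgroup.normalizer (W' : Set (K ⧸ V)) := by
        have hfwd : ∀ g ∈ Subgroup.normalizer (W' : Set (K ⧸ V)), g ∈ Subgroup.normalizer (W' : Set (K ⧸ V)) :=
          fun g hg => hg
        refine hfwd _ ?_
        have hconjW : ∀ y ∈ W', π t * y * (π t)⁻¹ ∈ W' := by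
          intro y hy
          rw [hW'] at hy ⊢
          obtain ⟨i, rfl⟩ := (hcentEq y).1 hy
          refine (hcentEq _).2 ?_
          fin_cases i
          · exact ⟨0, by show π t * dd 0 * (π t)⁻¹ = dd 0; rw [hd0]; group⟩
          · exact ⟨2, htd.2.2⟩
          · exact ⟨3, htd.1⟩
          · exact ⟨1, htd.2.1⟩
        refine Subgroup.mem_normalizer_iff.2 fun y => ⟨hconjW y, fun hy => ?_⟩
        have h' := hconjW _ (hconjW _ hy)
        rwa [show π t * (π t * (π t * y * (π t)⁻¹) * (π t)⁻¹) * (π t)⁻¹ =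
            π t * π t * π t * y * (π t * π t * π t)⁻¹ by group,
          ← pow_three', ← ht3', pow_orderOf_eq_one, one_mul, inv_one, mul_one] at h'
      have hJ : W' ⊔ Subgroup.zpowers (π t) ≤ Subgroup.normalizer (W' : Set (K ⧸ V)) :=
        sup_le Subgroup.le_normalizer (Subgroup.zpowers_le.2 htn)
      have hJ12 : 12 ≤ Nat.card (W' ⊔ Subgroup.zpowers (π t) : Subgroup (K ⧸ V)) := by
        have a4 := Subgroup.card_dvd_of_le (le_sup_left : W' ≤ W' ⊔ Subgroup.zpowers (π t))
        have a3 := Subgroup.card_dvd_of_le (le_sup_right : Subgroup.zpowers (π t) ≤ W' ⊔ Subgroup.zpowers (π t))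
        rw [hW', hV4] at a4
        rw [Nat.card_zpowers, ht3', hW'] at a3
        rw [hW']
        exact Nat.le_of_dvd Nat.card_pos (Nat.Coprime.mul_dvd_of_dvd_of_dvd (by norm_num) a4 a3)
      have eN := Subgroup.eq_of_le_of_card_ge hJ (by rw [hnorm12]; exact hJ12)
      have eH := Subgroup.eq_of_le_of_card_ge
        (sup_le hle (Subgroup.zpowers_le.2 htm) : W' ⊔ Subgroup.zpowers (π t) ≤ H) (by rw [h12]; exact hJ12)
      have hcN : π c ∈ Subgroup.normalizer (W' : Set (K ⧸ V)) := eN ▸ eH.symm ▸ hcm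
      have hmem := (Subgroup.mem_normalizer_iff.1 hcN d).1 (by
        rw [hW']; exact Subgroup.mem_centralizer_singleton_iff.2 rfl)
      rw [hW', Subgroup.mem_centralizer_singleton_iff] at hmem
      refine hCnon ?_
      have h' := congrArg e hmem
      simp only [map_mul, map_inv, hcC] at h'
      rw [hAB]
      exact h'
    have hXtop := h.eq_top ψ.range hφX (himage ψ.range hφX htop)
    have hψinj : Function.Injective ψ := by
      haveI : IsSimpleGroup (alternatingGroup (Fin 7 ⊕ Fin 2)) := alternatingGroup.isSimpleGroup (by simp)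
      rw [← ψ.ker_eq_bot_iff]
      rcases ψ.normal_ker.eq_bot_or_eq_top with h' | h'
      · exact h'
      · exfalso
        rw [MonoidHom.range_eq_top] at hXtop
        obtain ⟨σ, hσ⟩ := hXtop s
        have h1 : ψ σ = 1 := MonoidHom.mem_ker.1 (h' ▸ Subgroup.mem_top σ)
        have := F.orderOf_s
        rw [← hσ, h1, orderOf_one] at this
        omega
    exact ⟨ψ, ⟨hψinj, MonoidHom.range_eq_top.1 hXtop⟩, fun i => ⟨hs0 i, (hψ i.castSucc).trans (hxs i)⟩⟩

/-- The group is `A₈` or `A₉`. -/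
theorem Std.alternating [IsSimpleGroup G] (h : F.Std Q φ) :
    Nonempty (G ≃* alternatingGroup (Fin 8)) ∨ Nonempty (G ≃* alternatingGroup (Fin 9)) := by
  rcases h.extension with hb | ⟨ψ, hb, -⟩
  · exact Or.inl ⟨(MulEquiv.ofBijective φ hb).symm⟩
  · exact Or.inr ⟨(MulEquiv.ofBijective ψ hb).symm.trans (Equiv.altCongrHom ninePts)⟩

end Frame

end CfsgLib.ExtraSymThree
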