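import Cfsg.Agent.ExtraSymThree.Subgroups
import Cfsg.Agent.S0215
import Cfsg.Agent.Small.Counting
import Cfsg.Agent.Linear.Basic

/-!
All conjugates of `s` in the centraliser lie in one normal subgroup of order 8.
-/

set_option autoImplicit false

namespace CfsgLib.ExtraSymThree

/-- The involutions outside `El` moving some member by `s`. -/
def goodC (k : ℕ) (El : List ℕ) (w : ℕ) : Bool :=
  mulC k w w == 0 && !El.contains w && El.any fun z => conC k w z == mulC k sC z

/-- The facts on a list of eight codes. -/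
def eightOK (k : ℕ) (El : List ℕ) : Bool :=
  closedC k El && Nat.beq El.length 8 && decide El.Nodup && El.contains sC &&
    El.all (fun a => mulC k a a == 0 && (El.all fun b => mulC k a b == mulC k b a) &&
      codes.all fun g => El.contains (conC k g a)) &&
    classOK k (El.filter fun a => !(a == 0 || a == sC)) &&
    codes.all (fun a => !(El.all fun b => mulC k a b == mulC k b a) || El.contains a) &&
    codes.any (fun a => mulC k a a == 0 && !El.contains a && sylC.contains a) &&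
    codes.all fun w => !(goodC k El w) ||
      (El.all (fun z => conC k w z == z || conC k w z == mulC k sC z) &&
        (centC k w).all (fun b => Nat.iterate (fun c => mulC k c c) 5 b == 0) &&
        El.all fun v => !((centC k w).all fun b => mulC k v b == mulC k b v) || (v == 0 || v == sC))

/-- A basis-free description of the list as `2³`. -/
def vecOK (k : ℕ) (El : List ℕ) (b₀ b₁ b₂ : ℕ) : Bool :=
  let f : ℕ → ℕ := fun n => mulC k (mulC k (if n % 2 = 1 then b₀ else 0) (if n / 2 % 2 = 1 then b₁ else 0))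
    (if n / 4 % 2 = 1 then b₂ else 0)
  (List.range 8).all (fun n => El.contains (f n) && (List.range 8).all fun m =>
    mulC k (f n) (f m) == f (n ^^^ m) && (!(f n == f m) || n == m))

variable {G : Type*} [Group G] [Finite G] {k : ℕ} {s : G}

open CfsgLib.LargeExtraspecial (conj_eq_inv_of_fixedPointFree)

namespace Frame

variable (F : Frame k s)

theorem mem_conj_centralizer {c h : G} {g : G} (hh : h * c * h⁻¹ = s) (hg : g * c = c * g) :
    ∃ a < 192, h * g * h⁻¹ = F.el a := by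
  obtain ⟨a, ha, hae⟩ := F.exists_code (g := h * g * h⁻¹) (by
    rw [← hh]
    calc h * g * h⁻¹ * (h * c * h⁻¹) = h * (g * c) * h⁻¹ := by group
      _ = h * (c * g) * h⁻¹ := by rw [hg]
      _ = h * c * h⁻¹ * (h * g * h⁻¹) := by group)
  exact ⟨a, ha, hae.symm⟩

/-- The whole fusion lies in a normal subgroup `2³` with quotient of order 168. -/
theorem normal_eight {El : List ℕ} (hok : eightOK k El = true) {e : ℕ} {g : G} (he : e ∈ El)
    (hes : e ≠ sC) (m : F.Mover e g) (hfu : ∀ a, a < 192 → F.Fu a → a ∈ El) :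
    ∃ hcl : closedC k El = true, (F.subC El hcl).Normal ∧ Nat.card G = 1344 ∧
      Subgroup.centralizer ((F.subC El hcl : Subgroup G) : Set G) ≤ F.subC El hcl := by
  simp only [eightOK, Bool.and_eq_true, List.all_eq_true, List.any_eq_true, decide_eq_true_eq,
    List.contains_iff_mem, beq_iff_eq, Nat.beq_eq, Bool.or_eq_true, Bool.not_eq_eq_eq_not,
    Bool.not_true] at hok
  obtain ⟨⟨⟨⟨⟨⟨⟨⟨hcl, hlen⟩, hnd⟩, hsC⟩, hEl⟩, hclass⟩, hcent⟩, hout⟩, hgood⟩ := hok
  refine ⟨hcl, ?_⟩
  obtain ⟨E, hE⟩ : ∃ E, E = F.subC El hcl := ⟨_, rfl⟩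
  rw [← hE]
  have hlt : ∀ a ∈ El, a < 192 := fun a ha => ((closedC_spec hcl).2 a ha).1
  have he0 : e ≠ 0 := fun e' => by
    have := m.move_s
    rw [e', F.el_zero, conj_eq_one_iff] at this
    have h2 := F.orderOf_s
    rw [this, orderOf_one] at h2
    omega
  have hfuEl : ∀ a ∈ El, a ≠ 0 → F.Fu a := fun a ha ha0 => by
    by_cases has : a = sC
    · exact has ▸ F.fu_sC
    · refine F.fu_class hclass (List.mem_filter.2 ⟨he, by simp [he0, hes]⟩)
        (List.mem_filter.2 ⟨ha, by simp [ha0, has]⟩) (isConj_iff.2 ⟨g, m.move_s⟩)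
  have hsE : s ∈ E := hE ▸ ⟨sC, hsC, F.el_sC⟩
  have hEL : ∀ y ∈ E, y * s = s * y := fun y hy =>
    Subgroup.mem_centralizer_singleton_iff.1 (F.subC_le hcl (hE ▸ hy))
  have hEcases : ∀ y ∈ E, y ≠ 1 → IsConj s y := by
    intro y hy hy1
    rw [hE] at hy
    obtain ⟨a, ha, rfl⟩ := hy
    exact hfuEl a ha fun e' => hy1 (e' ▸ F.el_zero)
  have hfuE : ∀ y : G, IsConj s y → y * s = s * y → y ∈ E := by
    intro y hy hys
    obtain ⟨a, ha, rfl⟩ := F.exists_code hys
    exact hE ▸ ⟨a, hfu a ha hy, rfl⟩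
  -- the normaliser
  obtain ⟨H, hH⟩ : ∃ H : Subgroup G, H = Subgroup.normalizer (E : Set G) := ⟨_, rfl⟩
  have hmemH : ∀ n : G, (∀ y ∈ E, n * y * n⁻¹ ∈ E) → n ∈ H := fun n hn =>
    hH ▸ Subgroup.mem_normalizer_fintype hn
  have hconjE : ∀ n ∈ H, ∀ y ∈ E, n * y * n⁻¹ ∈ E := fun n hn y hy =>
    (Subgroup.mem_normalizer_iff.1 (hH ▸ hn) y).1 hy
  have hLH : ∀ l : G, l * s = s * l → l ∈ H := by
    intro l hl
    obtain ⟨a, ha, rfl⟩ := F.exists_code hl
    refine hmemH _ fun y hy => ?_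
    rw [hE] at hy ⊢
    obtain ⟨b, hb, rfl⟩ := hy
    exact ⟨_, (hEl b hb).2 a (mem_codes.2 ha), F.el_conC ha (hlt b hb)⟩
  have hEcomm : ∀ y ∈ E, ∀ z ∈ E, y * z = z * y := by
    intro y hy z hz
    rw [hE] at hy hz
    obtain ⟨a, ha, rfl⟩ := hy
    obtain ⟨b, hb, rfl⟩ := hz
    exact (F.mul_comm_iff (hlt a ha) (hlt b hb)).2 ((hEl a ha).1.2 b hb)
  have hgH : g ∈ H := by
    refine hmemH _ fun y hy => ?_
    by_cases hy1 : y = 1
    · rw [hy1, mul_one, mul_inv_cancel]; exact one_mem _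
    refine hfuE _ ((hEcases y hy hy1).trans (isConj_iff.2 ⟨g, rfl⟩)) ?_
    have hye : Commute y (s * F.el e) :=
      (show Commute y s from hEL y hy).mul_right (hEcomm y hy _ (hE ▸ ⟨e, he, rfl⟩))
    have h1 := (Commute.conj_iff g).2 hye
    rwa [m.move_se] at h1
  -- transitivity on the involutions of `E`
  have htrans : ∀ y ∈ E, y ≠ 1 → ∃ n ∈ H, n * s * n⁻¹ = y := by
    intro y hy hy1
    rw [hE] at hy
    obtain ⟨a, ha, rfl⟩ := hy
    have ha0 : a ≠ 0 := fun e' => hy1 (e' ▸ F.el_zero)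
    by_cases has : a = sC
    · exact ⟨1, one_mem _, by rw [has, F.el_sC]; group⟩
    obtain ⟨c0, hc0⟩ : ∃ c0, c0 = (El.filter fun a => !(a == 0 || a == sC)).headD 0 := ⟨_, rfl⟩
    have hcl' := hclass
    simp only [classOK, List.all_eq_true, Bool.and_eq_true, decide_eq_true_eq, List.any_eq_true,
      beq_iff_eq, ← hc0] at hcl'
    obtain ⟨-, n₁, hn₁, hn₁e⟩ := hcl' e (List.mem_filter.2 ⟨he, by simp [he0, hes]⟩)
    obtain ⟨-, n₂, hn₂, hn₂a⟩ := hcl' a (List.mem_filter.2 ⟨ha, by simp [ha0, has]⟩)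
    have hc0' : c0 < 192 := by
      have hm : c0 ∈ El.filter fun a => !(a == 0 || a == sC) := by
        rw [hc0]
        cases hl : El.filter fun a => !(a == 0 || a == sC) with
        | nil =>
          have : e ∈ El.filter fun a => !(a == 0 || a == sC) := List.mem_filter.2 ⟨he, by simp [he0, hes]⟩
          rw [hl] at this
          simp at this
        | cons c t => simp
      exact hlt _ (List.mem_filter.1 hm).1
    refine ⟨F.el n₂ * (F.el n₁)⁻¹ * g, mul_mem (mul_mem (hLH _ (F.commute (mem_codes.1 hn₂)))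
      (inv_mem (hLH _ (F.commute (mem_codes.1 hn₁))))) hgH, ?_⟩
    rw [← hn₂a, F.el_conC (mem_codes.1 hn₂) hc0']
    calc F.el n₂ * (F.el n₁)⁻¹ * g * s * (F.el n₂ * (F.el n₁)⁻¹ * g)⁻¹
        = F.el n₂ * ((F.el n₁)⁻¹ * (g * s * g⁻¹) * F.el n₁) * (F.el n₂)⁻¹ := by group
      _ = F.el n₂ * F.el c0 * (F.el n₂)⁻¹ := by
          rw [m.move_s, ← hn₁e, F.el_conC (mem_codes.1 hn₁) hc0']
          group
  have hCE : ∀ y ∈ E, y ≠ 1 → ∀ n : G, n * y = y * n → n ∈ H := by
    intro y hy hy1 n hn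
    obtain ⟨h, hh, hhy⟩ := htrans y hy hy1
    have hcomm : (h⁻¹ * n * h) * s = s * (h⁻¹ * n * h) := by
      calc (h⁻¹ * n * h) * s = h⁻¹ * (n * (h * s * h⁻¹)) * h := by group
        _ = h⁻¹ * ((h * s * h⁻¹) * n) * h := by rw [hhy, hn]
        _ = s * (h⁻¹ * n * h) := by group
    have := mul_mem (mul_mem hh (hLH _ hcomm)) (inv_mem hh)
    simpa [mul_assoc] using this
  -- involutions of `H` are conjugate in `H` into the Sylow subgroup
  obtain ⟨S, hS⟩ := F.exists_sylow
  have hSH : (S : Subgroup G) ≤ H := by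
    rw [hS]
    exact fun y hy => hLH y (Subgroup.mem_centralizer_singleton_iff.1 (F.subC_le _ hy))
  haveI : Fact (Nat.Prime 2) := ⟨Nat.prime_two⟩
  have hinto : ∀ y ∈ H, orderOf y = 2 → ∃ h ∈ H, ∃ a < 192, h * y * h⁻¹ = F.el a := by
    intro y hy hy2
    obtain ⟨R, hR⟩ := (IsPGroup.of_card (p := 2) (n := 1)
      (show Nat.card (Subgroup.zpowers (⟨y, hy⟩ : H)) = 2 ^ 1 by
        rw [Nat.card_zpowers, Subgroup.orderOf_mk, hy2, pow_one])).exists_le_sylow
    obtain ⟨h, hh⟩ := MulAction.exists_smul_eq H R (S.subtype hSH)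
    have hm : h * ⟨y, hy⟩ * h⁻¹ ∈ ((S.subtype hSH : Sylow 2 H) : Subgroup H) := by
      rw [← hh, Sylow.coe_subgroup_smul]
      exact ⟨⟨y, hy⟩, hR (Subgroup.mem_zpowers _), rfl⟩
    rw [Sylow.coe_subtype, Subgroup.mem_subgroupOf, hS] at hm
    obtain ⟨a, ha, hae⟩ := hm
    exact ⟨h, h.2, a, ((closedC_spec F.syl_closed.1).2 a ha).1, by simpa using hae.symm⟩
  have hfuH : ∀ y ∈ H, IsConj s y → y ∈ E := by
    intro y hy hsy
    have hy2 : orderOf y = 2 := by
      obtain ⟨c, rfl⟩ := isConj_iff.1 hsy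
      rw [CfsgLib.Small.orderOf_conj_eq, F.orderOf_s]
    obtain ⟨h, hh, a, ha, hae⟩ := hinto y hy hy2
    have hm : F.el a ∈ E := hfuE _ (hsy.trans (isConj_iff.2 ⟨h, hae⟩)) (F.commute ha)
    rw [← hae] at hm
    have := hconjE h⁻¹ (inv_mem hh) _ hm
    simpa [mul_assoc] using this
  -- centralisers of involutions of `H`
  have hgoodC : ∀ w < 192, goodC k El w = true →
      ∀ n : G, n * F.el w = F.el w * n → n * s = s * n := by
    intro w hw hwg
    obtain ⟨⟨hf1, hf2⟩, hf3⟩ := (hgood w (mem_codes.2 hw)).resolve_left (by simp [hwg])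
    simp only [goodC, Bool.and_eq_true, List.any_eq_true, beq_iff_eq, Bool.not_eq_eq_eq_not,
      Bool.not_true, List.contains_eq_mem, decide_eq_false_iff_not] at hwg
    obtain ⟨⟨hw2, -⟩, z, hz, hzw⟩ := hwg
    let C := Subgroup.centralizer ({F.el w} : Set G)
    have hC : ∀ n : G, n ∈ C ↔ n * F.el w = F.el w * n := fun n =>
      Subgroup.mem_centralizer_singleton_iff
    have hHC : ∀ n ∈ H, n ∈ C → n * s = s * n := by
      intro n hn hnC
      have hzE : F.el z ∈ E := hE ▸ ⟨z, hz, rfl⟩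
      have key : ∀ y ∈ E, F.el w * y * (F.el w)⁻¹ = y ∨ F.el w * y * (F.el w)⁻¹ = s * y := by
        intro y hy
        rw [hE] at hy
        obtain ⟨b, hb, rfl⟩ := hy
        rw [← F.el_conC hw (hlt b hb)]
        rcases hf1 b hb with e' | e'
        · exact Or.inl (by rw [e'])
        · exact Or.inr (by rw [e', F.mul _ (by norm_num) b (hlt b hb), F.el_sC])
      have hnw : n * F.el w = F.el w * n := (hC n).1 hnC
      have hwz : F.el w * F.el z * (F.el w)⁻¹ = s * F.el z := by
        rw [← F.el_conC hw (hlt z hz), hzw, F.mul _ (by norm_num) z (hlt z hz), F.el_sC]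
      have e1 : F.el w * (n * F.el z * n⁻¹) * (F.el w)⁻¹ = n * s * n⁻¹ * (n * F.el z * n⁻¹) := by
        calc F.el w * (n * F.el z * n⁻¹) * (F.el w)⁻¹
            = (F.el w * n) * F.el z * (F.el w * n)⁻¹ := by group
          _ = (n * F.el w) * F.el z * (n * F.el w)⁻¹ := by rw [hnw]
          _ = n * (F.el w * F.el z * (F.el w)⁻¹) * n⁻¹ := by group
          _ = n * s * n⁻¹ * (n * F.el z * n⁻¹) := by rw [hwz]; group
      rcases key _ (hconjE n hn _ hzE) with e' | e' <;> rw [e1] at e'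
      · have hs1 := conj_eq_one_iff.1 (mul_eq_right.1 e')
        have h2 := F.orderOf_s
        rw [hs1, orderOf_one] at h2
        omega
      · exact mul_inv_eq_iff_eq_mul.1 (mul_right_cancel e')
    -- the 2-group `C ∩ C(s)`
    let T := C ⊓ Subgroup.centralizer ({s} : Set G)
    have hT : ∀ n : G, n ∈ T ↔ ∃ b ∈ centC k w, F.el b = n := by
      intro n
      constructor
      · rintro ⟨h1, h2⟩
        obtain ⟨b, hb, rfl⟩ := F.exists_code (Subgroup.mem_centralizer_singleton_iff.1 h2)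
        exact ⟨b, List.mem_filter.2 ⟨mem_codes.2 hb,
          beq_iff_eq.2 ((F.mul_comm_iff hb hw).1 ((hC _).1 h1))⟩, rfl⟩
      · rintro ⟨b, hb, rfl⟩
        obtain ⟨hb1, hb2⟩ := List.mem_filter.1 hb
        exact ⟨(hC _).2 ((F.mul_comm_iff (mem_codes.1 hb1) hw).2 (beq_iff_eq.1 hb2)),
          Subgroup.mem_centralizer_singleton_iff.2 (F.commute (mem_codes.1 hb1))⟩
    have hTp : IsPGroup 2 T := by
      rw [IsPGroup]
      rintro ⟨n, hn⟩
      obtain ⟨b, hb, rfl⟩ := (hT n).1 hn
      refine ⟨5, Subtype.ext ?_⟩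
      have hit : ∀ j, F.el (Nat.iterate (fun c => mulC k c c) j b) = F.el b ^ 2 ^ j ∧
          Nat.iterate (fun c => mulC k c c) j b < 192 := by
        intro j
        induction j with
        | zero => exact ⟨(pow_one _).symm, mem_codes.1 (List.mem_filter.1 hb).1⟩
        | succ j ih =>
          rw [Function.iterate_succ', Function.comp_apply]
          refine ⟨?_, mulC_lt _ _ _⟩
          rw [F.mul _ ih.2 _ ih.2, ih.1, ← pow_add, pow_succ, mul_two]
      have h5 := (hit 5).1
      rw [hf2 b hb, F.el_zero] at h5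
      exact h5.symm
    have hsC' : s ∈ C := (hC s).2 (F.commute hw).symm
    have hfix : ∀ v ∈ E, v ∈ C → v ≠ 1 → (∀ n ∈ T, n * v = v * n) → v = s := by
      intro v hv _ hv1 hvc
      rw [hE] at hv
      obtain ⟨b, hb, rfl⟩ := hv
      rcases hf3 b hb with e' | e'
      · exfalso
        rw [List.all_eq_false] at e'
        obtain ⟨c, hc, hne⟩ := e'
        exact hne (beq_iff_eq.2 ((F.mul_comm_iff (hlt b hb) (mem_codes.1 (List.mem_filter.1 hc).1)).1
          (hvc _ ((hT _).2 ⟨c, hc, rfl⟩)).symm))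
      · rcases e' with rfl | rfl
        · exact absurd F.el_zero hv1
        · exact F.el_sC
    -- `T` is a Sylow subgroup of `C`
    obtain ⟨R, hR⟩ := (hTp.comap_of_injective C.subtype C.subtype_injective).exists_le_sylow
    have hRT : (R : Subgroup C) = T.comap C.subtype := by
      refine le_antisymm ?_ hR
      by_contra hlt'
      haveI : Group.IsNilpotent (R : Subgroup C) := R.2.isNilpotent
      have hne : (T.comap C.subtype).subgroupOf (R : Subgroup C) ≠ ⊤ :=
        fun e' => hlt' (Subgroup.subgroupOf_eq_top.1 e')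
      obtain ⟨n, hnN, hnT⟩ := SetLike.exists_of_lt
        (Group.normalizerCondition_of_isNilpotent _ (lt_top_iff_ne_top.2 hne))
      refine hnT (Subgroup.mem_subgroupOf.2 ⟨n.1.2, ?_⟩)
      obtain ⟨N, hN⟩ : ∃ N : G, N = ((n : C) : G) := ⟨_, rfl⟩
      have hmem : ∀ y ∈ T, N * y * N⁻¹ ∈ T ∧ N⁻¹ * y * N ∈ T := by
        intro y hy
        have hy' : (⟨⟨y, hy.1⟩, hR hy⟩ : (R : Subgroup C)) ∈
            (T.comap C.subtype).subgroupOf (R : Subgroup C) := Subgroup.mem_subgroupOf.2 hy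
        rw [hN]
        exact ⟨(Subgroup.mem_normalizer_iff.1 hnN _).1 hy', (Subgroup.mem_normalizer_iff''.1 hnN _).1 hy'⟩
      have hsT : s ∈ T := ⟨hsC', Subgroup.mem_centralizer_singleton_iff.2 rfl⟩
      have hv := (hmem s hsT).1
      have hvE : N * s * N⁻¹ ∈ E := hfuE _ (isConj_iff.2 ⟨N, rfl⟩)
        (Subgroup.mem_centralizer_singleton_iff.1 hv.2)
      have hv1 : N * s * N⁻¹ ≠ 1 := fun e' => by
        have h2 := F.orderOf_s
        rw [conj_eq_one_iff.1 e', orderOf_one] at h2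
        omega
      have he' := hfix _ hvE hv.1 hv1 fun y hy => by
        have h1 : Commute (N⁻¹ * y * N) s :=
          Subgroup.mem_centralizer_singleton_iff.1 ((hmem y hy).2).2
        have h2 := (Commute.conj_iff N).2 h1
        have h3 : N * (N⁻¹ * y * N) * N⁻¹ = y := by group
        rw [h3] at h2
        exact h2.eq
      show ((n : C) : G) ∈ Subgroup.centralizer ({s} : Set G)
      rw [← hN]
      exact Subgroup.mem_centralizer_singleton_iff.2 (mul_inv_eq_iff_eq_mul.1 he')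
    -- isolation and `Z*`
    have hiso : ∀ n : C, n * ⟨s, hsC'⟩ * n⁻¹ ∈ (R : Subgroup C) → n * ⟨s, hsC'⟩ * n⁻¹ = ⟨s, hsC'⟩ := by
      intro n hn
      rw [hRT] at hn
      have hn' : (n : G) * s * (n : G)⁻¹ ∈ T := hn
      refine Subtype.ext ?_
      show (n : G) * s * (n : G)⁻¹ = s
      have hvE : (n : G) * s * (n : G)⁻¹ ∈ E := hfuE _ (isConj_iff.2 ⟨n, rfl⟩)
        (Subgroup.mem_centralizer_singleton_iff.1 hn'.2)
      have hv1 : (n : G) * s * (n : G)⁻¹ ≠ 1 := fun e' => by
        have h2 := F.orderOf_s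
        rw [conj_eq_one_iff.1 e', orderOf_one] at h2
        omega
      -- the conjugate of `T` centralises the new point
      have hsub : ∀ y ∈ T, (n : G) * y * (n : G)⁻¹ ∈ T ∧
          Commute ((n : G) * y * (n : G)⁻¹) ((n : G) * s * (n : G)⁻¹) := by
        intro y hy
        have hys : Commute y s := Subgroup.mem_centralizer_singleton_iff.1 hy.2
        have hc := (Commute.conj_iff (n : G)).2 hys
        have hyC : (n : G) * y * (n : G)⁻¹ ∈ C := C.mul_mem (C.mul_mem n.2 hy.1) (C.inv_mem n.2)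
        exact ⟨⟨hyC, Subgroup.mem_centralizer_singleton_iff.2 (hHC _ (hCE _ hvE hv1 _ hc.eq) hyC)⟩, hc⟩
      refine hfix _ hvE hn'.1 hv1 fun y hy => ?_
      obtain ⟨y', hy'⟩ := Finite.surjective_of_injective
        (f := fun z : T => (⟨(n : G) * z * (n : G)⁻¹, (hsub z z.2).1⟩ : T))
        (fun a b hab => Subtype.ext (mul_left_cancel (mul_right_cancel (congrArg Subtype.val hab))))
        ⟨y, hy⟩
      have h1 := (hsub y' y'.2).2
      rw [show (n : G) * y' * (n : G)⁻¹ = y from congrArg Subtype.val hy'] at h1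
      exact h1.eq
    obtain ⟨N, hNn, hNodd, hNc⟩ := Cfsg.Agent.S0215.result R ⟨s, hsC'⟩
      (by rw [Subgroup.orderOf_mk, F.orderOf_s])
      (by show _ ∈ (R : Subgroup C)
          rw [hRT]; exact ⟨hsC', Subgroup.mem_centralizer_singleton_iff.2 rfl⟩) hiso
    haveI := hNn
    have hfree : ∀ v ∈ E, v ≠ 1 → ∀ y ∈ N, (y : G) * v = v * y → y = 1 := by
      intro v hv hv1 y hy hyv
      have h2 : (y : G) ∈ T := ⟨y.2, Subgroup.mem_centralizer_singleton_iff.2
        (hHC _ (hCE v hv hv1 _ hyv) y.2)⟩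
      exact CfsgLib.LargeExtraspecial.eq_one_of_two_of_odd (hTp.comap_of_injective C.subtype C.subtype_injective)
        hNodd h2 hy
    -- a second point of the fixed four group
    obtain ⟨v, hvE, hvC, hv1, hvs⟩ : ∃ v ∈ E, v ∈ C ∧ v ≠ 1 ∧ v ≠ s := by
      by_contra! hh
      have h1 : ∀ y ∈ E, y = 1 ∨ y = s ∨ y = F.el z ∨ y = s * F.el z := by
        intro y hy
        have hwz : F.el w * F.el z * (F.el w)⁻¹ = s * F.el z := by
          rw [← F.el_conC hw (hlt z hz), hzw, F.mul _ (by norm_num) z (hlt z hz), F.el_sC]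
        have hzE : F.el z ∈ E := hE ▸ ⟨z, hz, rfl⟩
        have hfixd : ∀ u ∈ E, F.el w * u * (F.el w)⁻¹ = u → u = 1 ∨ u = s := fun u hu he' => by
          by_cases hu1 : u = 1
          · exact Or.inl hu1
          · exact Or.inr (hh u hu ((hC u).2 (mul_inv_eq_iff_eq_mul.1 he').symm) hu1)
        have hyb : F.el w * y * (F.el w)⁻¹ = y ∨ F.el w * y * (F.el w)⁻¹ = s * y := by
          rw [hE] at hy
          obtain ⟨b, hb, rfl⟩ := hy
          rw [← F.el_conC hw (hlt b hb)]
          rcases hf1 b hb with e' | e'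
          · exact Or.inl (by rw [e'])
          · exact Or.inr (by rw [e', F.mul _ (by norm_num) b (hlt b hb), F.el_sC])
        rcases hyb with e' | e'
        · rcases hfixd y hy e' with r | r
          · exact Or.inl r
          · exact Or.inr (Or.inl r)
        · have hzz : F.el z * F.el z = 1 := (F.mul_self_iff (hlt z hz)).2 (hEl z hz).1.1
          have e2 : F.el w * (y * F.el z) * (F.el w)⁻¹ = y * F.el z := by
            rw [show F.el w * (y * F.el z) * (F.el w)⁻¹
              = (F.el w * y * (F.el w)⁻¹) * (F.el w * F.el z * (F.el w)⁻¹) by group, e', hwz,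
              mul_assoc, ← mul_assoc y s, hEL y hy, mul_assoc s y, ← mul_assoc s s, F.s_sq, one_mul]
          rcases hfixd _ (mul_mem hy hzE) e2 with r | r
          · refine Or.inr (Or.inr (Or.inl ?_))
            rw [eq_inv_of_mul_eq_one_left r, inv_eq_of_mul_eq_one_right hzz]
          · refine Or.inr (Or.inr (Or.inr ?_))
            calc y = y * F.el z * F.el z := by rw [mul_assoc, hzz, mul_one]
              _ = s * F.el z := by rw [r]
      classical
      have hle : Nat.card E ≤ ({1, s, F.el z, s * F.el z} : Finset G).card := by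
        rw [← Nat.card_eq_finsetCard]
        exact Nat.card_le_card_of_injective (fun y : E => (⟨(y : G), by
          rcases h1 y y.2 with r | r | r | r <;> simp [r]⟩ : ({1, s, F.el z, s * F.el z} : Finset G)))
          fun a b hab => Subtype.ext (congrArg (fun t : ({1, s, F.el z, s * F.el z} : Finset G) => (t : G)) hab)
      have := hle.trans Finset.card_le_four
      rw [hE, F.card_subC _ hnd, hlen] at this
      omega
    have hinv : ∀ u (hu : u ∈ E) (huC : u ∈ C), u ≠ 1 → ∀ y ∈ N,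
        (⟨u, huC⟩ : C) * y * (⟨u, huC⟩ : C)⁻¹ = y⁻¹ := by
      intro u hu huC hu1 y hy
      have hu2 : orderOf (⟨u, huC⟩ : C) = 2 := by
        rw [Subgroup.orderOf_mk]
        obtain ⟨c, hc⟩ := isConj_iff.1 (hEcases u hu hu1)
        rw [← hc, CfsgLib.Small.orderOf_conj_eq, F.orderOf_s]
      exact conj_eq_inv_of_fixedPointFree hu2 (by rw [Subgroup.normalizer_eq_top]; exact Subgroup.mem_top _)
        (fun y' hy' hc => hfree u hu hu1 y' hy' (congrArg Subtype.val hc)) hy
    have hN1 : ∀ y ∈ N, y = 1 := by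
      intro y hy
      have hsv : s * v ∈ E := mul_mem hsE hvE
      have hsv1 : s * v ≠ 1 := fun e' => hvs (by
        rw [eq_inv_of_mul_eq_one_right e', inv_eq_of_mul_eq_one_right F.s_sq])
      refine hfree (s * v) hsv hsv1 y hy ?_
      have h1 := hinv (s * v) hsv (C.mul_mem hsC' hvC) hsv1 y hy
      have h2 : (⟨s, hsC'⟩ : C) * ((⟨v, hvC⟩ : C) * y * (⟨v, hvC⟩ : C)⁻¹) * (⟨s, hsC'⟩ : C)⁻¹ = y⁻¹ := by
        rw [← h1, show (⟨s * v, C.mul_mem hsC' hvC⟩ : C) = ⟨s, hsC'⟩ * ⟨v, hvC⟩ from rfl]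
        group
      rw [hinv v hvE hvC hv1 y hy, hinv s hsE hsC'
        (fun e' => by have h2 := F.orderOf_s; rw [e', orderOf_one] at h2; omega) _ (inv_mem hy),
        inv_inv] at h2
      rw [← h2] at h1
      exact (congrArg Subtype.val (mul_inv_eq_iff_eq_mul.1 h1)).symm
    intro n hn
    have hc := congrArg Subtype.val (hN1 _ (hNc ⟨n, (hC n).2 hn⟩))
    simp only [Subgroup.coe_mul, Subgroup.coe_inv, Subgroup.coe_one] at hc
    exact (mul_inv_eq_iff_eq_mul.1 (mul_inv_eq_one.1 hc)).symm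
  have hCH : ∀ u ∈ H, orderOf u = 2 → ∀ n : G, n * u = u * n → n ∈ H := by
    intro u hu hu2 n hn
    by_cases huE : u ∈ E
    · exact hCE u huE (fun e' => by rw [e', orderOf_one] at hu2; omega) n hn
    -- a moved point and the commutator
    obtain ⟨z, hzE, hzu⟩ : ∃ z ∈ E, u * z ≠ z * u := by
      by_contra! hh
      obtain ⟨a, ha, rfl⟩ := F.exists_code (hh s hsE)
      refine huE (hE ▸ ⟨a, (hcent a (mem_codes.2 ha)).resolve_left fun hf => ?_, rfl⟩)
      rw [List.all_eq_false] at hf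
      obtain ⟨b, hb, hne⟩ := hf
      exact hne (beq_iff_eq.2 ((F.mul_comm_iff ha (hlt b hb)).1 (hh _ (hE ▸ ⟨b, hb, rfl⟩))))
    have huu : u * u = 1 := CfsgLib.Small.mul_self_of_orderOf_two hu2
    have hui : u⁻¹ = u := inv_eq_of_mul_eq_one_right huu
    have hzz : z * z = 1 := by
      rw [hE] at hzE
      obtain ⟨a, ha, rfl⟩ := hzE
      exact (F.mul_self_iff (hlt a ha)).2 (hEl a ha).1.1
    obtain ⟨c, hc⟩ : ∃ c, c = u * z * u⁻¹ * z := ⟨_, rfl⟩
    have hcE : c ∈ E := hc ▸ mul_mem (hconjE u hu z hzE) hzE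
    have hc1 : c ≠ 1 := fun e' => hzu (by
      rw [hc] at e'
      have h1 := eq_inv_of_mul_eq_one_left e'
      rw [inv_eq_of_mul_eq_one_right hzz, mul_inv_eq_iff_eq_mul] at h1
      exact h1)
    obtain ⟨h₀, hh₀, hh₀c⟩ := htrans c hcE hc1
    obtain ⟨h, hhd⟩ : ∃ h, h = h₀⁻¹ := ⟨_, rfl⟩
    have hh : h ∈ H := hhd ▸ inv_mem hh₀
    have hhc : h * c * h⁻¹ = s := by rw [hhd, ← hh₀c]; group
    have huc : u * c = c * u := by
      have hcomm := hEcomm _ (hconjE u hu z hzE) z hzE
      calc u * c = u * u * z * u⁻¹ * z := by rw [hc]; group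
        _ = z * (u * z) := by rw [huu, hui, one_mul, mul_assoc]
        _ = z * (u * z * u⁻¹) * u := by group
        _ = (u * z * u⁻¹) * z * u := by rw [← hcomm]
        _ = c * u := by rw [hc]
    obtain ⟨w, hw, hwu⟩ := F.mem_conj_centralizer hhc huc
    have hwg : goodC k El w = true := by
      have hzE' := hconjE h hh z hzE
      rw [hE] at hzE'
      obtain ⟨z', hz', hz'e⟩ := hzE'
      simp only [goodC, Bool.and_eq_true, List.any_eq_true, beq_iff_eq, Bool.not_eq_eq_eq_not,
        Bool.not_true, List.contains_eq_mem, decide_eq_false_iff_not]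
      refine ⟨⟨(F.mul_self_iff hw).1 ?_, fun hwEl => huE ?_⟩, z', hz', ?_⟩
      · rw [← hwu, show h * u * h⁻¹ * (h * u * h⁻¹) = h * (u * u) * h⁻¹ by group, huu]; group
      · have := hconjE h⁻¹ (inv_mem hh) (h * u * h⁻¹) (hwu ▸ hE ▸ ⟨w, hwEl, rfl⟩)
        simpa [mul_assoc] using this
      · refine F.inj _ (conC_lt _ _ _) _ (mulC_lt _ _ _) ?_
        rw [F.el_conC hw (hlt z' hz'), F.mul _ (by norm_num) z' (hlt z' hz'), F.el_sC, ← hwu, hz'e,
          ← hhc, hc]
        calc h * u * h⁻¹ * (h * z * h⁻¹) * (h * u * h⁻¹)⁻¹ = h * (u * z * u⁻¹ * (z * z)) * h⁻¹ := by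
              rw [hzz, mul_one]; group
          _ = _ := by group
    have h1 := hgoodC w hw hwg (h * n * h⁻¹) (by
      rw [← hwu]
      calc h * n * h⁻¹ * (h * u * h⁻¹) = h * (n * u) * h⁻¹ := by group
        _ = h * (u * n) * h⁻¹ := by rw [hn]
        _ = h * u * h⁻¹ * (h * n * h⁻¹) := by group)
    have := mul_mem (mul_mem (inv_mem hh) (hLH _ h1)) hh
    simpa [mul_assoc] using this
  -- every conjugate of `s` lies in `E`
  have hall : ∀ y : G, IsConj s y → y ∈ E := by
    intro y hy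
    by_cases hyH : y ∈ H
    · exact hfuH y hyH hy
    exfalso
    obtain ⟨a, ha, ⟨ha2, haEl⟩, -⟩ := hout
    have ha' := mem_codes.1 ha
    have haEl' : a ∉ El := by simpa using haEl
    have haH : F.el a ∈ H := hLH _ (F.commute ha')
    have hau : orderOf (F.el a) = 2 := by
      haveI : Fact (Nat.Prime 2) := ⟨Nat.prime_two⟩
      refine orderOf_eq_prime (by rw [sq]; exact (F.mul_self_iff ha').2 ha2) fun e' => ?_
      exact haEl' (F.inj a ha' 0 (by norm_num) (e'.trans F.el_zero.symm) ▸ (closedC_spec hcl).1)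
    have hy2 : orderOf y = 2 := by
      obtain ⟨c, rfl⟩ := isConj_iff.1 hy
      rw [CfsgLib.Small.orderOf_conj_eq, F.orderOf_s]
    rcases conj_or_common hau hy2 with hconj | ⟨z, hz2, hza, hzy⟩
    · exact haEl' (hfu a ha' (hy.trans hconj.symm))
    · exact hyH (hCH z (hCH _ haH hau z hza) hz2 y hzy.symm)
  have hnorm : E.Normal := by
    refine ⟨fun y hy n => ?_⟩
    by_cases hy1 : y = 1
    · rw [hy1, mul_one, mul_inv_cancel]; exact one_mem _
    · exact hall _ ((hEcases y hy hy1).trans (isConj_iff.2 ⟨n, rfl⟩))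
  refine ⟨hnorm, ?_, fun n hn => ?_⟩
  · have hcnt := CfsgLib.Small.card_conjugates_mul_card_centralizer s
    rw [F.card_centralizer] at hcnt
    have hcongr : Nat.card {y : G // IsConj s y} = Nat.card {y : E // (y : G) ≠ 1} := by
      refine Nat.card_congr
        { toFun := fun y => ⟨⟨y, hall y y.2⟩, fun e' => by
            obtain ⟨c, hc⟩ := isConj_iff.1 y.2
            have h2 := F.orderOf_s
            rw [e', conj_eq_one_iff] at hc
            rw [hc, orderOf_one] at h2
            omega⟩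
          invFun := fun y => ⟨y.1, hEcases y.1 y.1.2 y.2⟩
          left_inv := fun y => rfl
          right_inv := fun y => rfl }
    have h7 : Nat.card {y : E // (y : G) ≠ 1} = 7 := by
      classical
      haveI := Fintype.ofFinite E
      rw [Nat.card_eq_fintype_card, Fintype.card_subtype_compl]
      have he1 : Fintype.card {y : E // (y : G) = 1} = 1 :=
        Fintype.card_eq_one_iff.2 ⟨⟨1, rfl⟩, fun y => Subtype.ext (Subtype.ext y.2)⟩
      have hEc : Nat.card E = 8 := by rw [hE, F.card_subC _ hnd, hlen]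
      rw [Nat.card_eq_fintype_card] at hEc
      rw [he1, hEc]
    rw [hcongr, h7] at hcnt
    omega
  · obtain ⟨a, ha, rfl⟩ := F.exists_code (g := n) (Subgroup.mem_centralizer_iff.1 hn s hsE).symm
    refine hE ▸ ⟨a, (hcent a (mem_codes.2 ha)).resolve_left fun hf => ?_, rfl⟩
    rw [List.all_eq_false] at hf
    obtain ⟨b, hb, hne⟩ := hf
    exact hne (beq_iff_eq.2 ((F.mul_comm_iff ha (hlt b hb)).1
      (Subgroup.mem_centralizer_iff.1 hn _ (hE ▸ ⟨b, hb, rfl⟩)).symm))

end Frame

end CfsgLib.ExtraSymThree
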