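import Cfsg.Agent.ExtraSymThree.Quotient

/-!
The classes of involutions of the four models.
-/

set_option autoImplicit false

namespace CfsgLib.ExtraSymThree

/-- The classes in `Q`. -/
def orbQ0 : List ℕ := [30, 60, 90, 126, 156, 186]
/-- The second class in `Q`. -/
def orbQ1 : List ℕ := [36, 66, 78, 132, 162, 174]
/-- The third class in `Q`. -/
def orbQ2 : List ℕ := [42, 54, 84, 138, 150, 180]
/-- The long class in `Q` of the kinds with `k < 2`. -/
def orbQ12 : List ℕ := [36, 42, 54, 66, 78, 84, 132, 138, 150, 162, 174, 180]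
/-- The outer class of kind 0. -/
def orbOut : List ℕ := [1, 3, 5, 7, 17, 21, 25, 31, 53, 65, 75, 93, 97, 99, 101, 103, 113, 117, 121, 127,
  149, 161, 171, 189]
/-- The first outer class of kind 2. -/
def orbA : List ℕ := [1, 3, 5, 31, 39, 47, 57, 65, 67, 83, 85, 93]
/-- The second outer class of kind 2. -/
def orbB : List ℕ := [97, 99, 101, 127, 135, 143, 153, 161, 163, 179, 181, 189]

/-- The normal subgroup on a class. -/
def eightList (l : List ℕ) : List ℕ := [0, sC] ++ l

theorem classes_ok : classOK 0 orbQ0 && classOK 0 orbQ12 && classOK 0 orbOut && classOK 2 orbQ0 &&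
    classOK 2 orbQ1 && classOK 2 orbQ2 && classOK 2 orbA && classOK 2 orbB = true := by
  decide +kernel

theorem cover_zero : (codes.all fun a => !(mulC 0 a a == 0) ||
    (a == 0 || a == sC || orbQ0.contains a || orbQ12.contains a || orbOut.contains a)) = true := by
  decide +kernel

theorem cover_two : (codes.all fun a => !(mulC 2 a a == 0) ||
    (a == 0 || a == sC || orbQ0.contains a || orbQ1.contains a || orbQ2.contains a ||
      orbA.contains a || orbB.contains a)) = true := by
  decide +kernel

theorem eight_zero : eightOK 0 (eightList orbQ0) = true := by decide +kernel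

theorem eight_two : eightOK 2 (eightList orbQ0) && eightOK 2 (eightList orbQ1) &&
    eightOK 2 (eightList orbQ2) = true := by
  decide +kernel

theorem basis_zero : BasisOK 0 (eightList orbQ0) sC 30 60 := by decide +kernel

theorem basis_two : BasisOK 2 (eightList orbQ0) sC 30 60 ∧ BasisOK 2 (eightList orbQ1) sC 36 66 ∧
    BasisOK 2 (eightList orbQ2) sC 42 54 := by decide +kernel

/-- The fused involutions of `Q` have as many square roots as `s` in their centraliser. -/
theorem roots_checks : ((List.range 4).all fun k => (List.range 32).all fun q =>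
    !(mulC k (q * 6) (q * 6) == 0 && !(q == 0 || q == 16) &&
      (Frame.rootsC k (q * 6) sC).length == (Frame.rootsC k (q * 6) (q * 6)).length) ||
    (k == 0 && orbQ0.contains (q * 6) ||
      k == 2 && (orbQ0.contains (q * 6) || orbQ1.contains (q * 6) || orbQ2.contains (q * 6)))) = true := by
  decide +kernel

variable {G : Type*} [Group G] [Finite G] {k : ℕ} {s : G}

/-- A fused involution of `Q` with a mover belongs to kind 0 or 2 and to a class of six. -/
theorem Frame.mover_cases {F : Frame k s} {e : ℕ} {g : G} (m : F.Mover e g) (hes : e ≠ sC) :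
    k = 0 ∧ e ∈ orbQ0 ∨ k = 2 ∧ (e ∈ orbQ0 ∨ e ∈ orbQ1 ∨ e ∈ orbQ2) := by
  have he := m.lt
  have h6 := m.inQ
  obtain ⟨q, rfl⟩ : ∃ q, e = q * 6 := ⟨e / 6, by omega⟩
  have hfu : F.Fu (q * 6) := isConj_iff.2 ⟨g, m.move_s⟩
  obtain ⟨h0, h2⟩ := F.fu_involution he hfu
  have h := List.all_eq_true.1 (List.all_eq_true.1 roots_checks k (List.mem_range.2 F.klt)) q
    (List.mem_range.2 (by omega))
  have hq0 : q ≠ 0 := fun e' => h0 (by omega)
  have hq16 : q ≠ 16 := fun e' => hes (show q * 6 = 96 by omega)
  simp only [h2, beq_self_eq_true, Bool.true_and, beq_eq_false_iff_ne.2 hq0,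
    beq_eq_false_iff_ne.2 hq16, Bool.or_self, Bool.not_false, m.roots_eq,
    Bool.and_self, Bool.not_true, Bool.false_or,
    Bool.or_eq_true, Bool.and_eq_true, beq_iff_eq, List.contains_iff_mem, or_assoc] at h
  exact h

end CfsgLib.ExtraSymThree
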