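import Cfsg.Agent.ExtraSymThree.Quat

/-!
The parametrisation of `Q` by two commuting oriented elements of order 4 and its compatibility with
the product of codes.
-/

set_option autoImplicit false

namespace CfsgLib.ExtraSymThree

/-- The sign of a product of two of `1, i, j, k`. -/
def negB (a b : ℕ) : ℕ := (50848 >>> (a * 4 + b)) % 2

theorem qMul_formula : ((List.range 32).all fun p => (List.range 32).all fun r =>
    (qMul p r == ((p / 16) ^^^ (r / 16) ^^^ negB (p / 4 % 4) (r / 4 % 4) ^^^ negB (p % 4) (r % 4)) * 16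
      + ((p / 4 % 4) ^^^ (r / 4 % 4)) * 4 + ((p % 4) ^^^ (r % 4))) &&
      decide (qMul p r < 32)) = true := by decide +kernel

theorem qMul_eq {p r : ℕ} (hp : p < 32) (hr : r < 32) :
    qMul p r = ((p / 16) ^^^ (r / 16) ^^^ negB (p / 4 % 4) (r / 4 % 4) ^^^ negB (p % 4) (r % 4)) * 16
      + ((p / 4 % 4) ^^^ (r / 4 % 4)) * 4 + ((p % 4) ^^^ (r % 4)) ∧ qMul p r < 32 := by
  have h := List.all_eq_true.1 (List.all_eq_true.1 qMul_formula p (List.mem_range.2 hp)) r
    (List.mem_range.2 hr)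
  rw [Bool.and_eq_true, beq_iff_eq, decide_eq_true_eq] at h
  exact h

theorem field_split : ∀ σ, σ < 2 → ∀ a, a < 4 → ∀ b, b < 4 →
    (σ * 16 + a * 4 + b) / 16 = σ ∧ (σ * 16 + a * 4 + b) / 4 % 4 = a ∧ (σ * 16 + a * 4 + b) % 4 = b := by
  intro σ hσ a ha b hb
  omega

theorem xor_lt_two : ∀ a, a < 2 → ∀ b, b < 2 → a ^^^ b < 2 := by decide

theorem xor_lt_four : ∀ a, a < 4 → ∀ b, b < 4 → a ^^^ b < 4 ∧ negB a b < 2 := by decide

variable {G : Type*} [Group G]

/-- `1, i, j, k` of a quaternion group. -/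
def qElt (u u' : G) : ℕ → G
  | 1 => u
  | 2 => u'
  | 3 => u * u'
  | _ => 1

/-- The element of a code in `Q`. -/
def phiQ (s u u' v v' : G) (q : ℕ) : G := s ^ (q / 16) * qElt u u' (q / 4 % 4) * qElt v v' (q % 4)

theorem pow_xor {s : G} (hs : s * s = 1) {a b : ℕ} (ha : a < 2) (hb : b < 2) :
    s ^ (a ^^^ b) = s ^ a * s ^ b := by
  rcases Nat.le_one_iff_eq_zero_or_eq_one.1 (Nat.lt_succ_iff.1 ha) with rfl | rfl <;>
    rcases Nat.le_one_iff_eq_zero_or_eq_one.1 (Nat.lt_succ_iff.1 hb) with rfl | rfl <;> simp [hs]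

theorem qElt_mul {s u u' : G} (hu : u * u = s) (hu' : u' * u' = s) (hanti : u * u' = s * (u' * u))
    (hs : s * s = 1) (hsu : u * s = s * u) {a b : ℕ} (ha : a < 4)
    (hb : b < 4) : qElt u u' a * qElt u u' b = s ^ negB a b * qElt u u' (a ^^^ b) := by
  have e' : u' * u = s * (u * u') := by rw [hanti, ← mul_assoc, hs, one_mul]
  have w2 : u * u' * (u * u') = s := by
    calc u * u' * (u * u') = u * (u' * u) * u' := by group
      _ = u * (s * (u * u')) * u' := by rw [e']
      _ = (u * s) * u * (u' * u') := by group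
      _ = s * (u * u) * (u' * u') := by rw [hsu]; group
      _ = s := by rw [hu, hu', hs, one_mul]
  interval_cases a <;> interval_cases b <;> simp [negB, qElt, hu, hu', w2, e']
  · -- i k
    rw [← mul_assoc, hu]
  · -- j k
    rw [← mul_assoc, e', mul_assoc, mul_assoc, hu', hsu, ← mul_assoc, hs, one_mul]
  · -- k i
    rw [mul_assoc, e', ← mul_assoc, hsu, mul_assoc, ← mul_assoc u, hu, ← mul_assoc, hs, one_mul]
  · -- k j
    rw [mul_assoc, hu', hsu]

theorem phiQ_mul {s : G} {Q : Subgroup G} {x u v : G} (h : Pre s Q x) (d : Duo s Q x u v) {p r : ℕ}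
    (hp : p < 32) (hr : r < 32) :
    phiQ s u (x * u * x⁻¹) v (x * v * x⁻¹) (qMul p r) =
      phiQ s u (x * u * x⁻¹) v (x * v * x⁻¹) p * phiQ s u (x * u * x⁻¹) v (x * v * x⁻¹) r := by
  obtain ⟨u', hu'⟩ : ∃ u', u' = x * u * x⁻¹ := ⟨_, rfl⟩
  obtain ⟨v', hv'⟩ : ∃ v', v' = x * v * x⁻¹ := ⟨_, rfl⟩
  rw [← hu', ← hv']
  have c00 := d.c00
  have c01 := d.c01
  have c10 := d.c10
  have c11 := d.c11
  rw [← hv'] at c01 c11
  rw [← hu'] at c10 c11
  have hua := hu' ▸ (h.anti d.left.mem d.left.sq).1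
  have hva := hv' ▸ (h.anti d.right.mem d.right.sq).1
  have hu'Q : u' ∈ Q := hu' ▸ h.x_mem u d.left.mem
  have hv'Q : v' ∈ Q := hv' ▸ h.x_mem v d.right.mem
  obtain ⟨e, -⟩ := qMul_eq hp hr
  have h4p : p / 4 % 4 < 4 := Nat.mod_lt _ (by norm_num)
  have h4r : r / 4 % 4 < 4 := Nat.mod_lt _ (by norm_num)
  have h0p : p % 4 < 4 := Nat.mod_lt _ (by norm_num)
  have h0r : r % 4 < 4 := Nat.mod_lt _ (by norm_num)
  obtain ⟨hx4, hn4⟩ := xor_lt_four _ h4p _ h4r
  obtain ⟨hx0, hn0⟩ := xor_lt_four _ h0p _ h0r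
  have hp16 : p / 16 < 2 := by omega
  have hr16 : r / 16 < 2 := by omega
  have hA := xor_lt_two _ hp16 _ hr16
  have hB := xor_lt_two _ hA _ hn4
  have hC := xor_lt_two _ hB _ hn0
  obtain ⟨f1, f2, f3⟩ := field_split _ hC _ hx4 _ hx0
  simp only [phiQ]
  rw [e, f1, f2, f3, pow_xor h.s_sq hB hn0, pow_xor h.s_sq hA hn4, pow_xor h.s_sq hp16 hr16]
  set A := qElt u u' (p / 4 % 4)
  set A' := qElt u u' (r / 4 % 4)
  set B := qElt v v' (p % 4) with hBdef
  set B' := qElt v v' (r % 4)
  have cAB : ∀ a b : ℕ, Commute (qElt u u' a) (qElt v v' b) := by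
    intro a b
    rcases a with _ | _ | _ | _ | a <;> rcases b with _ | _ | _ | _ | b <;>
      simp only [qElt] <;> first
        | exact Commute.one_left _
        | exact Commute.one_right _
        | exact c00
        | exact c01
        | exact c10
        | exact c11
        | exact (show Commute u v from c00).mul_right c01
        | exact (show Commute u' v from c10).mul_right c11
        | exact (show Commute u v from c00).mul_left c10
        | exact (show Commute u v' from c01).mul_left c11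
        | exact ((show Commute u v from c00).mul_left c10).mul_right ((show Commute u v' from c01).mul_left c11)
  have qmem : ∀ a, qElt u u' a ∈ Q ∧ qElt v v' a ∈ Q := by
    intro a
    rcases a with _ | _ | _ | _ | a <;> simp only [qElt] <;>
      refine ⟨?_, ?_⟩ <;> first
        | exact one_mem _
        | exact d.left.mem
        | exact d.right.mem
        | exact hu'Q
        | exact hv'Q
        | exact mul_mem d.left.mem hu'Q
        | exact mul_mem d.right.mem hv'Q
  have hcs : ∀ y ∈ Q, ∀ n : ℕ, Commute y (s ^ n) := fun y hy n =>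
    (show Commute y s from h.s_comm y hy).pow_right n
  have eA := qElt_mul d.left.sq (hu' ▸ h.x_sq d.left.sq) hua h.s_sq (h.s_comm u d.left.mem)
    h4p h4r
  have eB := qElt_mul d.right.sq (hv' ▸ h.x_sq d.right.sq) hva h.s_sq (h.s_comm v d.right.mem)
    h0p h0r
  symm
  calc s ^ (p / 16) * A * B * (s ^ (r / 16) * A' * B')
      = s ^ (p / 16) * ((A * B) * s ^ (r / 16)) * A' * B' := by group
    _ = s ^ (p / 16) * (s ^ (r / 16) * (A * B)) * A' * B' := by
        rw [(hcs _ (mul_mem (qmem _).1 (qmem _).2) _).eq]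
    _ = s ^ (p / 16) * s ^ (r / 16) * (A * (B * A') * B') := by group
    _ = s ^ (p / 16) * s ^ (r / 16) * ((A * A') * (B * B')) := by
        have e0 : B * A' = A' * B := (cAB _ _).symm.eq
        rw [e0]; group
    _ = _ := by
        rw [eA, eB]
        simp only [mul_assoc]
        congr 3
        rw [← mul_assoc, (hcs _ (qmem _).1 _).eq, mul_assoc]

end CfsgLib.ExtraSymThree
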