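import Cfsg.Agent.ExtraSymThree.Model
import Mathlib

/-!
An extraspecial group of order 32 with a fixed-point-free element `x` of order 3: two commuting
quaternion subgroups permuted cyclically by `x`.
-/

set_option autoImplicit false

namespace CfsgLib.ExtraSymThree

variable {G : Type*} [Group G]

/-- The hypotheses on `Q` and `x`. -/
structure Pre (s : G) (Q : Subgroup G) (x : G) : Prop where
  s_sq : s * s = 1
  s_ne : s ≠ 1
  s_mem : s ∈ Q
  s_comm : ∀ q ∈ Q, q * s = s * q
  comm : ∀ q ∈ Q, ∀ r ∈ Q, q * r = r * q ∨ q * r = s * (r * q)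
  sq : ∀ q ∈ Q, q * q = 1 ∨ q * q = s
  card : Nat.card Q = 32
  cube : x * x * x = 1
  x_mem : ∀ q ∈ Q, x * q * x⁻¹ ∈ Q
  x_comm : x * s = s * x
  fix : ∀ q ∈ Q, x * q = q * x → q = 1 ∨ q = s
  center : ∀ q ∈ Q, (∀ r ∈ Q, q * r = r * q) → q = 1 ∨ q = s

/-- An element of order 4 of `Q` in the orientation of `x`. -/
structure Quat (s : G) (Q : Subgroup G) (x u : G) : Prop where
  mem : u ∈ Q
  sq : u * u = s
  turn : x * (x * u * x⁻¹) * x⁻¹ = u * (x * u * x⁻¹)

/-- Two commuting oriented elements. -/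
structure Duo (s : G) (Q : Subgroup G) (x u v : G) : Prop where
  left : Quat s Q x u
  right : Quat s Q x v
  c00 : u * v = v * u
  c01 : u * (x * v * x⁻¹) = (x * v * x⁻¹) * u
  c10 : (x * u * x⁻¹) * v = v * (x * u * x⁻¹)
  c11 : (x * u * x⁻¹) * (x * v * x⁻¹) = (x * v * x⁻¹) * (x * u * x⁻¹)
  v_notMem : v ∉ Subgroup.closure ({u, x * u * x⁻¹} : Set G)

namespace Pre

variable {s : G} {Q : Subgroup G} {x : G}

theorem x_sq_conj (h : Pre s Q x) (q : G) :
    x * (x * (x * q * x⁻¹) * x⁻¹) * x⁻¹ = q := by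
  calc x * (x * (x * q * x⁻¹) * x⁻¹) * x⁻¹ = (x * x * x) * q * (x * x * x)⁻¹ := by group
    _ = q := by rw [h.cube, one_mul, inv_one, mul_one]

theorem conj_s (h : Pre s Q x) : x * s * x⁻¹ = s := by rw [h.x_comm, mul_inv_cancel_right]

theorem x_sq (h : Pre s Q x) {u : G} (hu : u * u = s) : x * u * x⁻¹ * (x * u * x⁻¹) = s := by
  rw [show x * u * x⁻¹ * (x * u * x⁻¹) = x * (u * u) * x⁻¹ by group, hu, h.conj_s]

/-- The three conjugates of an element squaring to `s`. -/
theorem anti (h : Pre s Q x) {u : G} (hu : u ∈ Q) (hu2 : u * u = s) :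
    u * (x * u * x⁻¹) = s * ((x * u * x⁻¹) * u) ∧
      (x * (x * u * x⁻¹) * x⁻¹ = u * (x * u * x⁻¹) ∨
        x * (x * u * x⁻¹) * x⁻¹ = s * (u * (x * u * x⁻¹))) := by
  obtain ⟨b, hb⟩ : ∃ b, b = x * u * x⁻¹ := ⟨_, rfl⟩
  obtain ⟨c, hc⟩ : ∃ c, c = x * b * x⁻¹ := ⟨_, rfl⟩
  rw [← hb, ← hc]
  have hbQ : b ∈ Q := hb ▸ h.x_mem u hu
  have hcQ : c ∈ Q := hc ▸ h.x_mem b hbQ
  have hb2 : b * b = s := hb ▸ h.x_sq hu2
  have hc2 : c * c = s := hc ▸ h.x_sq hb2
  have hcu : x * c * x⁻¹ = u := by rw [hc, hb]; exact h.x_sq_conj u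
  -- the product is fixed by `x`
  obtain ⟨a, ha⟩ : ∃ a, a = u * b * c := ⟨_, rfl⟩
  have haQ : a ∈ Q := ha ▸ mul_mem (mul_mem hu hbQ) hcQ
  have hxa : x * a * x⁻¹ = b * c * u := by
    rw [ha, show x * (u * b * c) * x⁻¹ = (x * u * x⁻¹) * (x * b * x⁻¹) * (x * c * x⁻¹) by group,
      ← hb, ← hc, hcu]
  have ha1 : a = 1 ∨ a = s := by
    refine h.fix a haQ (mul_inv_eq_iff_eq_mul.mp ?_)
    rcases h.comm (b * c) (mul_mem hbQ hcQ) u hu with e | e
    · rw [hxa, e, ha, mul_assoc]
    · exfalso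
      have e1 : x * a * x⁻¹ = s * a := by rw [hxa, e, ha, mul_assoc u b c]
      have e2 : x * (x * (x * a * x⁻¹) * x⁻¹) * x⁻¹ = s * a := by
        have k : x * (s * a) * x⁻¹ = a := by
          rw [show x * (s * a) * x⁻¹ = (x * s * x⁻¹) * (x * a * x⁻¹) by group, h.conj_s, e1,
            ← mul_assoc, h.s_sq, one_mul]
        rw [e1, k, e1]
      rw [h.x_sq_conj] at e2
      exact h.s_ne (mul_eq_right.mp e2.symm)
  have hanti : u * b = s * (b * u) := by
    refine (h.comm u hu b hbQ).resolve_left fun e => ?_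
    have hub2 : u * b * (u * b) = 1 := by
      calc u * b * (u * b) = u * (b * u) * b := by group
        _ = u * (u * b) * b := by rw [e]
        _ = (u * u) * (b * b) := by group
        _ = 1 := by rw [hu2, hb2, h.s_sq]
    have hc1 : c = (u * b) * a := by
      rw [ha, ← mul_assoc, hub2, one_mul]
    apply h.s_ne
    rw [← hc2, hc1]
    have hab : a * (u * b) = (u * b) * a := by
      rcases ha1 with r | r <;> rw [r]
      · rw [one_mul, mul_one]
      · exact (h.s_comm _ (mul_mem hu hbQ)).symm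
    have haa : a * a = 1 := by rcases ha1 with r | r <;> rw [r] <;> [rw [one_mul]; exact h.s_sq]
    calc u * b * a * (u * b * a) = u * b * (a * (u * b)) * a := by group
      _ = (u * b * (u * b)) * (a * a) := by rw [hab]; group
      _ = 1 := by rw [hub2, haa, one_mul]
  refine ⟨hanti, ?_⟩
  have hub : u * b * (u * b) = s := by
    calc u * b * (u * b) = s * (b * u) * (u * b) := by rw [← hanti]
      _ = s * (b * (u * u) * b) := by group
      _ = s * ((b * s) * b) := by rw [hu2]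
      _ = s * (s * (b * b)) := by rw [h.s_comm b hbQ, mul_assoc]
      _ = s := by rw [← mul_assoc, h.s_sq, one_mul, hb2]
  have hinv : u * b = (u * b)⁻¹ * s := by rw [eq_inv_mul_iff_mul_eq, hub]
  rcases ha1 with r | r
  · right
    have hc1 : c = (u * b)⁻¹ := eq_inv_of_mul_eq_one_right (ha ▸ r)
    calc c = (u * b)⁻¹ := hc1
      _ = (u * b)⁻¹ * (s * s) := by rw [h.s_sq, mul_one]
      _ = u * b * s := by rw [← mul_assoc, ← hinv]
      _ = s * (u * b) := h.s_comm _ (mul_mem hu hbQ)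
  · left
    rw [hinv, eq_inv_mul_iff_mul_eq, ← ha, r]

theorem quat_or (h : Pre s Q x) {u : G} (hu : u ∈ Q) (hu2 : u * u = s) :
    Quat s Q x u ∨ Quat s Q x (u * s) := by
  rcases (h.anti hu hu2).2 with e | e
  · exact Or.inl ⟨hu, hu2, e⟩
  · refine Or.inr ⟨mul_mem hu h.s_mem, ?_, ?_⟩
    · calc u * s * (u * s) = u * (s * u) * s := by group
        _ = (u * u) * (s * s) := by rw [← h.s_comm u hu]; group
        _ = s := by rw [hu2, h.s_sq, mul_one]
    · rw [show x * (u * s) * x⁻¹ = (x * u * x⁻¹) * (x * s * x⁻¹) by group, h.conj_s,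
        show x * (x * u * x⁻¹ * s) * x⁻¹ = x * (x * u * x⁻¹) * x⁻¹ * (x * s * x⁻¹) by group,
        h.conj_s, e, ← h.s_comm _ (mul_mem hu (h.x_mem u hu))]
      have hb := h.x_mem u hu
      calc u * (x * u * x⁻¹) * s * s = u * (x * u * x⁻¹) * (s * s) := by group
        _ = u * (s * s) * (x * u * x⁻¹) := by rw [h.s_sq]; group
        _ = u * s * ((x * u * x⁻¹) * s) := by rw [h.s_comm _ hb]; group

theorem exists_sq (h : Pre s Q x) : ∃ u ∈ Q, u * u = s := by
  by_contra hh
  push Not at hh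
  have h1 : ∀ q ∈ Q, q * q = 1 := fun q hq => (h.sq q hq).resolve_right (hh q hq)
  have hQ : ∀ q ∈ Q, q = 1 ∨ q = s := fun q hq => h.center q hq fun r hr => by
    have e1 := inv_eq_of_mul_eq_one_right (h1 q hq)
    have e2 := inv_eq_of_mul_eq_one_right (h1 r hr)
    have e3 := inv_eq_of_mul_eq_one_right (h1 _ (mul_mem hq hr))
    rw [mul_inv_rev, e1, e2] at e3
    exact e3.symm
  classical
  have hc : Nat.card Q ≤ ({1, s} : Finset G).card := by
    rw [← Nat.card_eq_finsetCard]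
    exact Nat.card_le_card_of_injective (fun q : Q => (⟨(q : G), by
      rcases hQ q q.2 with e | e <;> simp [e]⟩ : ({1, s} : Finset G)))
      fun a b e => Subtype.ext (congrArg (fun t : ({1, s} : Finset G) => (t : G)) e)
  have := hc.trans Finset.card_le_two
  rw [h.card] at this
  omega

theorem exists_quat (h : Pre s Q x) : ∃ u, Quat s Q x u := by
  obtain ⟨u, hu, hu2⟩ := h.exists_sq
  rcases h.quat_or hu hu2 with e | e <;> exact ⟨_, e⟩

theorem turn_quat (h : Pre s Q x) {u : G} (hu : Quat s Q x u) : Quat s Q x (x * u * x⁻¹) :=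
  ⟨h.x_mem u hu.mem, h.x_sq hu.sq, by
    conv_lhs => rw [hu.turn]
    rw [show x * (u * (x * u * x⁻¹)) * x⁻¹ = (x * u * x⁻¹) * (x * (x * u * x⁻¹) * x⁻¹) by group]⟩

theorem commute_closure {u b g y : G} (h1 : Commute g u) (h2 : Commute g b)
    (hy : y ∈ Subgroup.closure ({u, b} : Set G)) : Commute g y := by
  induction hy using Subgroup.closure_induction with
  | mem z hz =>
    rcases hz with rfl | rfl
    exacts [h1, h2]
  | one => exact Commute.one_right _
  | mul _ _ _ _ p q => exact p.mul_right q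
  | inv _ _ p => exact p.inv_right

theorem exists_duo (h : Pre s Q x) {u : G} (hu : Quat s Q x u) : ∃ v, Duo s Q x u v := by
  obtain ⟨b, hb⟩ : ∃ b, b = x * u * x⁻¹ := ⟨_, rfl⟩
  have hq := hb ▸ h.turn_quat hu
  obtain ⟨hanti, -⟩ := h.anti hu.mem hu.sq
  rw [← hb] at hanti
  have hbu : b * u = s * (u * b) := by rw [hanti, ← mul_assoc, h.s_sq, one_mul]
  -- a factor from `{1, u, b, b u}` moves an element into the centraliser of `u` and `b`
  have adj : ∀ q ∈ Q, ∃ a, (a = 1 ∨ a = u ∨ a = b ∨ a = b * u) ∧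
      Commute (q * a) u ∧ Commute (q * a) b := by
    intro q hqQ
    obtain ⟨a, ha, haQ, e1⟩ : ∃ a, (a = 1 ∨ a = b) ∧ a ∈ Q ∧ Commute (q * a) u := by
      rcases h.comm q hqQ u hu.mem with e | e
      · exact ⟨1, Or.inl rfl, one_mem _, by rw [mul_one]; exact e⟩
      · refine ⟨b, Or.inr rfl, hq.mem, ?_⟩
        show q * b * u = u * (q * b)
        rw [mul_assoc q b u, hbu, ← mul_assoc q s, h.s_comm q hqQ, mul_assoc s q, ← mul_assoc q u b, e]
        calc s * (s * (u * q) * b) = s * s * (u * (q * b)) := by group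
          _ = u * (q * b) := by rw [h.s_sq, one_mul]
    rcases h.comm _ (mul_mem hqQ haQ) b hq.mem with e | e
    · exact ⟨a, by tauto, e1, e⟩
    · refine ⟨a * u, ?_, ?_, ?_⟩
      · rcases ha with rfl | rfl
        · exact Or.inr (Or.inl (one_mul _))
        · exact Or.inr (Or.inr (Or.inr rfl))
      · rw [← mul_assoc]; exact e1.mul_left (Commute.refl u)
      · rw [← mul_assoc]
        show q * a * u * b = b * (q * a * u)
        rw [mul_assoc _ u b, hanti, ← mul_assoc (q * a), h.s_comm _ (mul_mem hqQ haQ), mul_assoc s (q * a),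
          ← mul_assoc (q * a) b u, e]
        calc s * (s * (b * (q * a)) * u) = s * s * (b * (q * a * u)) := by group
          _ = b * (q * a * u) := by rw [h.s_sq, one_mul]
  have huA : u ∈ Subgroup.closure ({u, b} : Set G) := Subgroup.subset_closure (by simp)
  have hbA : b ∈ Subgroup.closure ({u, b} : Set G) := Subgroup.subset_closure (by simp)
  have hmemQ : ∀ a, (a = 1 ∨ a = u ∨ a = b ∨ a = b * u) → a ∈ Q := by
    rintro a (rfl | rfl | rfl | rfl)
    exacts [one_mem _, hu.mem, hq.mem, mul_mem hq.mem hu.mem]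
  obtain ⟨v, hvQ, hvu, hvb, hv1⟩ : ∃ v ∈ Q, Commute v u ∧ Commute v b ∧ ¬ (v = 1 ∨ v = s) := by
    by_contra! hh
    classical
    let T : Finset G := (({1, s} : Finset G) ×ˢ ({1, u, b, b * u} : Finset G)).image
      fun z : G × G => z.1 * z.2⁻¹
    have hT : T.card ≤ 8 := by
      refine Finset.card_image_le.trans ?_
      rw [Finset.card_product]
      exact Nat.mul_le_mul Finset.card_le_two Finset.card_le_four
    have hsub : ∀ q ∈ Q, q ∈ T := by
      intro q hqQ
      obtain ⟨a, ha, e1, e2⟩ := adj q hqQ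
      refine Finset.mem_image.mpr ⟨(q * a, a), Finset.mem_product.mpr ⟨?_, ?_⟩,
        mul_inv_cancel_right q a⟩
      · have := hh _ (mul_mem hqQ (hmemQ a ha)) e1 e2
        simpa using this
      · simpa using ha
    have : Nat.card Q ≤ T.card := by
      rw [← Nat.card_eq_finsetCard]
      exact Nat.card_le_card_of_injective (fun q : Q => (⟨(q : G), hsub q q.2⟩ : T))
        fun a c e => Subtype.ext (congrArg (fun t : T => (t : G)) e)
    rw [h.card] at this
    omega
  obtain ⟨r, hrQ, hru, hrb, hvr⟩ : ∃ r ∈ Q, Commute r u ∧ Commute r b ∧ ¬ Commute v r := by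
    by_contra! hh
    refine hv1 (h.center v hvQ fun q hqQ => ?_)
    obtain ⟨a, ha, e1, e2⟩ := adj q hqQ
    have e3 := hh _ (mul_mem hqQ (hmemQ a ha)) e1 e2
    have e4 : Commute v a := by
      rcases ha with rfl | rfl | rfl | rfl
      exacts [Commute.one_right _, hvu, hvb, hvb.mul_right hvu]
    have e5 := e3.mul_right e4.inv_right
    rwa [mul_inv_cancel_right] at e5
  -- one of `v`, `r`, `v r` squares to `s`
  obtain ⟨w, hwQ, hwu, hwb, w', hw'u, hw'b, hww', hw2⟩ : ∃ w ∈ Q, Commute w u ∧ Commute w b ∧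
      ∃ w', Commute w' u ∧ Commute w' b ∧ ¬ Commute w w' ∧ w * w = s := by
    rcases h.sq v hvQ with ev | ev
    swap
    · exact ⟨v, hvQ, hvu, hvb, r, hru, hrb, hvr, ev⟩
    rcases h.sq r hrQ with er | er
    swap
    · exact ⟨r, hrQ, hru, hrb, v, hvu, hvb, fun e => hvr e.symm, er⟩
    refine ⟨v * r, mul_mem hvQ hrQ, hvu.mul_left hru, hvb.mul_left hrb, v, hvu, hvb, fun e => hvr ?_, ?_⟩
    · have : Commute (v⁻¹ * (v * r)) v := (Commute.refl v).inv_left.mul_left e
      rw [inv_mul_cancel_left] at this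
      exact this.symm
    · rcases h.sq _ (mul_mem hvQ hrQ) with e | e
      · exfalso
        apply hvr
        show v * r = r * v
        calc v * r = (v * r)⁻¹ := eq_inv_of_mul_eq_one_left e
          _ = r⁻¹ * v⁻¹ := mul_inv_rev _ _
          _ = r * v := by rw [inv_eq_of_mul_eq_one_right ev, inv_eq_of_mul_eq_one_right er]
      · exact e
  have hw'A : ∀ y ∈ Subgroup.closure ({u, b} : Set G), Commute y w' := fun y hy =>
    (commute_closure hw'u hw'b hy).symm
  -- orientation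
  obtain ⟨v0, hv0, hv0Q, hv0u, hv0b, hv0'⟩ : ∃ v0, Quat s Q x v0 ∧ v0 ∈ Q ∧ Commute v0 u ∧
      Commute v0 b ∧ ¬ Commute v0 w' := by
    rcases h.quat_or hwQ hw2 with e | e
    · exact ⟨w, e, hwQ, hwu, hwb, hww'⟩
    · refine ⟨w * s, e, e.mem, hwu.mul_left (h.s_comm u hu.mem).symm,
        hwb.mul_left (h.s_comm b hq.mem).symm, fun hc => hww' ?_⟩
      have hsA : s ∈ Subgroup.closure ({u, b} : Set G) := hu.sq ▸ mul_mem huA huA
      have := hc.mul_left (hw'A s hsA).inv_left
      rwa [mul_inv_cancel_right] at this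
  have hxu : Commute b (x * v0 * x⁻¹) := by
    have := (hv0u.symm).map (MulAut.conj x).toMonoidHom
    simpa [hb] using this
  have hxc : Commute (u * b) (x * v0 * x⁻¹) := by
    have h1 : x * b * x⁻¹ = u * b := by rw [hb]; exact hu.turn
    have := (hv0b.symm).map (MulAut.conj x).toMonoidHom
    simpa [h1] using this
  have hxu' : Commute u (x * v0 * x⁻¹) := by
    have := hxc.mul_left hxu.inv_left
    rwa [mul_inv_cancel_right] at this
  refine ⟨v0, hu, hv0, hv0u.symm.eq, hxu'.eq, ?_, ?_, fun hA => hv0' (hw'A v0 ?_)⟩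
  · rw [← hb]; exact hv0b.symm.eq
  · rw [← hb]; exact hxu.eq
  · rw [hb]; exact hA

end Pre

end CfsgLib.ExtraSymThree
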