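import Cfsg.Agent.ExtraSymThree.NormalCase

/-!
The quotient by the normal `2³` is `PSL₃(2)`.
-/

set_option autoImplicit false

namespace CfsgLib.ExtraSymThree

abbrev Vec3 := Fin 3 → ZMod 2

/-- The code of a vector. -/
def vecCode (k b₀ b₁ b₂ : ℕ) (v : Vec3) : ℕ :=
  mulC k (mulC k (if v 0 = 1 then b₀ else 0) (if v 1 = 1 then b₁ else 0)) (if v 2 = 1 then b₂ else 0)

/-- The list is `2³` on the three given codes. -/
def BasisOK (k : ℕ) (El : List ℕ) (b₀ b₁ b₂ : ℕ) : Prop :=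
  ∀ v w : Vec3, vecCode k b₀ b₁ b₂ v ∈ El ∧
    mulC k (vecCode k b₀ b₁ b₂ v) (vecCode k b₀ b₁ b₂ w) = vecCode k b₀ b₁ b₂ (v + w) ∧
    (vecCode k b₀ b₁ b₂ v = vecCode k b₀ b₁ b₂ w → v = w)

instance (k : ℕ) (El : List ℕ) (b₀ b₁ b₂ : ℕ) : Decidable (BasisOK k El b₀ b₁ b₂) :=
  inferInstanceAs (Decidable (∀ v w : Vec3, _))

theorem card_GL_three : Nat.card (Matrix.GeneralLinearGroup (Fin 3) (ZMod 2)) = 168 := by
  haveI : Fact (Nat.Prime 2) := ⟨Nat.prime_two⟩
  rw [Matrix.card_GL_field, ZMod.card]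
  simp [Fin.prod_univ_three]

theorem det_two_eq_one (g : Matrix.GeneralLinearGroup (Fin 3) (ZMod 2)) :
    (g : Matrix (Fin 3) (Fin 3) (ZMod 2)).det = 1 := by
  have h : IsUnit (g : Matrix (Fin 3) (Fin 3) (ZMod 2)).det :=
    (Matrix.isUnit_iff_isUnit_det _).1 g.isUnit
  revert h
  generalize (g : Matrix (Fin 3) (Fin 3) (ZMod 2)).det = a
  intro h
  obtain ⟨u, rfl⟩ := h
  revert u
  decide

/-- `GL₃(2)` is `PSL₃(2)`. -/
theorem nonempty_GL_equiv_PSL : Nonempty (Matrix.GeneralLinearGroup (Fin 3) (ZMod 2) ≃*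
    Matrix.ProjectiveSpecialLinearGroup (Fin 3) (ZMod 2)) := by
  haveI : Fact (Nat.Prime 2) := ⟨Nat.prime_two⟩
  have hc : Subgroup.center (Matrix.SpecialLinearGroup (Fin 3) (ZMod 2)) = ⊥ := by
    rw [← Subgroup.card_eq_one, CfsgLib.Linear.card_center_SL]
    simp
  have hb : Function.Bijective (Matrix.SpecialLinearGroup.toGL :
      Matrix.SpecialLinearGroup (Fin 3) (ZMod 2) →* Matrix.GeneralLinearGroup (Fin 3) (ZMod 2)) :=
    ⟨fun a b h => Subtype.ext (congrArg Units.val h :),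
      fun g => ⟨⟨(g : Matrix (Fin 3) (Fin 3) (ZMod 2)), det_two_eq_one g⟩, Units.ext rfl⟩⟩
  exact ⟨(MulEquiv.ofBijective _ hb).symm.trans
    (((QuotientGroup.quotientMulEquivOfEq hc).trans QuotientGroup.quotientBot).symm)⟩

variable {G : Type*} [Group G] [Finite G] {k : ℕ} {s : G}

/-- A group of order 1344 with a self-centralising normal `2³`. -/
theorem Frame.quotient_eight (F : Frame k s) {El : List ℕ} (hok : eightOK k El = true)
    {b₀ b₁ b₂ : ℕ} (hb : BasisOK k El b₀ b₁ b₂) {e : ℕ} {g : G} (he : e ∈ El)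
    (hes : e ≠ sC) (m : F.Mover e g) (hfu : ∀ a, a < 192 → F.Fu a → a ∈ El) :
    ∃ (N : Subgroup G) (hN : N.Normal), IsMulCommutative N ∧ (∀ n ∈ N, n ^ 2 = 1) ∧ Nat.card N = 8 ∧
      Nonempty (G ⧸ N ≃* Matrix.ProjectiveSpecialLinearGroup (Fin 3) (ZMod 2)) := by
  obtain ⟨hcl, hnorm, hG, hself⟩ := F.normal_eight hok he hes m hfu
  obtain ⟨N, hN⟩ : ∃ N, N = F.subC El hcl := ⟨_, rfl⟩
  rw [← hN] at hnorm hself
  have hlt : ∀ a ∈ El, a < 192 := fun a ha => ((closedC_spec hcl).2 a ha).1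
  simp only [eightOK, Bool.and_eq_true, decide_eq_true_eq, Nat.beq_eq] at hok
  obtain ⟨⟨⟨⟨⟨⟨⟨⟨-, hlen⟩, hnd⟩, -⟩, -⟩, -⟩, -⟩, -⟩, -⟩ := hok
  -- the parametrisation
  let ψ : Vec3 → G := fun v => F.el (vecCode k b₀ b₁ b₂ v)
  have hψmem : ∀ v, ψ v ∈ N := fun v => hN ▸ ⟨_, (hb v v).1, rfl⟩
  have hψmul : ∀ v w, ψ v * ψ w = ψ (v + w) := fun v w => by
    show F.el _ * F.el _ = F.el _
    rw [← F.mul _ (hlt _ (hb v v).1) _ (hlt _ (hb w w).1), (hb v w).2.1]
  have hψinj : Function.Injective ψ := fun v w h =>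
    (hb v w).2.2 (F.inj _ (hlt _ (hb v v).1) _ (hlt _ (hb w w).1) h)
  have hcard : Nat.card N = 8 := by rw [hN, F.card_subC _ hnd, hlen]
  have hψsurj : ∀ y ∈ N, ∃ v, ψ v = y := by
    intro y hy
    obtain ⟨v, hv⟩ := ((show Function.Injective (fun v => (⟨ψ v, hψmem v⟩ : N)) from
      fun v w h => hψinj (congrArg Subtype.val h)).bijective_of_nat_card_le (by
        rw [hcard, Nat.card_fun, Nat.card_zmod, Nat.card_fin]; norm_num)).2 ⟨y, hy⟩
    exact ⟨v, congrArg Subtype.val hv⟩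
  have hψ0 : ψ 0 = 1 := by
    have := hψmul 0 0
    rw [add_zero] at this
    exact mul_eq_left.1 this
  have hψsq : ∀ v, ψ v * ψ v = 1 := fun v => by
    rw [hψmul, show v + v = 0 from funext fun i => CharTwo.add_self_eq_zero (v i), hψ0]
  -- the action
  have hex : ∀ (n : G) (v : Vec3), ∃ w, ψ w = n * ψ v * n⁻¹ := fun n v =>
    hψsurj _ (hnorm.conj_mem _ (hψmem v) n)
  choose a ha using hex
  have haadd : ∀ n v w, a n (v + w) = a n v + a n w := fun n v w => hψinj (by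
    rw [ha, ← hψmul, ← hψmul, ha, ha]; group)
  let f : G → (Vec3 →ₗ[ZMod 2] Vec3) := fun n => (AddMonoidHom.mk' (a n) (haadd n)).toZModLinearMap 2
  have hfa : ∀ n v, f n v = a n v := fun _ _ => rfl
  have hfmul : ∀ n n', f (n * n') = f n * f n' := fun n n' => LinearMap.ext fun v => hψinj (by
    rw [Module.End.mul_apply, hfa, hfa, hfa, ha, ha, ha]; group)
  have hf1 : f 1 = 1 := LinearMap.ext fun v => hψinj (by
    rw [hfa, ha, Module.End.one_apply]; group)
  let fu : G →* LinearMap.GeneralLinearGroup (ZMod 2) Vec3 := MonoidHom.toHomUnits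
    { toFun := f, map_one' := hf1, map_mul' := hfmul }
  have hker : fu.ker = N := by
    ext n
    rw [MonoidHom.mem_ker]
    constructor
    · intro hn
      refine hself (Subgroup.mem_centralizer_iff.2 fun y hy => ?_)
      obtain ⟨v, rfl⟩ := hψsurj y hy
      have h1 : f n v = v := by
        have := congrArg (fun u : LinearMap.GeneralLinearGroup (ZMod 2) Vec3 => (u : Vec3 →ₗ[ZMod 2] Vec3) v) hn
        simpa [fu] using this
      have h2 := ha n v
      rw [← hfa, h1] at h2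
      exact (mul_inv_eq_iff_eq_mul.1 h2.symm).symm
    · intro hn
      refine Units.ext (LinearMap.ext fun v => hψinj ?_)
      show ψ (a n v) = ψ v
      obtain ⟨w, rfl⟩ := hψsurj n hn
      rw [ha, hψmul, inv_eq_of_mul_eq_one_right (hψsq w), hψmul]
      congr 1
      rw [add_comm w v, add_assoc, show w + w = 0 from funext fun i => CharTwo.add_self_eq_zero (w i),
        add_zero]
  let Φ : G →* Matrix.GeneralLinearGroup (Fin 3) (ZMod 2) :=
    (Matrix.GeneralLinearGroup.toLin (n := Fin 3) (R := ZMod 2)).symm.toMonoidHom.comp fu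
  have hΦker : Φ.ker = N := by
    rw [← hker]
    ext n
    simp [Φ]
  haveI : N.Normal := hnorm
  have hrange : Φ.range = ⊤ := by
    refine Subgroup.eq_top_of_card_eq _ ?_
    rw [card_GL_three, ← Subgroup.index_ker, hΦker]
    have := N.card_mul_index
    rw [hcard, hG] at this
    omega
  obtain ⟨e'⟩ := nonempty_GL_equiv_PSL
  refine ⟨N, hnorm, ⟨⟨fun x y => Subtype.ext ?_⟩⟩, fun n hn => ?_, hcard,
    ⟨((QuotientGroup.quotientMulEquivOfEq hΦker.symm).trans
      ((QuotientGroup.quotientKerEquivRange Φ).trans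
        ((MulEquiv.subgroupCongr hrange).trans Subgroup.topEquiv))).trans e'⟩⟩
  · obtain ⟨v, hv⟩ := hψsurj x x.2
    obtain ⟨w, hw⟩ := hψsurj y y.2
    show (x : G) * y = y * x
    rw [← hv, ← hw, hψmul, hψmul, add_comm]
  · obtain ⟨v, rfl⟩ := hψsurj n hn
    rw [sq, hψsq]

end CfsgLib.ExtraSymThree
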