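import Cfsg.Agent.ExtraSymThree.Orbits

/-!
The action of the movers on an elementary abelian subgroup of order 16 in kind 2.
-/

set_option autoImplicit false

namespace CfsgLib.ExtraSymThree

/-- The subgroup of order 16. -/
def sixW : List ℕ := [0, 1, 30, 31, 66, 67, 84, 85, 96, 97, 126, 127, 162, 163, 180, 181]

/-- The chosen member of each class in `Q`. -/
def eW (i : ℕ) : ℕ := [30, 66, 84].getD i 0

/-- The fourth basis element. -/
def bW (i : ℕ) : ℕ := [66, 30, 30].getD i 0

/-- An element of the centraliser of `eW i` acting nontrivially. -/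
def pW (i : ℕ) : ℕ := [6, 18, 12].getD i 0

/-- The table of a linear map given on a basis. -/
def tblOf (l : List (ℕ × ℕ)) : List (ℕ × ℕ) :=
  l.foldl (fun acc p => acc ++ acc.map fun q => (mulC 2 q.1 p.1, mulC 2 q.2 p.2)) [(0, 0)]

/-- The value of a table. -/
def app (t : List (ℕ × ℕ)) (z : ℕ) : ℕ := (t.lookup z).getD 0

/-- The candidate table of a mover. -/
def betaOf (i : ℕ) (p : ℕ × ℕ) : List (ℕ × ℕ) :=
  tblOf [(sC, eW i), (eW i, mulC 2 sC (eW i)), (1, p.1), (bW i, p.2)]

/-- The possible images of the third and fourth basis elements. -/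
def optW (i : ℕ) : List (ℕ × ℕ) :=
  [[(67, 1), (85, 97), (163, 31), (181, 127)], [(31, 1), (85, 97), (127, 67), (181, 163)],
    [(31, 1), (67, 97), (127, 85), (163, 181)]].getD i []

/-- The number of elements of the centraliser of `e` commuting with `b`. -/
def commCount (e b : ℕ) : ℕ := ((centC 2 e).filter fun d => mulC 2 d b == mulC 2 b d).length

theorem sixW_char : ((List.range 3).all fun i =>
    (centC 2 (eW i)).all (fun b =>
      (mulC 2 b b == 0 && decide (16 ≤ commCount (eW i) b)) == sixW.contains b) &&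
    sixW.all (fun b => (centC 2 (eW i)).contains b) && (centC 2 (eW i)).contains (pW i) &&
    decide (eW i < 192) && eW i % 6 == 0 && !(eW i == sC)) = true := by
  decide +kernel

/-- The conditions on a candidate table. -/
def betaOK (i : ℕ) (t : List (ℕ × ℕ)) : Bool :=
  (sixW.all fun z => sixW.contains (app t z) && app t (app t (app t z)) == z) &&
    (centC 2 (eW i)).any fun p => sixW.all fun z => app t (conC 2 (pW i) z) == conC 2 p (app t z)

theorem beta_complete : ((List.range 3).all fun i => sixW.all fun c => sixW.all fun d =>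
    !(betaOK i (betaOf i (c, d))) || (optW i).contains (c, d)) = true := by
  decide +kernel

theorem beta_domain : ((List.range 3).all fun i => sixW.all fun c => sixW.all fun d => sixW.all fun z =>
    (betaOf i (c, d)).any fun p => p.1 == z) = true := by
  decide +kernel

/-- The class of a code. -/
def clsC (z : ℕ) : ℕ :=
  if orbQ0.contains z then 0 else if orbQ1.contains z then 1 else if orbQ2.contains z then 2
  else if orbA.contains z then 3 else if orbB.contains z then 4 else if z == sC then 5 else 6

/-- A table keeps a set of classes. -/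
def keeps (f : List Bool) (t : List (ℕ × ℕ)) : Bool :=
  sixW.all fun z => f.getD (clsC z) false == f.getD (clsC (app t z)) false

theorem consistency : ∀ a b c d e : Bool,
    ((List.range 3).all fun i => !([a, b, c].getD i false) ||
      (optW i).any fun p => keeps [a, b, c, d, e, true, false] (betaOf i p)) = true →
    (a || b || c) = true →
    [a, b, c, d, e] ∈
      [[true, false, false, false, false], [false, true, false, false, false],
        [false, false, true, false, false], [true, true, false, true, false],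
        [true, true, false, false, true], [true, false, true, true, false],
        [true, false, true, false, true], [false, true, true, true, false],
        [false, true, true, false, true], [true, true, true, true, true]] := by
  decide +kernel

/-- The letters of the test words: three movers and three codes. -/
def letterTbl (o : ℕ → ℕ × ℕ) (l : ℕ) : List (ℕ × ℕ) :=
  if l < 3 then betaOf l (o l) else sixW.map fun z => (z, conC 2 (pW (l - 3)) z)

/-- The test words. -/
def testWords : List (List ℕ) := [[0, 4, 0], [1, 3, 1], [2, 3, 2], [0, 1, 0, 0, 2], [2, 0, 1, 2, 2]]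

/-- The action of a word. -/
def wordApp (o : ℕ → ℕ × ℕ) (w : List ℕ) (z : ℕ) : ℕ := w.foldr (fun l y => app (letterTbl o l) y) z

theorem all_fused_bad : ((optW 0).all fun a => (optW 1).all fun b => (optW 2).all fun c =>
    testWords.any fun w => wordApp (fun l => [a, b, c].getD l (0, 0)) w sC == sC &&
      codes.all fun g => sixW.any fun z =>
        !(conC 2 g z == wordApp (fun l => [a, b, c].getD l (0, 0)) w z)) = true := by
  decide +kernel

theorem letters_ok : ((List.range 3).all fun i => sixW.all fun z =>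
    sixW.contains (conC 2 (pW i) z) && decide (pW i < 192)) = true := by
  decide +kernel

theorem classes_two : ∀ i < 3, classOK 2 ([orbQ0, orbQ1, orbQ2].getD i []) = true ∧
    eW i ∈ [orbQ0, orbQ1, orbQ2].getD i [] := by
  decide +kernel

theorem six_classes : (sixW.all fun z => decide (z < 192) &&
    (Nat.beq z 0 && Nat.beq (clsC z) 6 || Nat.beq z sC && Nat.beq (clsC z) 5 ||
      decide (clsC z < 5) && ([orbQ0, orbQ1, orbQ2, orbA, orbB].getD (clsC z) []).contains z)) = true := by
  decide +kernel

variable {G : Type*} [Group G] {s : G}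

namespace Frame

variable (F : Frame 2 s)

/-- Conjugation by `g` follows the table. -/
def Moves (g : G) (t : List (ℕ × ℕ)) : Prop :=
  ∀ p ∈ t, p.1 < 192 ∧ p.2 < 192 ∧ g * F.el p.1 * g⁻¹ = F.el p.2

theorem moves_tblOf (g : G) (l : List (ℕ × ℕ)) (h : F.Moves g l) : F.Moves g (tblOf l) := by
  suffices ∀ (l acc : List (ℕ × ℕ)), F.Moves g l → F.Moves g acc →
      F.Moves g (l.foldl (fun acc p => acc ++ acc.map fun q => (mulC 2 q.1 p.1, mulC 2 q.2 p.2)) acc) by
    refine this l _ h fun p hp => ?_
    rw [List.mem_singleton.1 hp]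
    exact ⟨by norm_num, by norm_num, by rw [F.el_zero]; group⟩
  intro l
  induction l with
  | nil => intro acc _ ha; exact ha
  | cons p rest ih =>
    intro acc hl ha
    refine ih _ (fun q hq => hl q (List.mem_cons_of_mem _ hq)) fun q hq => ?_
    rcases List.mem_append.1 hq with hq | hq
    · exact ha q hq
    · obtain ⟨r, hr, rfl⟩ := List.mem_map.1 hq
      obtain ⟨a1, a2, a3⟩ := ha r hr
      obtain ⟨p1, p2, p3⟩ := hl p List.mem_cons_self
      refine ⟨mulC_lt _ _ _, mulC_lt _ _ _, ?_⟩
      rw [F.mul _ a1 _ p1, F.mul _ a2 _ p2, ← a3, ← p3]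
      group

theorem mem_lookup : ∀ (t : List (ℕ × ℕ)) (z : ℕ), (t.any fun p => p.1 == z) = true → (z, app t z) ∈ t
  | [], z, h => by simp at h
  | (a, b) :: t, z, h => by
    by_cases e : z = a
    · subst e
      simp [app, List.lookup_cons]
    · have : (t.any fun p => p.1 == z) = true := by
        simpa [List.any_cons, Ne.symm e] using h
      have ih := mem_lookup t z this
      have : app ((a, b) :: t) z = app t z := by
        simp [app, List.lookup_cons, beq_eq_false_iff_ne.2 e]
      rw [this]
      exact List.mem_cons_of_mem _ ih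

variable [Finite G]

/-- A mover of `eW i` normalises the subgroup of order 16. -/
theorem Mover.six {F : Frame 2 s} {i : ℕ} (hi : i < 3) {g : G} (m : F.Mover (eW i) g) :
    ∀ z ∈ sixW, ∃ z' ∈ sixW, g * F.el z * g⁻¹ = F.el z' := by
  classical
  intro z hz
  have h := List.all_eq_true.1 sixW_char i (List.mem_range.2 hi)
  simp only [Bool.and_eq_true, List.all_eq_true, List.contains_iff_mem] at h
  obtain ⟨⟨⟨⟨⟨hchar, hsub⟩, -⟩, -⟩, -⟩, -⟩ := h
  obtain ⟨z', hz', hzz⟩ := m.map (hsub z hz)
  have hzlt := mem_codes.1 (List.mem_filter.1 (hsub z hz)).1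
  have hz'lt := mem_codes.1 (List.mem_filter.1 hz').1
  have hzc := beq_iff_eq.1 (hchar z (hsub z hz))
  rw [List.contains_iff_mem.2 hz] at hzc
  simp only [Bool.and_eq_true, beq_iff_eq, decide_eq_true_eq] at hzc
  refine ⟨z', ?_, hzz.symm⟩
  have hsq : mulC 2 z' z' = 0 := by
    rw [← F.mul_self_iff hz'lt, hzz]
    calc g * F.el z * g⁻¹ * (g * F.el z * g⁻¹) = g * (F.el z * F.el z) * g⁻¹ := by group
      _ = 1 := by rw [(F.mul_self_iff hzlt).2 hzc.1]; group
  have hle : commCount (eW i) z ≤ commCount (eW i) z' := by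
    have hex : ∀ d ∈ (centC 2 (eW i)).filter (fun d => mulC 2 d z == mulC 2 z d), ∃ c,
        c ∈ (centC 2 (eW i)).filter (fun d => mulC 2 d z' == mulC 2 z' d) ∧
          F.el c = g * F.el d * g⁻¹ := by
      intro d hd
      obtain ⟨hdT, hdz⟩ := List.mem_filter.1 hd
      obtain ⟨c, hc, hce⟩ := m.map hdT
      have hd' := mem_codes.1 (List.mem_filter.1 hdT).1
      have hc' := mem_codes.1 (List.mem_filter.1 hc).1
      refine ⟨c, List.mem_filter.2 ⟨hc, beq_iff_eq.2 ((F.mul_comm_iff hc' hz'lt).1 ?_)⟩, hce⟩
      rw [hce, hzz]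
      exact ((Commute.conj_iff g).2 ((F.mul_comm_iff hd' hzlt).2 (beq_iff_eq.1 hdz))).eq
    choose f hf hfe using hex
    have hnd : ∀ b, ((centC 2 (eW i)).filter fun d => mulC 2 d b == mulC 2 b d).Nodup := fun b =>
      (List.nodup_range.filter _).filter _
    show List.length _ ≤ List.length _
    rw [← List.toFinset_card_of_nodup (hnd z), ← List.toFinset_card_of_nodup (hnd z')]
    refine Finset.card_le_card_of_injOn (fun b => if h : b ∈ _ then f b h else 0) ?_ ?_
    · intro b hb
      have hb' := List.mem_toFinset.1 hb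
      simp only [hb', dite_true]
      exact List.mem_toFinset.2 (hf b hb')
    · intro b hb b' hb' he
      have h1 := List.mem_toFinset.1 hb
      have h2 := List.mem_toFinset.1 hb'
      simp only [h1, h2, dite_true] at he
      have := congrArg F.el he
      rw [hfe, hfe] at this
      exact F.inj b (mem_codes.1 (List.mem_filter.1 (List.mem_filter.1 h1).1).1) b'
        (mem_codes.1 (List.mem_filter.1 (List.mem_filter.1 h2).1).1)
        (mul_left_cancel (mul_right_cancel this))
  have h' := beq_iff_eq.1 (hchar z' hz')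
  rw [hsq, decide_eq_true (hzc.2.trans hle)] at h'
  simp at h'
  exact h'

/-- The action of a mover on the subgroup of order 16 is one of four. -/
theorem Mover.exists_beta {F : Frame 2 s} {i : ℕ} (hi : i < 3) {g : G} (m : F.Mover (eW i) g) :
    ∃ p ∈ optW i, F.Moves g (betaOf i p) := by
  have hir := List.mem_range.2 hi
  have h := List.all_eq_true.1 sixW_char i hir
  simp only [Bool.and_eq_true, List.all_eq_true, List.contains_iff_mem, decide_eq_true_eq] at h
  obtain ⟨⟨⟨⟨⟨-, hsub⟩, hp⟩, helt⟩, -⟩, -⟩ := h
  have hb : 1 ∈ sixW ∧ bW i ∈ sixW ∧ sC ∈ sixW := by interval_cases i <;> decide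
  obtain ⟨c, hc, hce⟩ := m.six hi 1 hb.1
  obtain ⟨d, hd, hde⟩ := m.six hi (bW i) hb.2.1
  have hlt : ∀ z ∈ sixW, z < 192 := by decide
  have hm : F.Moves g (betaOf i (c, d)) := by
    refine F.moves_tblOf g _ fun p hp' => ?_
    fin_cases hp'
    · exact ⟨by norm_num, helt, by rw [F.el_sC]; exact m.move_s⟩
    · refine ⟨helt, mulC_lt _ _ _, ?_⟩
      show g * F.el (eW i) * g⁻¹ = F.el (mulC 2 sC (eW i))
      rw [F.mul _ (by norm_num) _ helt, F.el_sC]
      exact m.move_e
    · exact ⟨by norm_num, hlt c hc, hce⟩
    · exact ⟨hlt _ hb.2.1, hlt d hd, hde⟩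
  refine ⟨(c, d), ?_, hm⟩
  have hdom : ∀ z ∈ sixW, app (betaOf i (c, d)) z ∈ sixW ∧
      g * F.el z * g⁻¹ = F.el (app (betaOf i (c, d)) z) := by
    intro z hz
    have h1 := List.all_eq_true.1 (List.all_eq_true.1 (List.all_eq_true.1
      (List.all_eq_true.1 beta_domain i hir) c hc) d hd) z hz
    obtain ⟨-, h2, h3⟩ := hm _ (mem_lookup _ _ h1)
    obtain ⟨z', hz', hze⟩ := m.six hi z hz
    have := F.inj _ h2 z' (hlt z' hz') (h3.symm.trans hze)
    exact ⟨(show app (betaOf i (c, d)) z = z' from this).symm ▸ hz', h3⟩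
  have hOK : betaOK i (betaOf i (c, d)) = true := by
    simp only [betaOK, Bool.and_eq_true, List.all_eq_true, List.any_eq_true, List.contains_iff_mem,
      beq_iff_eq]
    refine ⟨fun z hz => ⟨(hdom z hz).1, ?_⟩, ?_⟩
    · obtain ⟨h1, e1⟩ := hdom z hz
      obtain ⟨h2, e2⟩ := hdom _ h1
      obtain ⟨h3, e3⟩ := hdom _ h2
      refine F.inj _ (hlt _ h3) z (hlt z hz) ?_
      rw [← e3, ← e2, ← e1]
      calc g * (g * (g * F.el z * g⁻¹) * g⁻¹) * g⁻¹
          = g * g * g * F.el z * (g * g * g)⁻¹ := by group
        _ = F.el z := by rw [m.cube]; group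
    · obtain ⟨p', hp', hpe⟩ := m.map hp
      refine ⟨p', hp', fun z hz => ?_⟩
      have hpl := mem_codes.1 (List.mem_filter.1 hp).1
      have hp'l := mem_codes.1 (List.mem_filter.1 hp').1
      have hcz : conC 2 (pW i) z ∈ sixW := List.contains_iff_mem.1 (Bool.and_eq_true _ _ ▸
        List.all_eq_true.1 (List.all_eq_true.1 letters_ok i hir) z hz).1
      obtain ⟨h1, e1⟩ := hdom _ hcz
      obtain ⟨h2, e2⟩ := hdom z hz
      refine F.inj _ (hlt _ h1) _ (conC_lt _ _ _) ?_
      rw [← e1, F.el_conC hp'l (hlt _ h2), ← e2, hpe, F.el_conC hpl (hlt z hz)]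
      group
  have := List.all_eq_true.1 (List.all_eq_true.1 (List.all_eq_true.1 beta_complete i hir) c hc) d hd
  simpa [hOK] using this

end Frame

end CfsgLib.ExtraSymThree
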