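import Cfsg.Agent.ExtraSymThree.Fusion
import Cfsg.Agent.Small.DihedralConj

/-!
Subgroups given by closed lists of codes, and the Sylow 2-subgroup.
-/

set_option autoImplicit false

namespace CfsgLib.ExtraSymThree

/-- A list of codes closed under products. -/
def closedC (k : ℕ) (l : List ℕ) : Bool :=
  l.contains 0 && l.all (fun a => decide (a < 192) && l.contains (invC k a) &&
    l.all fun b => l.contains (mulC k a b))

theorem closedC_spec {k : ℕ} {l : List ℕ} (h : closedC k l = true) :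
    0 ∈ l ∧ ∀ a ∈ l, a < 192 ∧ invC k a ∈ l ∧ ∀ b ∈ l, mulC k a b ∈ l := by
  simp only [closedC, Bool.and_eq_true, List.all_eq_true, List.contains_iff_mem,
    decide_eq_true_eq] at h
  exact ⟨h.1, fun a ha => ⟨(h.2 a ha).1.1, (h.2 a ha).1.2, (h.2 a ha).2⟩⟩

/-- The codes without `x`. -/
def sylC : List ℕ := codes.filter fun a => Nat.beq (a / 2 % 3) 0

theorem sylC_checks : ((List.range 4).all fun k => closedC k sylC &&
    sylC.all fun a => !(sylC.all fun b => mulC k a b == mulC k b a) || (a == 0 || a == sC)) = true := by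
  decide +kernel

theorem sylC_length : sylC.length = 64 := by decide +kernel

theorem sylC_nodup : sylC.Nodup := by decide +kernel

variable {G : Type*} [Group G] {k : ℕ} {s : G}

/-- Two involutions are conjugate or commute with a common involution. -/
theorem conj_or_common [Finite G] {a b : G} (ha : orderOf a = 2) (hb : orderOf b = 2) :
    IsConj a b ∨ ∃ z : G, orderOf z = 2 ∧ z * a = a * z ∧ z * b = b * z := by
  rcases Nat.even_or_odd (orderOf (a * b)) with hev | ⟨r, hr⟩
  · obtain ⟨hz, hza, hzb⟩ := CfsgLib.Small.half_pow_spec ha hb hev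
    exact Or.inr ⟨_, hz, hza, hzb⟩
  · obtain ⟨d, -, hd⟩ := CfsgLib.Small.conj_closure_pair_exists ha hb ((r : ℤ) + 1)
    refine Or.inl (isConj_iff.2 ⟨d, hd.trans ?_⟩)
    rw [show 2 * ((r : ℤ) + 1) = ((orderOf (a * b) : ℕ) : ℤ) + 1 by rw [hr]; push_cast; ring,
      zpow_add, zpow_natCast, pow_orderOf_eq_one, one_mul, zpow_one, ← mul_assoc,
      CfsgLib.Small.mul_self_of_orderOf_two ha, one_mul]

namespace Frame

variable (F : Frame k s)

/-- The subgroup of a closed list. -/
def subC (l : List ℕ) (h : closedC k l = true) : Subgroup G where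
  carrier := {g | ∃ a ∈ l, F.el a = g}
  one_mem' := ⟨0, (closedC_spec h).1, F.el_zero⟩
  mul_mem' := by
    rintro _ _ ⟨a, ha, rfl⟩ ⟨b, hb, rfl⟩
    obtain ⟨ha', -, hab⟩ := (closedC_spec h).2 a ha
    exact ⟨mulC k a b, hab b hb, F.mul a ha' b ((closedC_spec h).2 b hb).1⟩
  inv_mem' := by
    rintro _ ⟨a, ha, rfl⟩
    obtain ⟨ha', hi, -⟩ := (closedC_spec h).2 a ha
    exact ⟨invC k a, hi, F.el_inv ha'⟩

theorem mem_subC {l : List ℕ} {h : closedC k l = true} {g : G} :
    g ∈ F.subC l h ↔ ∃ a ∈ l, F.el a = g := Iff.rfl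

theorem el_mem_subC {l : List ℕ} {h : closedC k l = true} {a : ℕ} (ha : a < 192) :
    F.el a ∈ F.subC l h ↔ a ∈ l := by
  refine ⟨?_, fun ha' => ⟨a, ha', rfl⟩⟩
  rintro ⟨b, hb, he⟩
  exact F.inj b ((closedC_spec h).2 b hb).1 a ha he ▸ hb

theorem card_subC {l : List ℕ} (h : closedC k l = true) (hnd : l.Nodup) :
    Nat.card (F.subC l h) = l.length := by
  let f : Fin l.length → F.subC l h := fun i => ⟨F.el l[i], l[i], List.getElem_mem i.2, rfl⟩
  have hf : Function.Bijective f := by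
    constructor
    · intro i j e
      have hlt := fun a (ha : a ∈ l) => ((closedC_spec h).2 a ha).1
      exact Fin.ext ((List.Nodup.getElem_inj_iff hnd).1
        (F.inj _ (hlt _ (List.getElem_mem i.2)) _ (hlt _ (List.getElem_mem j.2))
          (congrArg Subtype.val e)))
    · rintro ⟨_, a, ha, rfl⟩
      obtain ⟨i, hi, rfl⟩ := List.getElem_of_mem ha
      exact ⟨⟨i, hi⟩, rfl⟩
  rw [← Nat.card_eq_of_bijective f hf, Nat.card_fin]

theorem subC_le {l : List ℕ} (h : closedC k l = true) :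
    F.subC l h ≤ Subgroup.centralizer ({s} : Set G) := by
  rintro _ ⟨a, ha, rfl⟩
  exact Subgroup.mem_centralizer_singleton_iff.2 (F.commute ((closedC_spec h).2 a ha).1)

include F in
theorem card_centralizer : Nat.card (Subgroup.centralizer ({s} : Set G)) = 192 := by
  let f : Fin 192 → Subgroup.centralizer ({s} : Set G) := fun i =>
    ⟨F.el i, Subgroup.mem_centralizer_singleton_iff.2 (F.commute i.2)⟩
  have hf : Function.Bijective f := by
    refine ⟨fun i j e => Fin.ext (F.inj i i.2 j j.2 (congrArg Subtype.val e)), fun g => ?_⟩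
    obtain ⟨a, ha, e⟩ := F.exists_code (Subgroup.mem_centralizer_singleton_iff.1 g.2)
    exact ⟨⟨a, ha⟩, Subtype.ext e⟩
  rw [← Nat.card_eq_of_bijective f hf, Nat.card_fin]

include F in
theorem syl_closed : closedC k sylC = true ∧
    ∀ a ∈ sylC, (∀ b ∈ sylC, mulC k a b = mulC k b a) → a = 0 ∨ a = sC := by
  have h := List.all_eq_true.1 sylC_checks k (List.mem_range.2 F.klt)
  simp only [Bool.and_eq_true, List.all_eq_true, Bool.or_eq_true, Bool.not_eq_eq_eq_not,
    Bool.not_true, beq_iff_eq] at h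
  refine ⟨h.1, fun a ha hc => (h.2 a ha).resolve_left fun hf => ?_⟩
  rw [List.all_eq_false] at hf
  obtain ⟨b, hb, hne⟩ := hf
  exact hne (beq_iff_eq.2 (hc b hb))

variable [Finite G]

/-- The codes without `x` give a Sylow 2-subgroup of `G`. -/
theorem exists_sylow : ∃ S : Sylow 2 G, (S : Subgroup G) = F.subC sylC F.syl_closed.1 := by
  haveI : Fact (Nat.Prime 2) := ⟨Nat.prime_two⟩
  set T := F.subC sylC F.syl_closed.1 with hT
  have hc : Nat.card T = 2 ^ 6 := by
    rw [hT, F.card_subC _ sylC_nodup, sylC_length]; norm_num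
  have hTp : IsPGroup 2 T := IsPGroup.of_card hc
  obtain ⟨P, hP⟩ := hTp.exists_le_sylow
  refine ⟨P, le_antisymm ?_ hP⟩
  by_contra hlt
  obtain ⟨n, hnP, hn⟩ := SetLike.not_le_iff_exists.1 hlt
  haveI : Group.IsNilpotent (P : Subgroup G) := P.2.isNilpotent
  have hne : T.subgroupOf (P : Subgroup G) ≠ ⊤ := fun e => hn (Subgroup.subgroupOf_eq_top.1 e hnP)
  obtain ⟨m, hmN, hmT⟩ := SetLike.exists_of_lt (Group.normalizerCondition_of_isNilpotent _ (lt_top_iff_ne_top.2 hne))
  -- the new element fixes the centre of `T`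
  have hmT' : (m : G) ∉ T := fun e => hmT (Subgroup.mem_subgroupOf.2 e)
  have hmem : ∀ y ∈ T, (m : G) * y * (m : G)⁻¹ ∈ T ∧ (m : G)⁻¹ * y * (m : G) ∈ T := by
    intro y hy
    have hy' : (⟨y, hP hy⟩ : (P : Subgroup G)) ∈ T.subgroupOf (P : Subgroup G) :=
      Subgroup.mem_subgroupOf.2 hy
    exact ⟨(Subgroup.mem_normalizer_iff.1 hmN _).1 hy', (Subgroup.mem_normalizer_iff''.1 hmN _).1 hy'⟩
  have hsT : s ∈ T := ⟨sC, by decide +kernel, F.el_sC⟩
  obtain ⟨a, ha, hae⟩ := (hmem s hsT).1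
  have ha' := ((closedC_spec F.syl_closed.1).2 a ha).1
  have hms : (m : G) * s = s * m := by
    rcases F.syl_closed.2 a ha (fun b hb => by
      have hb' := ((closedC_spec F.syl_closed.1).2 b hb).1
      refine (F.mul_comm_iff ha' hb').1 ?_
      obtain ⟨c, hc, hce⟩ := (hmem _ ⟨b, hb, rfl⟩).2
      have h1 : Commute s (F.el c) := (F.commute ((closedC_spec F.syl_closed.1).2 c hc).1).symm
      have h2 := (Commute.conj_iff (m : G)).2 (hce ▸ h1)
      rw [hae]
      simpa [mul_assoc] using h2.eq) with rfl | rfl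
    · exfalso
      rw [F.el_zero] at hae
      have := F.orderOf_s
      rw [conj_eq_one_iff.1 hae.symm, orderOf_one] at this
      omega
    · rw [F.el_sC] at hae
      exact mul_inv_eq_iff_eq_mul.1 hae.symm
  have hsup : Subgroup.zpowers (m : G) ⊔ T ≤ (P : Subgroup G) ⊓ Subgroup.centralizer ({s} : Set G) :=
    sup_le (Subgroup.zpowers_le.2 ⟨m.2, Subgroup.mem_centralizer_singleton_iff.2 hms⟩)
      (le_inf hP (F.subC_le _))
  obtain ⟨i, hi⟩ := IsPGroup.iff_card.1 ((P.2.to_le (inf_le_left (b := Subgroup.centralizer ({s} : Set G)))))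
  have hd : (2 : ℕ) ^ i ∣ 192 := by
    rw [← hi, ← F.card_centralizer]
    exact Subgroup.card_dvd_of_le inf_le_right
  have hi6 : i ≤ 6 := by
    by_contra h7
    have : (2 : ℕ) ^ 7 ∣ 192 := (pow_dvd_pow 2 (by omega : 7 ≤ i)).trans hd
    norm_num at this
  have heq : T = (P : Subgroup G) ⊓ Subgroup.centralizer ({s} : Set G) :=
    Subgroup.eq_of_le_of_card_ge (le_sup_right.trans hsup) (by
      rw [hi, hc]; exact Nat.pow_le_pow_right (by norm_num) hi6)
  exact hmT' (heq ▸ hsup (Subgroup.mem_sup_left (Subgroup.mem_zpowers _)))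

/-- Every involution of `G` is conjugate to a coded one. -/
theorem exists_conj_code {y : G} (hy : orderOf y = 2) :
    ∃ a ∈ sylC, IsConj y (F.el a) := by
  haveI : Fact (Nat.Prime 2) := ⟨Nat.prime_two⟩
  obtain ⟨S, hS⟩ := F.exists_sylow
  obtain ⟨R, hR⟩ := (IsPGroup.of_card (p := 2) (n := 1)
    (show Nat.card (Subgroup.zpowers y) = 2 ^ 1 by rw [Nat.card_zpowers, hy, pow_one])).exists_le_sylow
  obtain ⟨g, hg⟩ := MulAction.exists_smul_eq G R S
  have : g * y * g⁻¹ ∈ (S : Subgroup G) := by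
    rw [← hg, Sylow.coe_subgroup_smul]
    exact ⟨y, hR (Subgroup.mem_zpowers y), rfl⟩
  rw [hS] at this
  obtain ⟨a, ha, hae⟩ := this
  exact ⟨a, ha, isConj_iff.2 ⟨g, hae.symm⟩⟩

end Frame

end CfsgLib.ExtraSymThree
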